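import Cfsg.Agent.Comp.Ly.Cen

set_option autoImplicit false
set_option maxRecDepth 100000

namespace Cfsg.Agent.Comp.Ly
open Cfsg.Agent.Comp

open _root_.Cfsg.Agent.Comp.G25 (El Seg o TL one val sv sv_o val_append mkD mkD_s mkD_TL divB eqS eqS_spec
  cjB cnt cnt_split mkL mkL_mem enum_le conj_ge)

theorem ct2_0 : cnt (cjB (nat_lit 4) 2) (List.take 4 U2) V2 = 2 := by decide +kernel

theorem ct2_1 : cnt (cjB (nat_lit 4) 2) (List.take 4 (List.drop 4 U2)) V2 = 8 := by decide +kernel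

theorem ct2_2 : cnt (cjB (nat_lit 4) 2) (List.take 4 (List.drop 4 (List.drop 4 U2))) V2 = 4 := by decide +kernel

theorem ct2_3 : cnt (cjB (nat_lit 4) 2) (List.take 4 (List.drop 4 (List.drop 4 (List.drop 4 U2)))) V2 = 4 := by decide +kernel

theorem ct2_4 : cnt (cjB (nat_lit 4) 2) (List.take 4 (List.drop 4 (List.drop 4 (List.drop 4 (List.drop 4 U2))))) V2 = 4 := by decide +kernel

theorem ct2_5 : cnt (cjB (nat_lit 4) 2) (List.take 4 (List.drop 4 (List.drop 4 (List.drop 4 (List.drop 4 (List.drop 4 U2)))))) V2 = 4 := by decide +kernel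

theorem ct2_6 : cnt (cjB (nat_lit 4) 2) (List.take 4 (List.drop 4 (List.drop 4 (List.drop 4 (List.drop 4 (List.drop 4 (List.drop 4 U2))))))) V2 = 4 := by decide +kernel

theorem ct2_7 : cnt (cjB (nat_lit 4) 2) (List.take 4 (List.drop 4 (List.drop 4 (List.drop 4 (List.drop 4 (List.drop 4 (List.drop 4 (List.drop 4 U2)))))))) V2 = 8 := by decide +kernel

theorem ct2_8 : cnt (cjB (nat_lit 4) 2) (List.take 4 (List.drop 4 (List.drop 4 (List.drop 4 (List.drop 4 (List.drop 4 (List.drop 4 (List.drop 4 (List.drop 4 U2))))))))) V2 = 2 := by decide +kernel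

theorem ct2_9 : cnt (cjB (nat_lit 4) 2) (List.take 4 (List.drop 4 (List.drop 4 (List.drop 4 (List.drop 4 (List.drop 4 (List.drop 4 (List.drop 4 (List.drop 4 (List.drop 4 U2)))))))))) V2 = 4 := by decide +kernel

theorem ct2_10 : cnt (cjB (nat_lit 4) 2) (List.take 4 (List.drop 4 (List.drop 4 (List.drop 4 (List.drop 4 (List.drop 4 (List.drop 4 (List.drop 4 (List.drop 4 (List.drop 4 (List.drop 4 U2))))))))))) V2 = 4 := by decide +kernel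

theorem ct2_11 : cnt (cjB (nat_lit 4) 2) (List.take 4 (List.drop 4 (List.drop 4 (List.drop 4 (List.drop 4 (List.drop 4 (List.drop 4 (List.drop 4 (List.drop 4 (List.drop 4 (List.drop 4 (List.drop 4 U2)))))))))))) V2 = 0 := by decide +kernel

theorem ct2_12 : cnt (cjB (nat_lit 4) 2) (List.take 4 (List.drop 4 (List.drop 4 (List.drop 4 (List.drop 4 (List.drop 4 (List.drop 4 (List.drop 4 (List.drop 4 (List.drop 4 (List.drop 4 (List.drop 4 (List.drop 4 U2))))))))))))) V2 = 11 := by decide +kernel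

theorem ct2_13 : cnt (cjB (nat_lit 4) 2) (List.drop 4 (List.drop 4 (List.drop 4 (List.drop 4 (List.drop 4 (List.drop 4 (List.drop 4 (List.drop 4 (List.drop 4 (List.drop 4 (List.drop 4 (List.drop 4 (List.drop 4 U2))))))))))))) V2 = 4 := by decide +kernel

theorem ct2 : cnt (cjB (nat_lit 4) 2) U2 V2 = 63 :=
  (cnt_split _ _ _ 4 ct2_0 (cnt_split _ _ _ 4 ct2_1 (cnt_split _ _ _ 4 ct2_2 (cnt_split _ _ _ 4 ct2_3 (cnt_split _ _ _ 4 ct2_4 (cnt_split _ _ _ 4 ct2_5 (cnt_split _ _ _ 4 ct2_6 (cnt_split _ _ _ 4 ct2_7 (cnt_split _ _ _ 4 ct2_8 (cnt_split _ _ _ 4 ct2_9 (cnt_split _ _ _ 4 ct2_10 (cnt_split _ _ _ 4 ct2_11 (cnt_split _ _ _ 4 ct2_12 ct2_13)))))))))))))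

theorem ct3_0 : cnt (cjB (nat_lit 4) 2) (List.take 5 U3) V3 = 24 := by decide +kernel

theorem ct3_1 : cnt (cjB (nat_lit 4) 2) (List.take 5 (List.drop 5 U3)) V3 = 24 := by decide +kernel

theorem ct3_2 : cnt (cjB (nat_lit 4) 2) (List.take 5 (List.drop 5 (List.drop 5 U3))) V3 = 66 := by decide +kernel

theorem ct3_3 : cnt (cjB (nat_lit 4) 2) (List.take 5 (List.drop 5 (List.drop 5 (List.drop 5 U3)))) V3 = 18 := by decide +kernel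

theorem ct3_4 : cnt (cjB (nat_lit 4) 2) (List.take 5 (List.drop 5 (List.drop 5 (List.drop 5 (List.drop 5 U3))))) V3 = 43 := by decide +kernel

theorem ct3_5 : cnt (cjB (nat_lit 4) 2) (List.drop 5 (List.drop 5 (List.drop 5 (List.drop 5 (List.drop 5 U3))))) V3 = 36 := by decide +kernel

theorem ct3 : cnt (cjB (nat_lit 4) 2) U3 V3 = 211 :=
  (cnt_split _ _ _ 5 ct3_0 (cnt_split _ _ _ 5 ct3_1 (cnt_split _ _ _ 5 ct3_2 (cnt_split _ _ _ 5 ct3_3 (cnt_split _ _ _ 5 ct3_4 ct3_5)))))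

theorem ct7_0 : cnt (cjB (nat_lit 4) 2) (List.take 62 U7) V7 = 52 := by decide +kernel

theorem ct7_1 : cnt (cjB (nat_lit 4) 2) (List.take 62 (List.drop 62 U7)) V7 = 51 := by decide +kernel

theorem ct7_2 : cnt (cjB (nat_lit 4) 2) (List.drop 62 (List.drop 62 U7)) V7 = 2 := by decide +kernel

theorem ct7 : cnt (cjB (nat_lit 4) 2) U7 V7 = 105 :=
  (cnt_split _ _ _ 62 ct7_0 (cnt_split _ _ _ 62 ct7_1 ct7_2))

noncomputable def TTt : List El := mkL TA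
  [([nat_lit 4502205809025, nat_lit 8864818856320, nat_lit 17592454513154, nat_lit 17626550009985, nat_lit 13229044548097, nat_lit 8899446981120, nat_lit 4398587592706], [14, 10]),
   ([nat_lit 8796906782722, nat_lit 34898755587, nat_lit 13297495572993, nat_lit 8865349370116, nat_lit 17660905538050, nat_lit 270549507, nat_lit 8865087258883], [10, 10, 10, 10])]
  (by decide +kernel)

def Lt : List (List Nat × Nat) :=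
  [([7, 14, 5], 1),
   ([12, 6, 2, 0], 1),
   ([12, 5, 12, 3], 1),
   ([4, 12, 3], 1),
   ([6, 6, 1], 1),
   ([7, 15, 12, 0], 0),
   ([14, 12, 4], 0),
   ([15, 12, 6, 3], 0),
   ([2, 12, 14, 0], 0),
   ([13, 10, 4, 0], 0),
   ([13, 15, 8, 0], 0),
   ([12, 7, 10], 0),
   ([1, 13, 11, 0], 0),
   ([14, 4, 13, 0], 0),
   ([14, 12, 8], 0),
   ([9, 10], 0),
   ([6, 5, 0], 1),
   ([15, 13, 8, 0], 0),
   ([], 1),
   ([5, 5, 3], 1),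
   ([7, 3, 1], 1),
   ([8, 7, 0], 0),
   ([11, 3, 12, 5], 0),
   ([14, 10, 4, 0], 1),
   ([13, 7], 0),
   ([11, 12, 6, 0], 0),
   ([6, 14, 6], 1),
   ([15, 13, 2], 0),
   ([2, 2], 0),
   ([5, 12, 7], 1),
   ([5, 12, 2], 1),
   ([13, 9, 5], 0),
   ([7, 12, 0], 1),
   ([11, 4, 2], 1),
   ([14, 2], 0),
   ([14, 4, 13, 5], 0),
   ([6, 12, 0], 1),
   ([12, 9, 4], 0),
   ([7, 10, 12], 0),
   ([4, 13, 6], 1),
   ([3, 3, 13, 0], 1),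
   ([10, 2, 4], 0),
   ([8, 7, 1], 0),
   ([1, 15, 4], 1),
   ([7, 12, 2, 0], 1),
   ([6], 0),
   ([12, 6, 3], 1),
   ([14, 12, 4, 0], 0),
   ([6, 2], 1),
   ([4, 11, 12, 3], 0),
   ([2, 1], 1),
   ([6, 15, 0], 0),
   ([1, 14, 0], 1),
   ([12, 4, 0], 0),
   ([0, 15, 5], 1),
   ([5, 10], 0),
   ([3, 13, 5], 1),
   ([0, 6], 0),
   ([0, 15, 0], 1),
   ([14, 0, 12, 1], 0),
   ([4, 3, 0], 1),
   ([2, 12, 4], 0),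
   ([1, 12, 0], 1),
   ([11, 13, 9, 2], 0),
   ([2, 2, 0], 1),
   ([4, 1], 1),
   ([5, 12, 2, 0], 0),
   ([5, 3, 1], 1),
   ([9, 1], 0),
   ([14, 5, 13, 0], 0),
   ([5, 3, 3, 1], 1),
   ([13, 7], 1),
   ([5, 10, 12], 0),
   ([10, 3], 0),
   ([6, 11, 4, 1], 1),
   ([6, 12, 4], 1),
   ([14, 5, 3, 0], 1),
   ([13, 6, 0], 1),
   ([7, 3, 3, 0], 1),
   ([7, 1, 12, 0], 1),
   ([12, 10, 2, 0], 0),
   ([12, 2, 15, 0], 0),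
   ([12, 1, 14, 0], 0),
   ([3, 13, 14, 1], 0),
   ([13, 11, 5, 0], 0),
   ([0, 13, 4], 1),
   ([5, 6], 0),
   ([11, 8, 13, 4], 0),
   ([13, 3, 1], 1),
   ([6, 12], 0),
   ([5, 11, 0], 0),
   ([10, 7, 5], 1),
   ([14, 5, 12, 0], 0),
   ([5, 14, 0], 1),
   ([15, 13, 6], 1),
   ([3, 12, 2], 1),
   ([13, 6, 0, 0], 1),
   ([1, 14, 0], 0),
   ([11, 12, 0, 2], 0),
   ([15, 4, 12, 1], 0),
   ([6, 13, 2], 1),
   ([4, 2, 0], 0),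
   ([4, 3, 1, 1], 1),
   ([6, 14, 4], 1),
   ([13, 5], 0),
   ([6, 5, 3, 0], 1),
   ([2, 10, 7], 1),
   ([5, 10, 1], 1),
   ([10, 12, 4], 0),
   ([7, 13, 4], 1),
   ([4, 13, 1], 0),
   ([8, 4], 0),
   ([11, 5], 0),
   ([5, 11, 6], 1),
   ([0, 15, 12, 0], 0),
   ([9, 3, 1], 0),
   ([15, 5, 1], 1),
   ([12, 4, 12, 2], 1),
   ([4, 13, 0], 0),
   ([15, 12, 3, 0], 1),
   ([9, 10, 0], 0),
   ([4, 12, 4], 1),
   ([11, 1, 12, 0], 0),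
   ([14, 6, 2, 0], 1),
   ([15, 8, 12, 0], 0),
   ([3, 13, 0], 1),
   ([10, 5, 13, 4], 0),
   ([7, 7, 13, 2], 1),
   ([0, 2, 0], 0),
   ([15, 3], 0),
   ([13, 6, 2, 0], 1),
   ([5, 5, 0], 1),
   ([14, 0, 13, 3], 0),
   ([13, 7, 2], 0),
   ([0, 12, 3, 1], 1),
   ([4, 10, 3, 0], 1),
   ([5, 14, 2, 0], 1),
   ([10, 5, 3], 0),
   ([11, 8, 12, 1], 0),
   ([13, 3, 1], 0),
   ([12, 3, 0], 1),
   ([2, 13, 4], 1),
   ([3, 3], 0),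
   ([13, 4], 1),
   ([14, 9, 12, 0], 0),
   ([11, 7], 0),
   ([10, 1], 0),
   ([6, 10], 0),
   ([14, 9, 3], 0),
   ([15, 4, 0], 0),
   ([0, 3], 0),
   ([7, 0, 0], 0),
   ([9, 6, 1], 0),
   ([8, 2], 0),
   ([11, 14, 0], 0),
   ([12, 3], 1),
   ([15, 6], 1),
   ([2, 12, 14, 0], 1),
   ([0, 13, 5], 1),
   ([6, 11, 2, 0], 1),
   ([13, 15, 0], 0),
   ([7, 13, 11, 0], 0),
   ([13, 11, 4], 0),
   ([2, 13, 10, 0], 0),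
   ([6, 12, 10], 0),
   ([7, 1, 1], 1),
   ([3, 4], 0),
   ([15, 12, 2, 4], 0),
   ([13, 0, 15, 0], 1),
   ([6, 6, 5, 0], 1),
   ([13, 1], 1),
   ([10, 9, 12, 2], 0),
   ([11, 8, 0], 0),
   ([3, 14, 2, 0], 1),
   ([13, 1, 3], 0),
   ([12, 1, 11, 0], 0),
   ([13, 14, 4], 0),
   ([13, 15, 2], 0),
   ([13, 15, 7, 0], 0),
   ([13, 9, 15, 0], 0),
   ([3, 15, 2, 0], 1),
   ([14, 5, 3], 1),
   ([15, 6, 1], 1),
   ([7, 13, 6], 1),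
   ([2, 12, 6], 1),
   ([4, 10, 6], 1),
   ([8, 13, 7], 0),
   ([4, 11, 12, 1], 0),
   ([8, 3], 0),
   ([2, 10, 2], 0),
   ([15, 13, 4, 0], 0),
   ([2], 1),
   ([5, 11, 5, 0], 1),
   ([3, 15, 0], 1),
   ([11, 7, 1], 1),
   ([0, 15, 0], 0),
   ([14, 6, 4], 1),
   ([11, 9, 12, 3], 0),
   ([15, 7, 12], 0),
   ([4, 15, 11, 4], 1),
   ([5, 1, 13, 2], 1),
   ([9, 9, 0], 0),
   ([7, 7, 0], 1),
   ([12, 7, 2], 0),
   ([13, 5, 3, 0], 1),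
   ([3, 14, 7], 1),
   ([15, 13, 2, 0], 0),
   ([14, 3, 0], 1),
   ([5, 12, 2], 0),
   ([11, 12, 0], 0),
   ([3, 3, 0], 1),
   ([6, 15, 4, 0], 1),
   ([9, 9], 0),
   ([4, 2, 0], 1),
   ([11, 1], 0),
   ([8, 13, 5], 0),
   ([0, 15, 2, 0], 1),
   ([3, 15, 7], 1),
   ([7, 3, 12, 0], 1),
   ([5, 15, 0], 0),
   ([5, 11, 12, 1], 0),
   ([0, 13, 3, 0], 1),
   ([14, 12, 2, 0], 0),
   ([5, 15, 5, 0], 1),
   ([6, 3], 0),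
   ([5, 13, 5], 1),
   ([6, 0, 0], 1),
   ([7, 15, 1], 0),
   ([4, 6, 1], 0),
   ([3, 13, 3], 1),
   ([14, 9, 12, 2], 0),
   ([3, 0, 14, 0], 1),
   ([12, 4], 0),
   ([10, 1, 13, 2], 0),
   ([15, 1, 13, 2], 1),
   ([10, 7], 0),
   ([10, 0, 13, 3], 0),
   ([6, 14, 1], 1),
   ([6, 3], 1),
   ([13, 5, 2], 0),
   ([13, 7, 3, 1], 1),
   ([0, 0, 3], 0),
   ([0, 12, 2], 1),
   ([15, 12, 2], 0),
   ([5, 14, 4], 1),
   ([10, 12, 5, 0], 0),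
   ([11, 4, 13, 5], 0),
   ([10, 8, 12, 0], 0),
   ([4, 11, 12, 0], 0),
   ([11, 13, 7, 0], 0),
   ([3, 12, 10, 0], 0),
   ([13, 10, 3], 0),
   ([12, 14, 4, 0], 0),
   ([13, 10, 1], 0),
   ([7, 13, 14, 0], 0),
   ([5, 12, 3], 1),
   ([1, 12, 1], 1),
   ([2, 2, 0, 0], 1),
   ([3, 12, 0], 1),
   ([4, 13, 6, 0], 1),
   ([10, 4, 0], 1),
   ([4, 10, 7], 1),
   ([2, 1], 0),
   ([13, 9, 7], 0),
   ([10, 4], 1),
   ([10, 8, 12], 0),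
   ([15, 4], 0),
   ([15, 1, 13, 2], 0),
   ([5, 2, 14, 0], 1),
   ([4, 14, 1], 1),
   ([3, 0, 12, 0], 1),
   ([7, 12, 3], 1),
   ([15, 1], 0),
   ([14, 1, 12, 0], 0),
   ([2, 15, 5], 1),
   ([11, 0, 12], 0),
   ([1, 3], 0),
   ([7, 13, 3, 0], 1),
   ([12, 2], 1),
   ([12, 2, 4], 0),
   ([6, 14, 0], 0),
   ([10, 5, 13, 2], 1),
   ([5, 7, 0], 0),
   ([4, 4, 0], 1),
   ([7, 14, 0], 1),
   ([8, 12, 7], 0),
   ([15, 4, 13, 1], 0),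
   ([5, 11, 12, 2], 0),
   ([4, 14, 5], 1),
   ([7, 10, 1], 1),
   ([1, 14, 1], 1),
   ([7, 13, 2], 0),
   ([0, 12, 7], 1),
   ([14, 12, 2, 0], 1),
   ([14, 8, 12, 0], 0),
   ([1, 7, 1], 0),
   ([3, 13, 4], 1),
   ([10, 6, 0], 0),
   ([11, 12, 8, 1], 0),
   ([12, 5, 3], 1),
   ([11, 6, 0], 0),
   ([14, 3], 0),
   ([11, 2, 0], 0),
   ([7, 11, 0], 0),
   ([8, 15, 0], 0),
   ([9, 4, 0], 0),
   ([4, 3, 1], 0),
   ([7, 4], 0),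
   ([8, 3, 0], 0),
   ([9, 5], 0),
   ([5, 10, 5], 1),
   ([0, 4, 1], 0),
   ([5, 13, 4], 0),
   ([11, 4, 13, 0], 0),
   ([11, 6, 4], 1),
   ([15, 12, 3], 0),
   ([10, 5, 1], 1),
   ([3, 10, 3], 0),
   ([15, 1], 1),
   ([3], 1),
   ([5, 15, 0], 1),
   ([6, 13, 6], 1),
   ([15, 12, 6], 1),
   ([7, 11, 12, 1], 0),
   ([4, 13, 2], 0),
   ([6, 5, 2, 0], 1),
   ([5, 2, 0], 0),
   ([6, 4, 0], 1),
   ([15, 6, 13, 3], 0),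
   ([6, 15, 1], 0),
   ([0], 0),
   ([1, 14, 6], 1),
   ([4, 13, 5], 0),
   ([3, 13, 15, 0], 1),
   ([12, 1], 1),
   ([11, 6], 0),
   ([3, 12, 1], 1),
   ([11, 2, 12, 1], 1),
   ([15, 13, 6], 0),
   ([12, 14, 12, 0], 0),
   ([13, 6], 1),
   ([10, 0, 12], 0),
   ([6, 12, 6], 1),
   ([4, 14, 7, 0], 1),
   ([14, 1], 0),
   ([], 0),
   ([0, 15, 1], 1),
   ([13, 1, 2], 0),
   ([14, 7, 13, 2], 0),
   ([7, 11, 5, 0], 1),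
   ([12, 6, 14, 0], 1),
   ([6, 15, 1], 1),
   ([10, 12, 9, 2], 0),
   ([11, 0], 0),
   ([15, 6, 2, 0], 1),
   ([6, 13, 0], 0),
   ([13, 2], 1),
   ([2, 0], 0),
   ([15, 12, 4, 2], 0),
   ([6, 6, 2, 0], 1),
   ([12, 5, 0, 0], 1),
   ([13, 0], 1),
   ([7, 14, 12], 0),
   ([12, 7], 0),
   ([11, 12, 2, 0], 1),
   ([11, 13, 9, 6], 0),
   ([0, 11, 4, 0], 1),
   ([7, 2, 0], 0),
   ([2, 0], 1),
   ([7, 10, 0], 0),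
   ([4, 4, 3, 1], 1),
   ([14, 12, 5, 0], 0),
   ([15, 6, 4], 1),
   ([7, 2], 0),
   ([1, 11, 4, 0], 1),
   ([10, 12, 9, 6], 0),
   ([0, 12, 4], 1),
   ([11, 1, 2], 0),
   ([1, 11, 4, 1], 1),
   ([4, 12], 0),
   ([10, 9, 12, 0], 0),
   ([2, 10, 12, 2], 0),
   ([11, 7, 13, 2], 0),
   ([11, 12, 2], 0),
   ([5, 11, 13, 0], 0),
   ([11, 8, 12], 0),
   ([3, 0, 6], 0),
   ([12, 6, 0], 0),
   ([14, 6, 12, 3], 1),
   ([15, 9, 4], 0),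
   ([3, 10, 6], 1),
   ([6, 14, 12, 0], 0),
   ([15, 11, 6], 1),
   ([10, 6, 4], 1),
   ([11, 5, 1], 1),
   ([11, 3, 1], 0),
   ([6, 5, 1], 1),
   ([14, 6, 13, 3], 0),
   ([7, 11, 12, 2], 0),
   ([11, 4, 2, 1], 1),
   ([1, 13, 2], 1),
   ([5, 5], 0),
   ([7, 3, 0, 0], 1),
   ([5, 13, 3], 0),
   ([11, 13, 6], 1),
   ([1, 13, 0], 1),
   ([7, 13, 2], 1),
   ([7, 12, 2], 0),
   ([5, 11, 6, 0], 1),
   ([5, 11, 12, 0], 0),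
   ([0, 7], 0),
   ([4, 11, 6], 1),
   ([15, 13, 0], 0),
   ([11, 8], 0),
   ([4, 4], 1),
   ([12, 7, 1], 0),
   ([15, 7], 1),
   ([11, 2, 0, 0], 1),
   ([11, 2, 0], 1),
   ([10, 5, 0], 0),
   ([5, 1, 1], 1),
   ([7, 10, 12, 0], 0),
   ([15, 13, 9, 2], 0),
   ([15, 5, 0], 1),
   ([0, 6, 0], 0),
   ([3, 13, 6], 1),
   ([10, 4, 2], 0),
   ([2, 4], 0),
   ([6, 5, 0, 0], 1),
   ([10, 5, 2, 0], 1),
   ([12, 9, 7], 0),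
   ([15, 5, 12, 0], 0),
   ([3, 0], 1),
   ([10, 5, 12], 0),
   ([7, 3], 1),
   ([6, 4, 4], 1),
   ([11, 4, 0], 0),
   ([10, 12, 4, 2], 0),
   ([6, 10, 4, 0], 1),
   ([12, 1, 3], 0),
   ([0, 15, 5, 0], 1),
   ([6, 4, 10, 0], 1),
   ([15, 7, 13, 2], 0),
   ([3, 5, 1], 0),
   ([2, 14, 2, 1], 1),
   ([15, 5, 13, 1], 0),
   ([6, 15, 12, 1], 0),
   ([14, 12], 0),
   ([15, 2, 12, 4], 0),
   ([0, 15, 13, 0], 0),
   ([15, 0, 13, 3], 0),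
   ([3, 13, 2], 1),
   ([8, 1], 0),
   ([14, 4, 0, 0], 1),
   ([11, 5, 0], 0),
   ([10, 7, 13, 2], 0),
   ([13, 6, 10, 0], 1),
   ([13, 7, 0], 0),
   ([5, 1], 1),
   ([14, 6], 1),
   ([15, 5, 13, 4], 0),
   ([10, 4], 0),
   ([4, 4, 2], 1),
   ([10, 5, 0], 1),
   ([11, 7, 5, 0], 1),
   ([4, 10, 1], 1),
   ([8, 0, 0], 0),
   ([10, 0], 1),
   ([11, 13, 9, 4], 0),
   ([12, 3, 5], 0),
   ([7, 2, 0, 0], 1),
   ([11, 12, 2, 0], 0),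
   ([14, 12, 6, 0], 0),
   ([12, 7], 1),
   ([7], 0),
   ([1, 13, 4], 1),
   ([12, 4, 2], 0),
   ([6, 14, 2, 1], 1),
   ([2, 10, 3], 0),
   ([4, 4, 12, 4], 1),
   ([1, 13, 2], 0),
   ([4, 14, 3, 1], 1),
   ([14, 1, 12], 0),
   ([11, 13, 2], 0),
   ([5, 3, 3, 0], 1),
   ([6, 0, 13, 3], 1),
   ([5, 3], 0),
   ([14, 7, 0, 0], 1),
   ([7, 14, 2], 0),
   ([15, 7, 3, 0], 1),
   ([6, 11, 6], 1),
   ([15, 6], 0),
   ([10, 12, 6], 0),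
   ([4, 2, 1], 1),
   ([5, 12], 0),
   ([1, 15, 1], 1),
   ([13, 7, 4, 0], 1),
   ([4, 4], 0),
   ([4, 13, 4], 1),
   ([10, 12, 14, 0], 0),
   ([8, 12, 6], 0),
   ([13, 0, 6], 0),
   ([9, 12, 0], 0),
   ([8, 12, 3], 0),
   ([13, 6, 3], 0),
   ([12, 10, 4, 0], 0),
   ([13, 0, 14, 1], 0),
   ([13, 11, 9, 2], 0),
   ([13, 9, 11, 0], 0),
   ([13, 5, 11, 0], 0),
   ([10, 12, 4, 0], 0),
   ([4, 12, 5], 1),
   ([7, 5, 0], 1),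
   ([2, 15, 2, 0], 1),
   ([3, 14, 7, 3], 1),
   ([7, 7, 2], 1),
   ([11, 12, 9, 2], 0),
   ([11, 12, 7, 1], 0),
   ([11, 1, 12], 0),
   ([10, 5, 13, 0], 0),
   ([2, 12, 10, 0], 0),
   ([13, 10, 6], 0),
   ([13, 10, 8], 0),
   ([12, 7, 11, 0], 0),
   ([13, 0, 15, 0], 0),
   ([14, 1], 1),
   ([12, 6, 2], 1),
   ([2, 10, 4], 1),
   ([11, 12, 8], 0),
   ([6, 4, 2, 0], 1),
   ([1, 2], 0),
   ([13, 1], 0),
   ([4, 11, 1], 0),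
   ([15, 12, 7], 0),
   ([5, 2], 1),
   ([1, 2, 1], 0),
   ([7, 5, 0, 0], 1),
   ([2, 13, 3], 0),
   ([4, 12, 2], 1),
   ([0, 12, 3], 1),
   ([15, 7, 0], 0),
   ([4, 11, 2, 0], 1),
   ([15, 12, 4, 0], 0),
   ([10, 4, 13, 1], 0),
   ([11, 13, 4], 1),
   ([13, 14, 0], 1),
   ([11, 13, 6], 0),
   ([7, 5, 10, 1], 1),
   ([2, 5, 1], 0),
   ([15, 2, 0], 0),
   ([14, 7, 0], 1),
   ([2, 14, 3, 0], 1),
   ([5, 3, 0], 1),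
   ([13, 4, 2], 0),
   ([14, 7, 12, 0], 0),
   ([1, 14, 2, 0], 1),
   ([11, 2], 0),
   ([15, 3, 13, 2], 0),
   ([11, 12, 3, 5], 0),
   ([1, 1], 1),
   ([5, 15, 5], 1),
   ([4, 1], 0),
   ([13, 9, 3], 0),
   ([11, 11, 2, 0], 1),
   ([1, 13, 7], 1),
   ([0, 14, 0], 1),
   ([15, 13, 6, 0], 0),
   ([14, 3, 1], 1),
   ([13, 7, 1], 0),
   ([14, 5], 1),
   ([4, 10, 12], 0),
   ([12, 6, 0, 0], 1),
   ([5, 2, 0], 1),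
   ([7, 1], 0),
   ([4, 15, 0], 0),
   ([14, 2, 13, 0], 1),
   ([6, 6, 13, 3], 1),
   ([15, 13, 7, 0], 0),
   ([9, 6], 0),
   ([13, 14, 1], 1),
   ([13, 11, 4], 1),
   ([15, 3, 1], 0),
   ([11, 13, 6, 0], 0),
   ([2, 13, 2], 1),
   ([12, 0, 2], 0),
   ([15, 12, 8], 0),
   ([15, 12, 9, 4], 0),
   ([14, 2, 12, 4], 0),
   ([15, 13, 4], 0),
   ([15, 3, 12, 5], 0),
   ([8, 12, 0], 0),
   ([13, 5, 0], 0),
   ([4, 12, 3], 0),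
   ([13, 0, 3], 0),
   ([13, 3, 5], 0),
   ([12, 5, 15, 0], 0),
   ([13, 6, 10], 0),
   ([13, 10, 5, 0], 0),
   ([13, 14, 0], 0),
   ([12, 14, 4], 0),
   ([7, 0], 1),
   ([12, 2, 0, 0], 1),
   ([5, 3, 0, 0], 1),
   ([11, 7, 3], 1),
   ([0, 14, 3, 1], 1),
   ([0, 13, 10, 0], 0),
   ([13, 5, 10], 0),
   ([12, 10, 8], 0),
   ([13, 15, 6], 0),
   ([12, 4, 10], 0),
   ([13, 8, 1], 0),
   ([7, 0], 0),
   ([6, 11, 12, 0], 0),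
   ([10, 6], 1),
   ([15, 0, 12], 0),
   ([10], 0),
   ([11, 7, 0, 0], 1),
   ([5], 1),
   ([0, 13, 2], 1),
   ([1, 13, 14, 0], 1),
   ([13, 15, 2, 0], 0),
   ([13, 3, 10, 2], 0),
   ([4, 13, 11, 0], 0),
   ([13, 11, 8, 0], 0),
   ([13, 10, 4], 0),
   ([12, 5, 10], 0),
   ([5, 12, 10], 0),
   ([13, 8, 10], 0),
   ([13, 10, 7], 0),
   ([13, 11, 6], 0),
   ([7, 4, 0], 1),
   ([6, 12, 2], 1),
   ([3, 0, 0], 1),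
   ([2, 12, 0], 1),
   ([5, 5, 12, 5], 1),
   ([12, 5], 0),
   ([12, 6], 0),
   ([13, 5, 3], 0),
   ([12, 8, 0], 0),
   ([12, 3], 0),
   ([3, 15, 1], 1),
   ([4, 10, 5], 1),
   ([5, 10, 4], 1),
   ([6, 5], 0),
   ([11, 13, 4], 0),
   ([3, 13, 1], 0),
   ([11, 4], 1),
   ([15, 12, 3, 5], 0),
   ([10, 8, 4], 0),
   ([11, 7, 0], 1),
   ([13, 3], 0),
   ([5, 13, 7, 1], 1),
   ([4, 12, 1], 1),
   ([13, 3, 3, 0], 1),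
   ([14, 4, 2], 0),
   ([11, 6, 13, 3], 0),
   ([7, 12, 14, 0], 1),
   ([15, 13, 4, 2], 0),
   ([4, 15, 5, 0], 1),
   ([2, 4, 0], 0),
   ([15, 7, 5], 1),
   ([10, 6], 0),
   ([8, 6, 0], 0),
   ([0, 11, 4], 1),
   ([0, 11, 5, 0], 1),
   ([15, 12, 1], 0),
   ([2, 13, 6], 1),
   ([4, 12, 1], 0),
   ([5, 13, 6], 1),
   ([11, 12, 5, 0], 0),
   ([11, 13, 2, 0], 0),
   ([15, 2], 0),
   ([14, 2, 0], 1),
   ([12, 2, 0], 0),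
   ([4, 4, 1], 1),
   ([15, 6, 6, 0], 1),
   ([4, 7, 0], 0),
   ([6, 5, 10, 0], 1),
   ([7, 15, 13, 0], 0),
   ([6, 6, 0], 1),
   ([13, 1, 7], 0),
   ([15, 6, 12], 0),
   ([12, 10, 4], 1),
   ([11, 13, 4, 2], 0),
   ([7, 7, 1], 1),
   ([10, 4, 2], 1),
   ([4, 13, 3], 1),
   ([2, 0, 0], 0),
   ([10, 9, 2], 0),
   ([4, 0], 1),
   ([14, 12, 8, 0], 0),
   ([5, 0], 0),
   ([15, 6, 4, 0], 1),
   ([14, 4], 1),
   ([11, 12, 1], 0),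
   ([6], 1),
   ([5, 10, 0], 0),
   ([4, 12, 3, 0], 1),
   ([6, 13, 3], 0),
   ([3, 1], 1),
   ([13, 6, 0], 0),
   ([14, 2, 0], 0),
   ([12, 0], 0),
   ([7, 14, 0], 0),
   ([9, 15, 0], 0),
   ([12, 9, 3], 0),
   ([12, 9, 5], 0),
   ([0, 14, 1], 0),
   ([15, 5, 0], 0),
   ([12, 9, 6], 0),
   ([4, 0, 0], 1),
   ([3, 15, 4], 1),
   ([11, 5, 3, 0], 1),
   ([12, 6, 4, 0], 1),
   ([11, 3, 12, 0], 1),
   ([1, 1], 0),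
   ([9, 0, 3], 0),
   ([6, 13, 15, 0], 1),
   ([2, 2, 12, 0], 1),
   ([0, 0], 1),
   ([12, 4, 10, 1], 1),
   ([10, 12, 4], 1),
   ([5, 0, 0], 1),
   ([14, 1, 14, 0], 1),
   ([7, 2, 0], 1),
   ([4, 13, 3, 0], 1),
   ([11, 7, 3, 0], 1),
   ([2, 12, 10], 0),
   ([13, 11, 6, 0], 0),
   ([13, 11, 2], 0),
   ([13, 14, 8, 0], 0),
   ([5, 13, 14, 0], 0),
   ([8, 5], 0),
   ([1, 6], 0),
   ([6, 12, 7], 1),
   ([3, 12, 6], 1),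
   ([13, 3, 0], 1),
   ([14, 10, 4], 1),
   ([14, 7, 3], 1),
   ([2], 0),
   ([12, 7, 0, 0], 1),
   ([1, 13, 2, 1], 1),
   ([7, 13, 3], 1),
   ([5, 14, 10, 4], 1),
   ([7, 14, 7], 1),
   ([5, 12, 5], 1),
   ([11, 5, 3], 1),
   ([14, 7, 5], 1),
   ([4, 3, 0, 0], 1),
   ([4, 2, 12, 0], 1),
   ([12, 10, 6], 0),
   ([6, 12, 14, 0], 0),
   ([12, 10], 0),
   ([13, 4, 10], 0),
   ([13, 14, 6], 0),
   ([7, 15, 0], 0),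
   ([12, 2, 0], 1),
   ([15, 13, 5, 0], 0),
   ([11, 4, 1], 1),
   ([10, 6, 0], 1),
   ([10, 7], 1),
   ([11, 12, 7, 2], 0),
   ([0, 12, 1], 0),
   ([4], 0),
   ([15, 5, 2, 0], 1),
   ([12, 5, 10, 0], 1),
   ([11, 13, 0], 0),
   ([14, 0, 12], 0),
   ([6, 4], 0),
   ([4, 12, 7], 1),
   ([12, 4, 1], 0),
   ([0, 12, 0], 1),
   ([6, 2, 1], 1),
   ([10, 0], 0),
   ([11, 6, 2], 1),
   ([15, 0, 12, 0], 1),
   ([3], 0),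
   ([1, 12], 0),
   ([3, 10, 5], 1),
   ([11, 12, 4], 0),
   ([2, 14, 1], 1),
   ([14, 4], 0),
   ([15, 12, 2, 0], 0),
   ([4, 15, 0], 1),
   ([2, 13, 2, 0], 1),
   ([13, 4, 2], 1),
   ([6, 1], 1),
   ([6, 11, 1], 0),
   ([11, 13, 5, 0], 0),
   ([15, 3, 12, 0], 1),
   ([1, 15, 13, 0], 0),
   ([8, 8, 0], 0),
   ([13, 3, 0, 0], 1),
   ([2, 12, 1], 1),
   ([3, 13, 3], 0),
   ([2, 12, 2, 1], 1),
   ([14, 8, 1], 0),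
   ([8, 8], 0),
   ([6, 3, 0, 0], 1),
   ([14, 6, 13, 0], 0),
   ([7], 1),
   ([13, 2, 4], 0),
   ([10, 1, 12, 0], 0),
   ([7, 5, 3], 1),
   ([7, 7, 3, 1], 1),
   ([2, 14, 6], 1),
   ([13, 4, 0], 0),
   ([10, 4, 13, 3], 1),
   ([4, 3], 0),
   ([15, 12, 7, 1], 0),
   ([3, 3, 1], 1),
   ([6, 4, 2], 1),
   ([14, 0], 0),
   ([3, 13, 7], 1),
   ([10, 12, 2], 0),
   ([13, 14, 7], 0),
   ([12, 14, 6], 0),
   ([12, 8, 10], 0),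
   ([4, 12, 10], 0),
   ([3, 13, 11, 0], 0),
   ([14, 7, 5, 0], 1),
   ([13, 2, 13, 0], 1),
   ([12, 5], 1),
   ([13, 6, 3], 1),
   ([1, 15, 5, 0], 1),
   ([9, 12, 3], 0),
   ([3, 12, 5], 0),
   ([0, 13, 3], 0),
   ([5, 12, 0], 0),
   ([12, 9, 0], 0),
   ([13, 11, 7, 0], 0),
   ([1, 12, 10, 0], 0),
   ([13, 14, 2], 0),
   ([13, 11, 0], 0),
   ([12, 0, 14, 0], 0),
   ([0, 0], 0),
   ([15, 12, 7], 1),
   ([11, 5, 13, 1], 0),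
   ([12, 5, 0], 0),
   ([11, 6], 1),
   ([15, 7, 12, 2], 0),
   ([15, 5], 0),
   ([14, 0], 1),
   ([5, 3], 1),
   ([14, 7, 12, 2], 1),
   ([7, 10], 0),
   ([6, 6, 3], 1),
   ([3, 15, 12, 3], 0),
   ([11, 13, 4, 0], 0),
   ([11, 5, 2, 0], 1),
   ([15, 5], 1),
   ([9, 7], 0),
   ([6, 10, 3, 0], 1),
   ([13, 6], 0),
   ([6, 14, 2, 0], 1),
   ([2, 13, 0], 1),
   ([15, 3, 3, 0], 1),
   ([12, 9, 1], 0),
   ([15, 12, 8, 1], 0),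
   ([5, 10, 12, 0], 0),
   ([1, 15, 2, 1], 1),
   ([10, 6, 2], 1),
   ([3, 5], 0),
   ([5, 5, 2, 0], 1),
   ([7, 11, 2], 0),
   ([12, 6, 0], 1),
   ([15, 12, 6], 0),
   ([12, 10, 3, 0], 1),
   ([1], 0),
   ([15, 0, 13, 3], 1),
   ([7, 14, 1], 0),
   ([6, 10, 12], 0),
   ([6, 15, 0], 1),
   ([13, 9, 2, 0], 0),
   ([1], 1),
   ([15, 2, 0], 1),
   ([7, 7], 1),
   ([7, 5, 3, 0], 1),
   ([0, 13, 14, 0], 1),
   ([13, 10, 5], 1),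
   ([12, 14, 2, 0], 0),
   ([12, 10, 2], 0),
   ([12, 1, 14, 1], 0),
   ([13, 1, 14, 0], 0),
   ([13, 14, 1], 0),
   ([12, 6, 10], 0),
   ([13, 10, 2], 0),
   ([13, 8, 10, 0], 0),
   ([12, 10, 4], 0),
   ([13, 11, 2, 0], 0),
   ([5, 12, 6], 1),
   ([5, 15, 4, 1], 1),
   ([4, 15, 4], 1),
   ([14, 6, 10, 0], 1),
   ([15, 4, 0, 0], 1),
   ([15, 4, 2], 0),
   ([6, 10, 7, 0], 1),
   ([10, 1, 12], 0),
   ([13, 2, 0], 0),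
   ([5, 12, 3, 0], 1),
   ([6, 10, 5], 1),
   ([10, 7, 3], 1),
   ([14, 12, 0], 0),
   ([0, 5], 0),
   ([2, 13, 1], 1),
   ([1, 5, 0], 0),
   ([6, 1], 0),
   ([7, 5, 1], 0),
   ([9, 7, 4], 0),
   ([3, 0], 0),
   ([4, 12, 0], 1),
   ([2, 12, 3], 1),
   ([15, 12, 2, 1], 1),
   ([15, 2, 0, 0], 1),
   ([2, 15, 6], 1),
   ([3, 12, 10], 0),
   ([13, 14, 3], 0),
   ([13, 4, 11, 1], 0),
   ([13, 7, 10], 0),
   ([12, 10, 8, 0], 0),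
   ([15, 8, 0], 0),
   ([3, 10, 2], 0),
   ([7, 10, 6, 2], 1),
   ([15, 4], 1),
   ([6, 1, 1], 1),
   ([12, 14, 0], 1),
   ([3, 12, 3], 1),
   ([11, 3], 0),
   ([10, 5, 1], 0),
   ([14, 7], 0),
   ([5, 13, 10, 0], 0),
   ([13, 6, 14, 0], 0),
   ([13, 10, 0], 0),
   ([13, 14, 5], 0),
   ([7, 12, 10], 0),
   ([11, 7], 1),
   ([10, 7, 5, 0], 1),
   ([4, 10, 4], 1),
   ([2, 13, 2], 0),
   ([2, 2, 0], 0),
   ([10, 2, 12, 4], 0),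
   ([11, 13, 14, 0], 0),
   ([4, 2], 1),
   ([14, 5], 0),
   ([6, 3, 0], 1),
   ([7, 12], 0),
   ([7, 12, 5], 1),
   ([13, 10, 4], 1),
   ([6, 4, 1], 1),
   ([10, 8, 0], 0),
   ([15, 12, 0], 0),
   ([11, 2, 12, 0], 1),
   ([11, 13, 8, 0], 0),
   ([15, 4, 13, 2], 1),
   ([3, 1], 0),
   ([7, 10, 7], 1),
   ([3, 4, 0], 0),
   ([10, 2], 0),
   ([14, 7], 1),
   ([0], 1),
   ([9, 12, 1], 0),
   ([7, 5], 1),
   ([14, 12, 6], 0),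
   ([6, 12, 3], 1),
   ([10, 12, 6, 0], 0),
   ([1, 12, 3, 0], 1),
   ([14, 1, 13, 2], 0),
   ([11, 12, 3], 0),
   ([9, 0], 0),
   ([2, 12, 2], 1),
   ([13, 7, 1], 1),
   ([5, 13, 0], 0),
   ([15, 3, 1], 1),
   ([2, 14, 6, 2], 1),
   ([6, 14, 1], 0),
   ([8, 12, 1], 0),
   ([5, 5, 3, 0], 1),
   ([14, 4, 12], 0),
   ([5, 14, 5], 1),
   ([11, 8, 12, 0], 0),
   ([13, 2, 0, 0], 1),
   ([9, 11, 1], 0),
   ([13, 3], 1),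
   ([9], 0),
   ([7, 11, 6], 1),
   ([4, 15, 12, 0], 0),
   ([12, 10, 6], 1),
   ([9, 2, 0], 0),
   ([5, 13, 7], 1),
   ([1, 12, 2, 0], 1),
   ([10, 7, 12, 0], 0),
   ([14, 8, 0], 0),
   ([6, 11, 7], 1),
   ([13, 0, 2], 0),
   ([15, 4, 2, 1], 1),
   ([15, 2, 12, 0], 1),
   ([5, 15, 4], 1),
   ([4, 15, 4, 0], 1),
   ([2, 0, 0], 1),
   ([15, 4, 1, 1], 1),
   ([6, 12, 10, 0], 0),
   ([12, 10, 5, 0], 0),
   ([12, 14, 8, 0], 0),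
   ([12, 5, 11, 0], 0),
   ([13, 14, 2, 0], 0),
   ([13, 10, 2, 0], 0),
   ([12, 10, 9, 2], 0),
   ([13, 15, 4], 0),
   ([7, 13, 10, 2], 0),
   ([12, 9, 10, 0], 0),
   ([13, 5, 3], 1),
   ([1, 12, 2], 1),
   ([0, 13, 6], 1),
   ([5, 12, 0], 1),
   ([7, 3, 0], 1),
   ([15, 12, 0, 2], 0),
   ([2, 14, 0], 1),
   ([0, 14, 0], 0),
   ([11, 5, 0], 1),
   ([6, 13, 14, 0], 1),
   ([11, 7, 5], 1),
   ([3, 13, 2], 0),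
   ([11, 12, 9, 4], 0),
   ([6, 4, 0], 0),
   ([5, 10, 0], 1),
   ([6, 11, 13, 0], 0),
   ([10, 12, 0], 0),
   ([10, 7, 12], 0),
   ([11, 4, 12], 0),
   ([11, 9, 12, 2], 0),
   ([7, 7, 5], 1),
   ([15, 2, 1], 1),
   ([13, 14, 4, 0], 1),
   ([3, 12, 5], 1),
   ([5, 15, 2, 0], 1),
   ([13, 11, 4, 0], 0),
   ([13, 15, 5, 0], 0),
   ([13, 10, 5], 0),
   ([12, 10, 6, 0], 0),
   ([12, 10, 0], 0),
   ([4, 12, 6], 1),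
   ([13, 10, 6, 0], 0),
   ([3, 13, 10, 1], 0),
   ([4, 15, 4, 1], 1),
   ([4, 0, 13, 3], 1),
   ([13, 10, 8, 0], 0),
   ([0, 12, 10, 0], 0),
   ([15, 4, 0], 1),
   ([13, 15, 4, 0], 0),
   ([5, 2, 0, 0], 1),
   ([10, 1], 1),
   ([6, 13, 3], 1),
   ([13, 9, 2], 0),
   ([10, 12], 0),
   ([8, 2, 1], 0),
   ([6, 0], 1),
   ([14, 6, 12], 0),
   ([10, 5], 0),
   ([11, 6, 1], 1),
   ([7, 1], 1),
   ([6, 6], 1),
   ([5, 12, 4], 1),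
   ([10, 4, 0], 0),
   ([14, 5, 12], 0),
   ([6, 3, 1], 1),
   ([10, 6, 12], 0),
   ([8, 6, 3], 0),
   ([13, 15, 0], 1),
   ([4, 0, 12, 0], 1),
   ([8, 13, 6], 0),
   ([11, 7, 0], 0),
   ([1, 15, 4, 1], 1),
   ([6, 4, 1], 0),
   ([11, 12, 4], 1),
   ([12, 8, 1], 0),
   ([14, 12, 2], 0),
   ([7, 14, 1], 1),
   ([11, 7, 12], 0),
   ([0, 13, 2, 0], 1),
   ([13, 11, 6], 1),
   ([13, 4, 3], 0),
   ([3, 13, 1], 1),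
   ([4, 13, 2], 1),
   ([6, 10, 6], 1),
   ([15, 9, 12, 2], 0),
   ([0, 3, 0], 0),
   ([10, 3, 0], 1),
   ([11, 6, 12], 0),
   ([7, 12, 1], 1),
   ([4, 10], 0),
   ([10, 6, 13, 3], 0),
   ([14, 5, 1], 1),
   ([6, 15, 4], 1),
   ([1, 12, 6], 1),
   ([15, 6, 0], 0),
   ([1, 7], 0),
   ([5, 0, 14, 0], 1),
   ([12, 1], 0),
   ([10, 4, 2, 0], 1),
   ([14, 12, 4, 2], 0),
   ([0, 12, 1], 1),
   ([11, 5, 12, 0], 0),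
   ([10, 2, 0], 0),
   ([14, 2, 1], 1),
   ([11, 12, 5], 1),
   ([12, 5, 1], 0),
   ([5, 5, 3, 1], 1),
   ([5, 13, 4], 1),
   ([8, 6], 0),
   ([15, 12, 1, 3], 0),
   ([5, 12, 14, 0], 0),
   ([12, 14, 2], 0),
   ([12, 14, 0], 0),
   ([2, 13, 14, 0], 0),
   ([12, 7, 10, 0], 0),
   ([0, 14, 7], 1),
   ([6, 13, 2, 1], 1),
   ([12, 6], 1),
   ([15, 4, 1], 1),
   ([0, 13, 3], 1),
   ([2, 1, 12, 1], 1),
   ([12, 0], 1),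
   ([10, 12, 6], 1),
   ([3, 3, 0, 0], 1),
   ([7, 14, 3, 0], 1),
   ([13, 14, 4, 0], 0),
   ([5, 12, 10, 0], 0),
   ([7, 13, 10, 0], 0),
   ([0, 13, 11, 0], 0),
   ([12, 8, 10, 0], 0),
   ([15, 12, 7, 2], 0),
   ([1, 14, 12, 0], 0),
   ([15, 12, 9, 5], 0),
   ([15, 8, 12], 0),
   ([15, 12, 4], 0),
   ([4], 1),
   ([3, 14, 1], 1),
   ([11, 6, 4, 0], 1),
   ([5, 1], 0),
   ([11, 12, 5], 0),
   ([13, 2], 0),
   ([11, 4, 0], 1),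
   ([11, 5, 0, 0], 1),
   ([15, 1, 12, 0], 0),
   ([10, 8], 0),
   ([1, 4], 0),
   ([7, 0, 0], 1),
   ([5, 15, 7, 0], 1),
   ([13, 9, 6], 0),
   ([7, 15, 2, 0], 1),
   ([11, 9, 2], 0),
   ([6, 12, 3, 0], 1),
   ([4, 1, 1], 1),
   ([11, 5, 13, 4], 0),
   ([6, 14, 12], 0),
   ([1, 12, 3], 1),
   ([2, 15, 0], 0),
   ([8], 0),
   ([7, 10, 4], 1),
   ([2, 14, 3, 1], 1),
   ([1, 12, 5], 1),
   ([7, 12, 0], 0),
   ([15, 13, 0, 2], 0),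
   ([11, 12, 8, 0], 0),
   ([2, 13, 5], 1),
   ([13, 14, 12, 0], 0),
   ([15, 13, 3, 0], 1),
   ([9, 11, 0], 0),
   ([1, 15, 0], 1),
   ([12, 8], 0),
   ([4, 3, 1], 1),
   ([0, 2], 0),
   ([15, 4, 13, 5], 0),
   ([6, 10, 0], 1),
   ([7, 12, 2], 1),
   ([4, 3], 1),
   ([15, 11, 4, 0], 1),
   ([8, 13, 4], 0),
   ([9, 3], 0),
   ([11, 2, 12, 4], 0),
   ([11, 6, 0], 1),
   ([11, 4], 0),
   ([2, 15, 0], 1),
   ([15, 5, 12], 0),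
   ([15, 0], 1),
   ([1, 12, 0], 0),
   ([3, 12, 7], 1),
   ([15, 3, 0], 1),
   ([12, 4], 1),
   ([14, 6], 0),
   ([15, 5, 13, 0], 0),
   ([11, 12, 9, 3], 0),
   ([15, 11, 4], 1),
   ([2, 2, 12, 1], 1),
   ([8, 0], 0),
   ([1, 13, 3], 1),
   ([15, 8, 4], 0),
   ([4, 14, 12, 0], 0),
   ([10, 4, 1], 1),
   ([3, 14, 0], 1),
   ([10, 5], 1),
   ([10, 12, 8], 0),
   ([9, 1, 2], 0),
   ([4, 10, 0], 1),
   ([13, 9, 4], 0),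
   ([2, 12, 7], 1),
   ([14, 12, 0, 2], 0),
   ([11, 12, 7], 0),
   ([15, 5, 0, 0], 1),
   ([1, 1, 2], 0),
   ([0, 12], 0),
   ([14, 4, 2], 1),
   ([14, 10, 6, 0], 1),
   ([11, 5, 2], 0),
   ([12, 0, 15, 0], 1),
   ([12, 2], 0),
   ([14, 12, 9, 2], 0),
   ([4, 14, 3, 0], 1),
   ([6, 3, 12, 0], 1),
   ([11, 5, 13, 0], 0),
   ([4, 2, 2, 0], 1),
   ([5, 2, 1], 0),
   ([5, 13, 3], 1),
   ([14, 5, 1], 0),
   ([0, 14, 1], 1),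
   ([1, 15, 12, 1], 0),
   ([8, 7, 2], 0),
   ([2, 13, 7], 1),
   ([14, 4, 0], 1),
   ([3, 14, 2], 0),
   ([14, 2, 0, 0], 1),
   ([11, 4, 13, 1], 0),
   ([12], 0),
   ([10, 7, 3, 0], 1),
   ([3, 12, 3, 0], 1),
   ([11, 12, 6], 0),
   ([11, 12, 1, 3], 0),
   ([13, 15, 12, 0], 0),
   ([11, 12, 2, 4], 0),
   ([10, 12, 8, 0], 0),
   ([13, 8], 0),
   ([13, 4, 4, 0], 1),
   ([1, 11, 5], 1),
   ([7, 12, 7], 1),
   ([15, 4, 12], 0),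
   ([1, 6, 0], 0),
   ([4, 14, 4], 1),
   ([6, 14, 0], 1),
   ([14, 4, 0], 0),
   ([10, 4, 13, 5], 0),
   ([15, 12, 5], 0),
   ([14, 8, 12], 0),
   ([5, 15, 12, 0], 0),
   ([15, 4, 13, 0], 0),
   ([15, 8, 13, 4], 0),
   ([5, 10, 7], 1),
   ([12, 6, 4], 1),
   ([13, 4], 0),
   ([9, 7, 0], 0),
   ([11, 12, 9, 5], 0),
   ([15, 2, 13, 0], 0),
   ([8, 10], 0),
   ([5, 5, 2], 1),
   ([5, 5], 1),
   ([12, 3, 1], 1),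
   ([2, 12, 4], 1),
   ([14, 9, 2], 0),
   ([13, 3, 13, 1], 1),
   ([15, 12, 5, 0], 0),
   ([10, 5, 12, 0], 0),
   ([14, 6, 2], 1),
   ([9, 4, 1], 0),
   ([3, 1, 1], 1),
   ([6, 13, 7], 1),
   ([13, 0], 0),
   ([15, 5, 3], 0),
   ([4, 2], 0),
   ([12, 7, 1], 1),
   ([12, 2, 1], 1),
   ([7, 15, 0], 1),
   ([2, 15, 12, 2], 0),
   ([12, 9, 2], 0),
   ([12, 3, 0, 0], 1),
   ([10, 12, 2, 0], 0),
   ([6, 2, 0, 0], 1),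
   ([8, 7], 0),
   ([7, 4, 0, 0], 1),
   ([13, 8, 0], 0),
   ([13, 6, 3, 0], 1),
   ([7, 7, 3, 0], 1),
   ([1, 11, 0], 0),
   ([13, 7, 2], 1),
   ([13, 2, 1], 1),
   ([11, 5, 12], 0),
   ([14, 5, 13, 4], 0),
   ([11, 3, 13, 2], 0),
   ([12, 7, 14, 1], 1),
   ([12, 7, 2], 1),
   ([15, 5, 3, 0], 1),
   ([15, 7], 0),
   ([6, 0], 0),
   ([7, 2], 1),
   ([9, 12, 2], 0),
   ([15, 8, 12, 1], 0),
   ([7, 5, 5], 1),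
   ([0, 15, 3, 0], 1),
   ([10, 4, 12], 0),
   ([6, 4], 1),
   ([8, 15, 2], 0),
   ([9, 12], 0),
   ([5, 5, 1], 1),
   ([14, 6, 1], 1),
   ([7, 4, 0], 0),
   ([7, 1, 13, 2], 1),
   ([14, 7, 12], 0),
   ([14, 10, 6], 1),
   ([11, 5], 1),
   ([6, 13, 5], 1),
   ([11, 12, 6, 3], 0),
   ([6, 2, 0], 1),
   ([5, 13, 1], 0),
   ([2, 4, 4], 0),
   ([15, 12, 6, 0], 0),
   ([3, 13, 3, 1], 1),
   ([9, 10, 4], 0),
   ([11, 9, 3], 0),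
   ([11, 4, 3], 0),
   ([1, 15, 1], 0),
   ([15, 0], 0),
   ([4, 14, 2], 0),
   ([9, 2], 0),
   ([4, 7], 0),
   ([2, 1, 7], 0),
   ([5], 0),
   ([4, 0], 0),
   ([9, 4], 0),
   ([5, 10, 6], 1),
   ([10, 12, 9, 4], 0),
   ([12, 6, 3], 0),
   ([15, 9, 12, 3], 0),
   ([10, 7, 1], 1),
   ([1, 14, 1], 0),
   ([10, 7, 0], 1),
   ([1, 14, 3, 0], 1),
   ([13, 2, 0], 1),
   ([7, 13, 6, 0], 1),
   ([8, 10, 0], 0),
   ([11, 2, 13, 0], 0),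
   ([7, 12, 6], 1),
   ([15, 12, 8, 0], 0),
   ([6, 13, 4], 1),
   ([5, 2], 0),
   ([15, 7, 0], 1),
   ([2, 13, 0], 0),
   ([6, 6, 4], 1),
   ([5, 0], 1),
   ([0, 14, 12, 0], 0),
   ([12, 4, 2], 1),
   ([8, 12, 2], 0),
   ([11, 4, 12, 1], 0),
   ([3, 14, 3, 0], 1),
   ([13, 5], 1),
   ([4, 4, 2, 0], 1),
   ([7, 5, 0], 0),
   ([11, 4, 1], 0),
   ([5, 13, 2], 1),
   ([1, 11, 5, 1], 1),
   ([15, 1, 12], 0),
   ([9, 5, 0], 0),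
   ([11, 12, 3, 0], 1),
   ([15, 2, 4], 0),
   ([3, 10, 12, 0], 0),
   ([10, 5, 3, 1], 1),
   ([8, 12], 0),
   ([2, 12, 6, 0], 1)]

theorem cjt : ∀ a ∈ TTt, IsConj (val [(TL, [0, 0, 0, 0])]) a.g :=
  List.forall_mem_cons.mpr ⟨conjOf (h := [3, 5, 1, 2, 1, 6, 5, 6, 2, 1, 4]) (by decide +kernel), List.forall_mem_cons.mpr ⟨conjOf (h := []) (by decide +kernel), nofun⟩⟩

theorem lot : Lt.length ≤ {y ∈ (KK : Set G25.G) | IsConj (val [(TL, [0, 0, 0, 0])]) y}.ncard :=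
  conj_ge TA_mem (mkL_mem TA_mem) TA_inv cjt (c := (nat_lit 8899711205379)) (d := (nat_lit 8899983852035)) (by decide +kernel)

theorem centt : Nat.card (Subgroup.centralizer ({ev s [0, 0, 0, 0]} : Set Cfsg.Spor.Ly)) ≤ 39916800 := by
  have hB : cjB (nat_lit 4) 2 [(TL, [0, 0, 0, 0])] = true := by decide +kernel
  have := cent_le (val [(TL, [0, 0, 0, 0])]) (fixOf (a := 19464) (by decide +kernel))
    ((by decide +kernel : 1375 ≤ Lt.length).trans lot) ((en2 hB).trans_eq ct2) ((en3 hB).trans_eq ct3)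
    ((en7 hB).trans_eq ct7) (c0 := 14400) (by norm_num) (by norm_num)
  rw [val, val, mul_one, G25.sv_TL (by decide), io_ev (by decide)] at this
  exact Nat.le_of_mul_le_mul_left (this.trans (by norm_num)) (show 0 < 5859000000 by norm_num)

end Cfsg.Agent.Comp.Ly
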