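import Cfsg.Agent.Comp.Ly.Cen

set_option autoImplicit false
set_option maxRecDepth 100000

namespace Cfsg.Agent.Comp.Ly
open Cfsg.Agent.Comp

open _root_.Cfsg.Agent.Comp.G25 (El Seg o TL one val sv sv_o val_append mkD mkD_s mkD_TL divB eqS eqS_spec
  cjB cnt cnt_split mkL mkL_mem enum_le conj_ge)

theorem cx2_0 : cnt (cjB (nat_lit 3) 3) (List.take 4 U2) V2 = 2 := by decide +kernel

theorem cx2_1 : cnt (cjB (nat_lit 3) 3) (List.take 4 (List.drop 4 U2)) V2 = 8 := by decide +kernel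

theorem cx2_2 : cnt (cjB (nat_lit 3) 3) (List.take 4 (List.drop 4 (List.drop 4 U2))) V2 = 4 := by decide +kernel

theorem cx2_3 : cnt (cjB (nat_lit 3) 3) (List.take 4 (List.drop 4 (List.drop 4 (List.drop 4 U2)))) V2 = 4 := by decide +kernel

theorem cx2_4 : cnt (cjB (nat_lit 3) 3) (List.take 4 (List.drop 4 (List.drop 4 (List.drop 4 (List.drop 4 U2))))) V2 = 4 := by decide +kernel

theorem cx2_5 : cnt (cjB (nat_lit 3) 3) (List.take 4 (List.drop 4 (List.drop 4 (List.drop 4 (List.drop 4 (List.drop 4 U2)))))) V2 = 4 := by decide +kernel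

theorem cx2_6 : cnt (cjB (nat_lit 3) 3) (List.take 4 (List.drop 4 (List.drop 4 (List.drop 4 (List.drop 4 (List.drop 4 (List.drop 4 U2))))))) V2 = 4 := by decide +kernel

theorem cx2_7 : cnt (cjB (nat_lit 3) 3) (List.take 4 (List.drop 4 (List.drop 4 (List.drop 4 (List.drop 4 (List.drop 4 (List.drop 4 (List.drop 4 U2)))))))) V2 = 8 := by decide +kernel

theorem cx2_8 : cnt (cjB (nat_lit 3) 3) (List.take 4 (List.drop 4 (List.drop 4 (List.drop 4 (List.drop 4 (List.drop 4 (List.drop 4 (List.drop 4 (List.drop 4 U2))))))))) V2 = 2 := by decide +kernel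

theorem cx2_9 : cnt (cjB (nat_lit 3) 3) (List.take 4 (List.drop 4 (List.drop 4 (List.drop 4 (List.drop 4 (List.drop 4 (List.drop 4 (List.drop 4 (List.drop 4 (List.drop 4 U2)))))))))) V2 = 4 := by decide +kernel

theorem cx2_10 : cnt (cjB (nat_lit 3) 3) (List.take 4 (List.drop 4 (List.drop 4 (List.drop 4 (List.drop 4 (List.drop 4 (List.drop 4 (List.drop 4 (List.drop 4 (List.drop 4 (List.drop 4 U2))))))))))) V2 = 4 := by decide +kernel

theorem cx2_11 : cnt (cjB (nat_lit 3) 3) (List.take 4 (List.drop 4 (List.drop 4 (List.drop 4 (List.drop 4 (List.drop 4 (List.drop 4 (List.drop 4 (List.drop 4 (List.drop 4 (List.drop 4 (List.drop 4 U2)))))))))))) V2 = 0 := by decide +kernel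

theorem cx2_12 : cnt (cjB (nat_lit 3) 3) (List.take 4 (List.drop 4 (List.drop 4 (List.drop 4 (List.drop 4 (List.drop 4 (List.drop 4 (List.drop 4 (List.drop 4 (List.drop 4 (List.drop 4 (List.drop 4 (List.drop 4 U2))))))))))))) V2 = 4 := by decide +kernel

theorem cx2_13 : cnt (cjB (nat_lit 3) 3) (List.drop 4 (List.drop 4 (List.drop 4 (List.drop 4 (List.drop 4 (List.drop 4 (List.drop 4 (List.drop 4 (List.drop 4 (List.drop 4 (List.drop 4 (List.drop 4 (List.drop 4 U2))))))))))))) V2 = 4 := by decide +kernel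

theorem cx2 : cnt (cjB (nat_lit 3) 3) U2 V2 = 56 :=
  (cnt_split _ _ _ 4 cx2_0 (cnt_split _ _ _ 4 cx2_1 (cnt_split _ _ _ 4 cx2_2 (cnt_split _ _ _ 4 cx2_3 (cnt_split _ _ _ 4 cx2_4 (cnt_split _ _ _ 4 cx2_5 (cnt_split _ _ _ 4 cx2_6 (cnt_split _ _ _ 4 cx2_7 (cnt_split _ _ _ 4 cx2_8 (cnt_split _ _ _ 4 cx2_9 (cnt_split _ _ _ 4 cx2_10 (cnt_split _ _ _ 4 cx2_11 (cnt_split _ _ _ 4 cx2_12 cx2_13)))))))))))))

theorem cx3_0 : cnt (cjB (nat_lit 3) 3) (List.take 5 U3) V3 = 2 := by decide +kernel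

theorem cx3_1 : cnt (cjB (nat_lit 3) 3) (List.take 5 (List.drop 5 U3)) V3 = 4 := by decide +kernel

theorem cx3_2 : cnt (cjB (nat_lit 3) 3) (List.take 5 (List.drop 5 (List.drop 5 U3))) V3 = 5 := by decide +kernel

theorem cx3_3 : cnt (cjB (nat_lit 3) 3) (List.take 5 (List.drop 5 (List.drop 5 (List.drop 5 U3)))) V3 = 3 := by decide +kernel

theorem cx3_4 : cnt (cjB (nat_lit 3) 3) (List.take 5 (List.drop 5 (List.drop 5 (List.drop 5 (List.drop 5 U3))))) V3 = 5 := by decide +kernel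

theorem cx3_5 : cnt (cjB (nat_lit 3) 3) (List.drop 5 (List.drop 5 (List.drop 5 (List.drop 5 (List.drop 5 U3))))) V3 = 1 := by decide +kernel

theorem cx3 : cnt (cjB (nat_lit 3) 3) U3 V3 = 20 :=
  (cnt_split _ _ _ 5 cx3_0 (cnt_split _ _ _ 5 cx3_1 (cnt_split _ _ _ 5 cx3_2 (cnt_split _ _ _ 5 cx3_3 (cnt_split _ _ _ 5 cx3_4 cx3_5)))))

theorem cx7_0 : cnt (cjB (nat_lit 3) 3) (List.take 62 U7) V7 = 0 := by decide +kernel

theorem cx7_1 : cnt (cjB (nat_lit 3) 3) (List.take 62 (List.drop 62 U7)) V7 = 2 := by decide +kernel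

theorem cx7_2 : cnt (cjB (nat_lit 3) 3) (List.drop 62 (List.drop 62 U7)) V7 = 0 := by decide +kernel

theorem cx7 : cnt (cjB (nat_lit 3) 3) U7 V7 = 2 :=
  (cnt_split _ _ _ 62 cx7_0 (cnt_split _ _ _ 62 cx7_1 cx7_2))

noncomputable def TTx : List El := mkL TA
  [([nat_lit 4432676798722, nat_lit 17729624998275, nat_lit 4467034488963, nat_lit 103892910081, nat_lit 17592186044800, nat_lit 138521133571, nat_lit 4467034423556], [13, 10])]
  (by decide +kernel)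

def Lx : List (List Nat × Nat) :=
  [([13, 14, 2], 0),
   ([7], 0),
   ([11, 12, 14, 12, 2], 0),
   ([11, 13, 15, 12, 0], 0),
   ([15, 13, 0], 0),
   ([13, 0, 14], 0),
   ([11, 13, 14, 10, 0], 0),
   ([13, 3, 14], 0),
   ([11, 7], 0),
   ([11, 13, 14, 12, 0], 0),
   ([1, 1], 0),
   ([3, 12, 14], 0),
   ([11, 3, 14], 0),
   ([11, 13, 0, 14, 10], 0),
   ([11, 1], 0),
   ([12, 14, 0], 0),
   ([11, 13, 15, 10, 6], 0),
   ([3, 14], 0),
   ([7, 1], 0),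
   ([11, 0], 0),
   ([15, 2], 0),
   ([11, 3, 12, 14], 0),
   ([12, 14, 10, 6], 0),
   ([12, 2], 0),
   ([11, 13, 14, 2], 0),
   ([13, 14, 7], 0),
   ([12, 3, 14], 0),
   ([11, 12, 0, 14, 10], 0),
   ([14, 0], 0),
   ([11, 13, 0, 14], 0),
   ([10, 12, 2, 14], 0),
   ([2, 12, 14], 0),
   ([13, 15, 11, 0], 0),
   ([7, 7, 0], 0),
   ([12, 1, 14], 0),
   ([13, 15, 13, 0], 0),
   ([15, 1], 0),
   ([11, 12, 14, 10, 6], 0),
   ([13, 1, 14, 10], 0),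
   ([11, 13, 15, 0], 0),
   ([13, 14, 12, 0], 0),
   ([10, 12, 14, 0], 0),
   ([14, 10, 6], 0),
   ([13, 15, 11, 6], 0),
   ([10, 12, 14, 10, 2], 0),
   ([11, 14, 6], 0),
   ([10, 12, 14], 0),
   ([13, 15, 10, 2], 0),
   ([13, 15, 12, 2], 0),
   ([11, 13, 14, 0], 0),
   ([12, 14, 10, 0], 0),
   ([11, 12, 14, 0], 0),
   ([15, 12, 1], 0),
   ([7, 2, 0], 0),
   ([10, 2], 0),
   ([15, 12, 2], 0),
   ([10, 12, 14, 10, 6], 0),
   ([2, 2], 0),
   ([11, 6], 0),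
   ([14, 6], 0),
   ([14, 7, 1], 0),
   ([13, 1], 0),
   ([11, 2, 12, 14], 0),
   ([13, 15, 12, 0], 0),
   ([0], 0),
   ([10, 1], 0),
   ([11, 12, 2, 14], 0),
   ([15, 11, 0], 0),
   ([13, 15, 6], 0),
   ([15, 3], 0),
   ([15, 11, 6], 0),
   ([11, 13, 14, 10, 6], 0),
   ([15, 13, 2], 0),
   ([11, 13, 15, 6], 0),
   ([0, 14, 10], 0),
   ([10, 3, 12, 14], 0),
   ([15, 11, 2], 0),
   ([13, 14, 1], 0),
   ([12, 14, 10, 2], 0),
   ([12, 3], 0),
   ([], 0),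
   ([13, 14, 3], 0),
   ([11, 2], 0),
   ([12, 14, 12, 0], 0),
   ([10, 6, 0], 0),
   ([13, 15, 2], 0),
   ([10, 0], 0),
   ([12, 1], 0),
   ([14, 3], 0),
   ([14, 10, 0], 0),
   ([12, 14, 12, 2], 0),
   ([11, 13, 15, 12, 2], 0),
   ([11, 13, 14, 10, 2], 0),
   ([11, 14, 2], 0),
   ([15, 10, 6], 0),
   ([14, 10], 0),
   ([6], 0),
   ([10, 7], 0),
   ([13, 0], 0),
   ([11, 13, 15, 10, 0], 0),
   ([3, 3], 0),
   ([11, 13, 14, 6], 0),
   ([11, 12, 3, 14], 0),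
   ([13, 3], 0),
   ([12, 0, 14, 10], 0),
   ([14, 1], 0),
   ([3], 0),
   ([14, 6, 0], 0),
   ([11, 3], 0),
   ([14, 3, 1], 0),
   ([12, 0, 14], 0),
   ([10, 12, 14, 12, 2], 0),
   ([11, 13, 15, 2], 0),
   ([11, 13, 2, 14], 0),
   ([12, 14, 6], 0),
   ([13, 0, 14, 10], 0),
   ([6, 3, 0], 0),
   ([13, 2, 14], 0),
   ([13, 14, 0], 0),
   ([13, 14, 10, 2], 0),
   ([15, 2, 0], 0),
   ([14, 10, 2], 0),
   ([15, 12, 3], 0),
   ([13, 14, 12, 2], 0),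
   ([11, 13, 15, 10, 2], 0),
   ([10, 12, 14, 10, 0], 0),
   ([15, 12, 0], 0),
   ([7, 0], 0),
   ([7, 11, 0], 0),
   ([3, 0], 0),
   ([15, 10, 0], 0),
   ([11, 12, 1, 14, 10], 0),
   ([10], 0),
   ([2, 14], 0),
   ([10, 12, 14, 6], 0),
   ([6, 6], 0),
   ([11, 12, 0, 14], 0),
   ([13, 14, 10, 0], 0),
   ([12, 0], 0),
   ([10, 3], 0),
   ([14, 2, 0], 0),
   ([10, 2, 12, 14], 0),
   ([11, 12, 14, 10, 0], 0),
   ([13, 14, 6], 0),
   ([13, 15, 2, 0], 0),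
   ([10, 12, 0, 14], 0),
   ([14, 7], 0),
   ([2, 0], 0),
   ([12, 1, 14, 10], 0),
   ([13, 14, 10, 6], 0),
   ([12, 14, 2, 0], 0),
   ([13, 15, 0], 0),
   ([12, 14, 10], 0),
   ([15, 6], 0),
   ([10, 12, 14, 10], 0),
   ([10, 12, 14, 12, 0], 0),
   ([11, 14, 0], 0),
   ([1, 14, 10], 0),
   ([10, 6], 0),
   ([14, 12, 0], 0),
   ([13, 2], 0),
   ([11, 13, 14, 12, 2], 0),
   ([15, 10, 2], 0),
   ([3, 3, 0], 0),
   ([0, 0], 0),
   ([0, 14], 0),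
   ([11, 12, 1, 14], 0),
   ([10, 12, 14, 2], 0),
   ([12, 2, 0], 0),
   ([6, 0], 0),
   ([7, 2], 0),
   ([6, 3], 0),
   ([7, 7], 0),
   ([13, 15, 11, 2], 0),
   ([14], 0),
   ([2], 0),
   ([13, 2, 0], 0),
   ([1], 0),
   ([14, 2], 0),
   ([12, 14, 2], 0),
   ([15, 7], 0),
   ([11, 12, 14, 2], 0),
   ([11, 12, 14, 12, 0], 0),
   ([15, 0], 0),
   ([12, 14], 0),
   ([7, 14, 0], 0),
   ([1, 14], 0),
   ([11, 12, 14, 6], 0),
   ([14, 3, 0], 0),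
   ([3, 1], 0),
   ([12, 2, 14], 0),
   ([13, 15, 10, 6], 0),
   ([13, 15, 10, 0], 0),
   ([13, 1, 14], 0),
   ([11, 2, 14], 0),
   ([14, 7, 0], 0),
   ([11, 12, 14, 10, 2], 0),
   ([10, 12, 0, 14, 10], 0),
   ([14, 12, 2], 0),
   ([13, 15, 13, 2], 0)]

theorem cjx : ∀ a ∈ TTx, IsConj (val [(TL, [2, 1, 3, 0])]) a.g :=
  List.forall_mem_cons.mpr ⟨conjOf (h := []) (by decide +kernel), nofun⟩

theorem lox : Lx.length ≤ {y ∈ (KK : Set G25.G) | IsConj (val [(TL, [2, 1, 3, 0])]) y}.ncard :=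
  conj_ge TA_mem (mkL_mem TA_mem) TA_inv cjx (c := (nat_lit 13332388052994)) (d := (nat_lit 4466772279684)) (by decide +kernel)

theorem centx : Nat.card (Subgroup.centralizer ({ev s [2, 1, 3, 0]} : Set Cfsg.Spor.Ly)) ≤ 2694384000 := by
  have hB : cjB (nat_lit 3) 3 [(TL, [2, 1, 3, 0])] = true := by decide +kernel
  have := cent_le (val [(TL, [2, 1, 3, 0])]) (fixOf (a := 19278) (by decide +kernel))
    ((by decide +kernel : 200 ≤ Lx.length).trans lox) ((en2 hB).trans_eq cx2) ((en3 hB).trans_eq cx3)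
    ((en7 hB).trans_eq cx7) (c0 := 378000) (by norm_num) (by norm_num)
  rw [val, val, mul_one, G25.sv_TL (by decide), io_ev (by decide)] at this
  exact Nat.le_of_mul_le_mul_left (this.trans (by norm_num)) (show 0 < 5859000000 by norm_num)

end Cfsg.Agent.Comp.Ly
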