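import Cfsg.Agent.Comp.Ly.Dce
import Cfsg.Agent.Comp.Ly.Rho
import Cfsg.Agent.Comp.G25K.Main

set_option autoImplicit false
set_option maxRecDepth 100000

namespace Cfsg.Agent.Comp.Ly
open Cfsg.Agent.Comp

open _root_.Cfsg.Agent.Comp.G25 (El Seg o TL one val sv sv_o val_append mkD mkD_s mkD_TL divB eqS eqS_spec)

theorem io_inj : Function.Injective io := by
  have := G25.simple
  rw [← MonoidHom.ker_eq_bot_iff]
  refine (inferInstance : io.ker.Normal).eq_bot_or_eq_top.resolve_right fun h => nz4 ?_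
  have e : io (G25.s 0) = 1 := (h ▸ Subgroup.mem_top _ : G25.s 0 ∈ io.ker)
  rw [← rho_s 0 (by norm_num), ← exists_io.choose_spec.1 0 (by norm_num)]
  change rho (io (G25.s 0)) 0 3 = 0
  rw [e, map_one, Matrix.one_apply_ne (by decide)]

theorem kact : KAct io z G25K.phi 19530 300000 where
  tw g hg := by
    have h := (G25K.stab.2 g).mpr hg
    refine Subgroup.closure_induction (p := fun g _ => ∃ g', io g * z = z * io g') ?_ ⟨1, by simp⟩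
      ?_ ?_ h
    · rintro _ ⟨w, hw, rfl⟩
      revert w
      simp only [G25K.W0, List.forall_mem_cons]
      exact ⟨⟨kb0.g, by
        rw [io_ev (by decide), kb0_s, ← kp_of (a := 10) (by decide +kernel), ← ev_FS (w := [10]) (by decide)] <;> rfl⟩, ⟨kb2.g, by
        rw [io_ev (by decide), kb2_s, ← kp_of (a := 12) (by decide +kernel), ← ev_FS (w := [12]) (by decide)] <;> rfl⟩, ⟨kb4.g, by
        rw [io_ev (by decide), kb4_s, ← kp_of (a := 14) (by decide +kernel), ← ev_FS (w := [14]) (by decide)] <;> rfl⟩, ⟨kb6.g, by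
        rw [io_ev (by decide), kb6_s, ← kp_of (a := 16) (by decide +kernel), ← ev_FS (w := [16]) (by decide)] <;> rfl⟩, ⟨kb8.g, by
        rw [io_ev (by decide), kb8_s, ← kp_of (a := 18) (by decide +kernel), ← ev_FS (w := [18]) (by decide)] <;> rfl⟩, ⟨kb10.g, by
        rw [io_ev (by decide), kb10_s, ← kp_of (a := 22) (by decide +kernel), ← ev_FS (w := [22]) (by decide)] <;> rfl⟩, ⟨kb12.g, by
        rw [io_ev (by decide), kb12_s, ← kp_of (a := 24) (by decide +kernel), ← ev_FS (w := [24]) (by decide)] <;> rfl⟩, ⟨kb14.g, by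
        rw [io_ev (by decide), kb14_s, ← kp_of (a := 26) (by decide +kernel), ← ev_FS (w := [26]) (by decide)] <;> rfl⟩, nofun⟩
    · rintro a b - - ⟨a', ha⟩ ⟨b', hb⟩
      exact ⟨a' * b', by rw [map_mul, map_mul, mul_assoc, hb, ← mul_assoc, ha, mul_assoc]⟩
    · rintro a - ⟨a', ha⟩
      exact ⟨a'⁻¹, by
        rw [map_inv, map_inv, inv_mul_eq_iff_eq_mul, ← mul_assoc, ha, mul_inv_cancel_right]⟩
  lt g := Bd.lt (G25K.rep.bd g) (by norm_num)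
  tr := G25K.trans
  cd := by rw [G25.card.2.1]
  st := by
    rw [← card_eq_of_index (m := 300000) (G25.card.2.1.trans (by norm_num)) G25K.stab.1 (by norm_num),
      ← Nat.card_coe_set_eq]
    exact Nat.card_congr (Equiv.subtypeEquivRight fun g => (G25K.stab.2 g).symm)

theorem commN (h : G25.G) : Mm 22 * rho (io h) = rho (io h) * Mm 22 := by
  have h0 : h ∈ gen G25.s 20 := G25.pres.top ▸ Subgroup.mem_top h
  refine Subgroup.closure_induction (p := fun g _ => Mm 22 * rho (io g) = rho (io g) * Mm 22) ?_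
    (by simp) ?_ ?_ h0
  · rintro _ ⟨w, hw, rfl⟩
    obtain ⟨x, hx, rfl⟩ := List.mem_map.mp hw
    have hx := List.mem_range.mp hx
    rw [ev_single, io, exists_io.choose_spec.1 x hx, rho_s x (by omega)]
    simpa using eqsN ([22, x], [x, 22])
      ((by decide +kernel : ∀ x < 20, ([22, x], [x, 22]) ∈ EN) x hx)
  · intro a b _ _ ha hb
    rw [map_mul, map_mul, ← mul_assoc, ha, mul_assoc, hb, mul_assoc]
  · intro a _ ha
    calc Mm 22 * rho (io a⁻¹) = rho (io a⁻¹) * (rho (io a) * Mm 22) * rho (io a⁻¹) := by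
          rw [← mul_assoc, ← map_mul, ← map_mul]; simp
      _ = _ := by rw [← ha, mul_assoc, mul_assoc, ← map_mul, ← map_mul]; simp

theorem nzN {w : Cfsg.Spor.Ly} (h : w ∈ Dc io w1) : Mm 22 * (rho w * Mm 22) = 0 := by
  obtain ⟨a, b, rfl⟩ := h
  have e : Mm 22 * (Mm 20 * Mm 22) = 0 := by
    have := eqsN ([22, 20, 22], [99]) (by decide +kernel)
    simp only [ev_cons, ev_nil, mul_one] at this
    rw [this]; exact mat_out (by decide)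
  rw [map_mul, map_mul, w1, z, rho_s 20 (by norm_num), mul_assoc _ _ (Mm 22), ← commN,
    mul_assoc (rho (io a)), ← mul_assoc (Mm 22), commN, mul_assoc, ← mul_assoc (Mm 20),
    ← mul_assoc (Mm 22), e, zero_mul, mul_zero]

theorem V_tl {c : El} {u : List ℕ} (e : c.g = ev G25.s u) (h : ltB 20 u = true) : V [o c] = ev s u := by
  rw [V_o, e, io_ev h]

theorem nD {w : Cfsg.Spor.Ly} (u : List ℕ) (x : ℕ) (e : w = ev s u)
    (h : (∀ y ∈ u, y < 22) ∧ (22 :: (u ++ [22]), [x]) ∈ EN) {i j : Fin 111} (hx : Mm x i j ≠ 0) :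
    w ∉ Dc io w1 := fun hw => hx (by
  have := eqsN _ h.2
  rw [ev_cons, ev_append, ev_single, ev_single, ← rho_ev h.1, ← e, nzN hw] at this
  rw [← this]; rfl)

theorem w2e : w2 = ev s [20, 6, 20] := by
  rw [w2, V_tl (c := c6) (u := [6]) (mkD_TL (by decide)) (by decide)]; simp [w1, z, mul_assoc]

theorem w3e : w3 = ev s [20, 6, 20, 6, 20] := by
  rw [w3, w2e, V_tl (c := c6) (u := [6]) (mkD_TL (by decide)) (by decide)]; simp [z, mul_assoc]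

theorem w7e : w7 = ev s [20, 6, 2, 20] := by
  rw [w7, V_tl (c := c34) (u := [6, 2]) (mkD_TL (by decide)) (by decide)]; simp [w1, z, mul_assoc]

theorem d01 : Disjoint (Dc io w0) (Dc io w1) := Dc_disjoint fun ⟨a, b, e⟩ => nz3 (by
  have e1 : z = io (a⁻¹ * b⁻¹) := by
    rw [w0, w1] at e
    rw [map_mul, map_inv, map_inv, eq_mul_inv_iff_mul_eq, eq_inv_iff_mul_eq_one, mul_eq_one_comm,
      ← mul_assoc, e]
  have h1 := eqsN ([22, 20], [26]) (by decide +kernel)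
  have h2 := eqsN ([20, 22], [27]) (by decide +kernel)
  simp only [ev_cons, ev_nil, mul_one] at h1 h2
  have h3 := commN (a⁻¹ * b⁻¹)
  rw [← e1, z, rho_s 20 (by norm_num), h1, h2] at h3
  rw [h3])
theorem d21 : Disjoint (Dc io w2) (Dc io w1) := Dc_disjoint (nD _ _ w2e (by decide +kernel) nz0)
theorem d31 : Disjoint (Dc io w3) (Dc io w1) := Dc_disjoint (nD _ _ w3e (by decide +kernel) nz1)
theorem d71 : Disjoint (Dc io w7) (Dc io w1) := Dc_disjoint (nD _ _ w7e (by decide +kernel) nz2)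

theorem memS {x : Cfsg.Spor.Ly} {c : El} {u : List ℕ} (h : D x x c)
    (hc : band (eqS [o c] [(TL, u)]) (ltB 20 u) = true) : ev G25.s u ∈ stabQ io x := by
  rw [band_eq] at hc
  have := eqS_spec hc.1
  simp only [val, sv_o, mul_one, G25.sv_TL (ltB_spec hc.2)] at this
  rw [D, V_o, this] at h
  exact h

theorem repM {x y : Cfsg.Spor.Ly} {c : El} {u : List ℕ} {A : List Seg}
    (h : Q (x * V [o c] * z) (y * V A)) (e : c.g = ev G25.s u) :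
    x * io (ev G25.s u) * z ∈ Dc io y := by
  rw [V_o, e] at h; exact h.mem

/-- the union of the five double cosets -/
def DU : Set Cfsg.Spor.Ly := Dc io w0 ∪ (Dc io w1 ∪ (Dc io w2 ∪ (Dc io w3 ∪ Dc io w7)))

theorem biU : Bi io DU :=
  (bi_Dc _).union ((bi_Dc _).union ((bi_Dc _).union ((bi_Dc _).union (bi_Dc _))))

instance finP : Finite G25.G := G25.card.1

theorem rowOf {w : Cfsg.Spor.Ly} {D : Set Cfsg.Spor.Ly} {a b : ℕ}
    (h1 : ∃ A : Set ℕ, Cov io z G25K.phi w A D ∧ (∀ i ∈ A, i < 19530) ∧ a ≤ A.ncard)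
    (h2 : ∃ A : Set ℕ, Cov io z G25K.phi w A Dᶜ ∧ (∀ i ∈ A, i < 19530) ∧ b ≤ A.ncard)
    (hn : a + b = 19530) : mc io z w D = a * 300000 := by
  obtain ⟨A, a1, a2, a3⟩ := h1
  obtain ⟨B, b1, b2, b3⟩ := h2
  exact kact.row a1 b1 a2 b2 a3 b3 hn

theorem allOf {w : Cfsg.Spor.Ly}
    (h1 : ∃ A : Set ℕ, Cov io z G25K.phi w A DU ∧ (∀ i ∈ A, i < 19530) ∧ 19530 ≤ A.ncard) :
    ∀ g ∈ Dc io w, g * z ∈ DU := by
  obtain ⟨A, a1, a2, a3⟩ := h1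
  exact kact.all a1 a2 a3 biU

theorem z01 : ∀ g ∈ Dc io w0, g * z ∈ Dc io w1 := by
  rintro _ ⟨a, b, rfl⟩
  exact ⟨a * b, 1, by simp [w0, w1]⟩

theorem m01 : mc io z w0 (Dc io w1) = 19530 * 300000 := by
  have : {h : G25.G | w0 * io h * z ∈ Dc io w1} = Set.univ :=
    Set.eq_univ_of_forall fun h => z01 _ ⟨1, h, by simp⟩
  rw [mc, this, Set.ncard_univ, kact.cd]

theorem dOf {w u : Cfsg.Spor.Ly} {a b : ℕ} (h1 : mc io z w (Dc io w1) = a)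
    (h2 : mc io z u (Dc io w1) = b) (h : a ≠ b) : Disjoint (Dc io w) (Dc io u) :=
  Dc_disjoint fun e => h (by rw [← h1, ← h2, mc_congr (bi_Dc _) e])

def W1 : List (List Nat) := [[1, 3, 1, 2, 5, 3, 0, 5, 2, 0],
[3, 3, 0, 4, 1, 2, 4, 2],
[1, 3, 1, 4, 0, 2, 0],
[3, 1, 2, 4, 3, 0, 2],
[2, 2, 1, 3, 4, 2, 0, 4, 3, 3, 5],
[1, 1, 1],
[2, 1, 3, 1, 1],
[0, 2, 2, 0, 3, 3, 1]]

theorem hW1 : ∀ u ∈ W1, ev G25.s u ∈ stabQ io w1 :=
  List.forall_mem_cons.mpr ⟨memS (st1 kb0 (.head _)) (by decide +kernel),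
    List.forall_mem_cons.mpr ⟨memS (st1 kb2 (.tail _ (.tail _ (.head _)))) (by decide +kernel),
    List.forall_mem_cons.mpr ⟨memS (st1 kb4 (.tail _ (.tail _ (.tail _ (.tail _ (.head _)))))) (by decide +kernel),
    List.forall_mem_cons.mpr ⟨memS (st1 kb6 (.tail _ (.tail _ (.tail _ (.tail _ (.tail _ (.tail _ (.head _)))))))) (by decide +kernel),
    List.forall_mem_cons.mpr ⟨memS (st1 kb8 (.tail _ (.tail _ (.tail _ (.tail _ (.tail _ (.tail _ (.tail _ (.tail _ (.head _)))))))))) (by decide +kernel),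
    List.forall_mem_cons.mpr ⟨memS (st1 kb10 (.tail _ (.tail _ (.tail _ (.tail _ (.tail _ (.tail _ (.tail _ (.tail _ (.tail _ (.tail _ (.head _)))))))))))) (by decide +kernel),
    List.forall_mem_cons.mpr ⟨memS (st1 kb12 (.tail _ (.tail _ (.tail _ (.tail _ (.tail _ (.tail _ (.tail _ (.tail _ (.tail _ (.tail _ (.tail _ (.tail _ (.head _)))))))))))))) (by decide +kernel),
    List.forall_mem_cons.mpr ⟨memS (st1 kb14 (.tail _ (.tail _ (.tail _ (.tail _ (.tail _ (.tail _ (.tail _ (.tail _ (.tail _ (.tail _ (.tail _ (.tail _ (.tail _ (.tail _ (.head _)))))))))))))))) (by decide +kernel),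
    nofun⟩⟩⟩⟩⟩⟩⟩⟩

def W2 : List (List Nat) := [[0, 0, 0],
[0, 0, 2, 0, 3],
[0, 2, 2, 1, 3, 3, 1],
[0, 2, 8, 5, 15, 6, 0, 3, 3]]

theorem hW2 : ∀ u ∈ W2, ev G25.s u ∈ stabQ io w2 :=
  List.forall_mem_cons.mpr ⟨memS f5 (by decide +kernel),
    List.forall_mem_cons.mpr ⟨memS f6 (by decide +kernel),
    List.forall_mem_cons.mpr ⟨memS f7 (by decide +kernel),
    List.forall_mem_cons.mpr ⟨memS f37 (by decide +kernel),
    nofun⟩⟩⟩⟩

def W3 : List (List Nat) := [[0, 6, 6],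
[1, 1, 2, 1, 3],
[0, 2, 2, 0, 3, 3, 1],
[1, 14, 1, 2, 8, 7, 7, 9],
[0, 3, 3, 0, 2, 6, 1],
[2, 0, 8, 6, 6, 14, 9, 6, 18]]

theorem hW3 : ∀ u ∈ W3, ev G25.s u ∈ stabQ io w3 :=
  List.forall_mem_cons.mpr ⟨memS f11 (by decide +kernel),
    List.forall_mem_cons.mpr ⟨memS f12 (by decide +kernel),
    List.forall_mem_cons.mpr ⟨memS f13 (by decide +kernel),
    List.forall_mem_cons.mpr ⟨memS f31 (by decide +kernel),
    List.forall_mem_cons.mpr ⟨memS f38 (by decide +kernel),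
    List.forall_mem_cons.mpr ⟨memS f45 (by decide +kernel),
    nofun⟩⟩⟩⟩⟩⟩

def W7 : List (List Nat) := [[0, 0, 0],
[0, 0, 2, 0, 3],
[1, 14, 4, 18, 7, 18, 15, 5, 7, 1, 1]]

theorem hW7 : ∀ u ∈ W7, ev G25.s u ∈ stabQ io w7 :=
  List.forall_mem_cons.mpr ⟨memS f57 (by decide +kernel),
    List.forall_mem_cons.mpr ⟨memS f58 (by decide +kernel),
    List.forall_mem_cons.mpr ⟨memS f71 (by decide +kernel),
    nofun⟩⟩⟩

theorem m1_0 : w1 * io (ev G25.s []) * z ∈ Dc io w0 := repM t1_0 (mkD_TL (by decide))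

theorem m1_1 : w1 * io (ev G25.s [2]) * z ∈ Dc io w1 := repM t1_1 (mkD_TL (by decide))

theorem m1_3 : w1 * io (ev G25.s [6]) * z ∈ Dc io w2 := repM t1_3 (mkD_TL (by decide))

theorem m1_5 : w1 * io (ev G25.s [6, 2]) * z ∈ Dc io w7 := repM t1_5 (mkD_TL (by decide))

theorem m1_21 : w1 * io (ev G25.s [6, 4, 6]) * z ∈ Dc io w3 := repM t1_21 (mkD_TL (by decide))

theorem m1_1107 : w1 * io (ev G25.s [6, 4, 3, 0, 4, 6]) * z ∈ Dc io w1 := repM t1_1107 (mkD_TL (by decide))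

theorem m2_0 : w2 * io (ev G25.s []) * z ∈ Dc io w1 := repM t2_0 (mkD_TL (by decide))

theorem m2_1 : w2 * io (ev G25.s [2]) * z ∈ Dc io w7 := repM t2_1 (mkD_TL (by decide))

theorem m2_3 : w2 * io (ev G25.s [6]) * z ∈ Dc io w3 := repM t2_3 (mkD_TL (by decide))

theorem m2_5 : w2 * io (ev G25.s [6, 2]) * z ∈ Dc io w2 := repM t2_5 (mkD_TL (by decide))

theorem m2_18 : w2 * io (ev G25.s [2, 4, 6]) * z ∈ Dc io w7 := repM t2_18 (mkD_TL (by decide))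

theorem m2_58 : w2 * io (ev G25.s [4, 0, 4, 6]) * z ∈ Dc io w7 := repM t2_58 (mkD_TL (by decide))

theorem m2_64 : w2 * io (ev G25.s [4, 1, 4, 6]) * z ∈ Dc io w3 := repM t2_64 (mkD_TL (by decide))

theorem m2_130 : w2 * io (ev G25.s [4, 1, 4, 6, 2]) * z ∈ Dc io w2 := repM t2_130 (mkD_TL (by decide))

theorem m2_264 : w2 * io (ev G25.s [2, 5, 0, 4, 6]) * z ∈ Dc io w3 := repM t2_264 (mkD_TL (by decide))

theorem m2_849 : w2 * io (ev G25.s [2, 5, 0, 4, 6, 3]) * z ∈ Dc io w2 := repM t2_849 (mkD_TL (by decide))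

theorem m2_3604 : w2 * io (ev G25.s [6, 4, 1, 2, 4, 6, 3]) * z ∈ Dc io w3 := repM t2_3604 (mkD_TL (by decide))

theorem m3_0 : w3 * io (ev G25.s []) * z ∈ Dc io w2 := repM t3_0 (mkD_TL (by decide))

theorem m3_8 : w3 * io (ev G25.s [4, 6]) * z ∈ Dc io w2 := repM t3_8 (mkD_TL (by decide))

theorem m3_11 : w3 * io (ev G25.s [4, 6, 2]) * z ∈ Dc io w7 := repM t3_11 (mkD_TL (by decide))

theorem m3_58 : w3 * io (ev G25.s [4, 0, 4, 6]) * z ∈ Dc io w3 := repM t3_58 (mkD_TL (by decide))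

theorem m3_59 : w3 * io (ev G25.s [5, 0, 4, 6]) * z ∈ Dc io w3 := repM t3_59 (mkD_TL (by decide))

theorem m3_64 : w3 * io (ev G25.s [4, 1, 4, 6]) * z ∈ Dc io w7 := repM t3_64 (mkD_TL (by decide))

theorem m3_65 : w3 * io (ev G25.s [5, 1, 4, 6]) * z ∈ Dc io w7 := repM t3_65 (mkD_TL (by decide))

theorem m3_71 : w3 * io (ev G25.s [4, 2, 4, 6]) * z ∈ Dc io w2 := repM t3_71 (mkD_TL (by decide))

theorem m3_131 : w3 * io (ev G25.s [5, 1, 4, 6, 2]) * z ∈ Dc io w3 := repM t3_131 (mkD_TL (by decide))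

theorem m3_137 : w3 * io (ev G25.s [4, 2, 4, 6, 2]) * z ∈ Dc io w7 := repM t3_137 (mkD_TL (by decide))

theorem m3_190 : w3 * io (ev G25.s [4, 0, 4, 6, 3]) * z ∈ Dc io w7 := repM t3_190 (mkD_TL (by decide))

theorem m3_191 : w3 * io (ev G25.s [5, 0, 4, 6, 3]) * z ∈ Dc io w2 := repM t3_191 (mkD_TL (by decide))

theorem m3_197 : w3 * io (ev G25.s [5, 1, 4, 6, 3]) * z ∈ Dc io w7 := repM t3_197 (mkD_TL (by decide))

theorem m3_251 : w3 * io (ev G25.s [4, 3, 0, 4, 6]) * z ∈ Dc io w7 := repM t3_251 (mkD_TL (by decide))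

theorem m3_1063 : w3 * io (ev G25.s [5, 0, 2, 0, 4, 6]) * z ∈ Dc io w3 := repM t3_1063 (mkD_TL (by decide))

theorem m3_1067 : w3 * io (ev G25.s [5, 1, 2, 0, 4, 6]) * z ∈ Dc io w7 := repM t3_1067 (mkD_TL (by decide))

theorem m3_1545 : w3 * io (ev G25.s [5, 6, 1, 3, 4, 6]) * z ∈ Dc io w3 := repM t3_1545 (mkD_TL (by decide))

theorem m3_5880 : w3 * io (ev G25.s [5, 6, 2, 1, 3, 4, 6]) * z ∈ Dc io w1 := repM t3_5880 (mkD_TL (by decide))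

theorem m7_0 : w7 * io (ev G25.s []) * z ∈ Dc io w1 := repM t7_0 (mkD_TL (by decide))

theorem m7_1 : w7 * io (ev G25.s [2]) * z ∈ Dc io w7 := repM t7_1 (mkD_TL (by decide))

theorem m7_2 : w7 * io (ev G25.s [3]) * z ∈ Dc io w2 := repM t7_2 (mkD_TL (by decide))

theorem m7_8 : w7 * io (ev G25.s [4, 6]) * z ∈ Dc io w7 := repM t7_8 (mkD_TL (by decide))

theorem m7_14 : w7 * io (ev G25.s [4, 6, 3]) * z ∈ Dc io w3 := repM t7_14 (mkD_TL (by decide))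

theorem m7_19 : w7 * io (ev G25.s [3, 4, 6]) * z ∈ Dc io w3 := repM t7_19 (mkD_TL (by decide))

theorem m7_33 : w7 * io (ev G25.s [3, 4, 6, 2]) * z ∈ Dc io w7 := repM t7_33 (mkD_TL (by decide))

theorem m7_46 : w7 * io (ev G25.s [2, 4, 6, 3]) * z ∈ Dc io w7 := repM t7_46 (mkD_TL (by decide))

theorem m7_59 : w7 * io (ev G25.s [5, 0, 4, 6]) * z ∈ Dc io w7 := repM t7_59 (mkD_TL (by decide))

theorem m7_64 : w7 * io (ev G25.s [4, 1, 4, 6]) * z ∈ Dc io w7 := repM t7_64 (mkD_TL (by decide))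

theorem m7_70 : w7 * io (ev G25.s [2, 2, 4, 6]) * z ∈ Dc io w7 := repM t7_70 (mkD_TL (by decide))

theorem m7_78 : w7 * io (ev G25.s [4, 3, 4, 6]) * z ∈ Dc io w3 := repM t7_78 (mkD_TL (by decide))

theorem m7_79 : w7 * io (ev G25.s [5, 3, 4, 6]) * z ∈ Dc io w7 := repM t7_79 (mkD_TL (by decide))

theorem m7_87 : w7 * io (ev G25.s [5, 6, 4, 6]) * z ∈ Dc io w7 := repM t7_87 (mkD_TL (by decide))

theorem m7_131 : w7 * io (ev G25.s [5, 1, 4, 6, 2]) * z ∈ Dc io w7 := repM t7_131 (mkD_TL (by decide))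

theorem m7_178 : w7 * io (ev G25.s [2, 4, 6, 3, 3]) * z ∈ Dc io w7 := repM t7_178 (mkD_TL (by decide))

theorem m7_191 : w7 * io (ev G25.s [5, 0, 4, 6, 3]) * z ∈ Dc io w3 := repM t7_191 (mkD_TL (by decide))

theorem m7_197 : w7 * io (ev G25.s [5, 1, 4, 6, 3]) * z ∈ Dc io w7 := repM t7_197 (mkD_TL (by decide))

theorem m7_210 : w7 * io (ev G25.s [4, 3, 4, 6, 3]) * z ∈ Dc io w7 := repM t7_210 (mkD_TL (by decide))

theorem m7_244 : w7 * io (ev G25.s [4, 2, 0, 4, 6]) * z ∈ Dc io w7 := repM t7_244 (mkD_TL (by decide))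

theorem m7_251 : w7 * io (ev G25.s [4, 3, 0, 4, 6]) * z ∈ Dc io w3 := repM t7_251 (mkD_TL (by decide))

theorem m7_264 : w7 * io (ev G25.s [2, 5, 0, 4, 6]) * z ∈ Dc io w3 := repM t7_264 (mkD_TL (by decide))

theorem m7_269 : w7 * io (ev G25.s [4, 6, 0, 4, 6]) * z ∈ Dc io w7 := repM t7_269 (mkD_TL (by decide))

theorem m7_296 : w7 * io (ev G25.s [6, 5, 1, 4, 6]) * z ∈ Dc io w7 := repM t7_296 (mkD_TL (by decide))

theorem m7_565 : w7 * io (ev G25.s [2, 5, 0, 4, 6, 2]) * z ∈ Dc io w7 := repM t7_565 (mkD_TL (by decide))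

theorem m7_577 : w7 * io (ev G25.s [5, 2, 1, 4, 6, 2]) * z ∈ Dc io w3 := repM t7_577 (mkD_TL (by decide))

theorem m7_895 : w7 * io (ev G25.s [4, 1, 2, 4, 6, 3]) * z ∈ Dc io w2 := repM t7_895 (mkD_TL (by decide))

theorem m7_1557 : w7 * io (ev G25.s [5, 1, 3, 3, 4, 6]) * z ∈ Dc io w7 := repM t7_1557 (mkD_TL (by decide))

theorem m7_2392 : w7 * io (ev G25.s [6, 4, 6, 0, 4, 6, 2]) * z ∈ Dc io w2 := repM t7_2392 (mkD_TL (by decide))

theorem m7_4229 : w7 * io (ev G25.s [4, 2, 4, 2, 0, 4, 6]) * z ∈ Dc io w3 := repM t7_4229 (mkD_TL (by decide))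

theorem all1 : ∀ g ∈ Dc io w1, g * z ∈ DU := allOf
  (kact.cert G25K.rep (l := nat_lit 15) (by norm_num) biU hW1 (sch := [5, 6, 5, 2, 5, 6, 5, 5, 3, 5, 6, 5, 2, 5, 5, 6, 5, 7, 5, 6, 5, 2, 5, 5, 6]) (a := 19530)
    (r := [(0, []), (3, [2]), (4, [6]), (11, [6, 2]), (79, [6, 4, 6]), (4522, [6, 4, 3, 0, 4, 6])])
    (List.forall_mem_cons.mpr ⟨Or.inl m1_0,
    List.forall_mem_cons.mpr ⟨Or.inr (Or.inl m1_1),
    List.forall_mem_cons.mpr ⟨Or.inr (Or.inr (Or.inl m1_3)),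
    List.forall_mem_cons.mpr ⟨Or.inr (Or.inr (Or.inr (Or.inr m1_5))),
    List.forall_mem_cons.mpr ⟨Or.inr (Or.inr (Or.inr (Or.inl m1_21))),
    List.forall_mem_cons.mpr ⟨Or.inr (Or.inl m1_1107),
    nofun⟩⟩⟩⟩⟩⟩)
    (by decide +kernel))

theorem all2 : ∀ g ∈ Dc io w2, g * z ∈ DU := allOf
  (kact.cert G25K.rep (l := nat_lit 15) (by norm_num) biU hW2 (sch := [0, 1, 0, 0, 2, 0, 3, 0, 1, 0, 3, 0, 1, 0, 0, 3, 0, 1, 0, 0, 0, 0, 0, 1]) (a := 19530)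
    (r := [(0, []), (3, [2]), (4, [6]), (11, [6, 2]), (71, [2, 4, 6]), (830, [4, 0, 4, 6]), (133, [4, 1, 4, 6]), (3448, [4, 1, 4, 6, 2]), (6687, [2, 5, 0, 4, 6]), (12709, [2, 5, 0, 4, 6, 3]), (1911, [6, 4, 1, 2, 4, 6, 3])])
    (List.forall_mem_cons.mpr ⟨Or.inr (Or.inl m2_0),
    List.forall_mem_cons.mpr ⟨Or.inr (Or.inr (Or.inr (Or.inr m2_1))),
    List.forall_mem_cons.mpr ⟨Or.inr (Or.inr (Or.inr (Or.inl m2_3))),
    List.forall_mem_cons.mpr ⟨Or.inr (Or.inr (Or.inl m2_5)),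
    List.forall_mem_cons.mpr ⟨Or.inr (Or.inr (Or.inr (Or.inr m2_18))),
    List.forall_mem_cons.mpr ⟨Or.inr (Or.inr (Or.inr (Or.inr m2_58))),
    List.forall_mem_cons.mpr ⟨Or.inr (Or.inr (Or.inr (Or.inl m2_64))),
    List.forall_mem_cons.mpr ⟨Or.inr (Or.inr (Or.inl m2_130)),
    List.forall_mem_cons.mpr ⟨Or.inr (Or.inr (Or.inr (Or.inl m2_264))),
    List.forall_mem_cons.mpr ⟨Or.inr (Or.inr (Or.inl m2_849)),
    List.forall_mem_cons.mpr ⟨Or.inr (Or.inr (Or.inr (Or.inl m2_3604))),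
    nofun⟩⟩⟩⟩⟩⟩⟩⟩⟩⟩⟩)
    (by decide +kernel))

theorem all3 : ∀ g ∈ Dc io w3, g * z ∈ DU := allOf
  (kact.cert G25K.rep (l := nat_lit 15) (by norm_num) biU hW3 (sch := [0, 1, 0, 4, 0, 0, 3, 0, 1, 0, 5, 0, 1, 0, 4, 0, 2, 0]) (a := 19530)
    (r := [(0, []), (14, [4, 6]), (64, [4, 6, 2]), (830, [4, 0, 4, 6]), (829, [5, 0, 4, 6]), (133, [4, 1, 4, 6]), (132, [5, 1, 4, 6]), (654, [4, 2, 4, 6]), (3447, [5, 1, 4, 6, 2]), (3488, [4, 2, 4, 6, 2]), (2346, [4, 0, 4, 6, 3]), (2345, [5, 0, 4, 6, 3]), (295, [5, 1, 4, 6, 3]), (6672, [4, 3, 0, 4, 6]), (6906, [5, 0, 2, 0, 4, 6]), (9181, [5, 1, 2, 0, 4, 6]), (224, [5, 6, 1, 3, 4, 6]), (60, [5, 6, 2, 1, 3, 4, 6])])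
    (List.forall_mem_cons.mpr ⟨Or.inr (Or.inr (Or.inl m3_0)),
    List.forall_mem_cons.mpr ⟨Or.inr (Or.inr (Or.inl m3_8)),
    List.forall_mem_cons.mpr ⟨Or.inr (Or.inr (Or.inr (Or.inr m3_11))),
    List.forall_mem_cons.mpr ⟨Or.inr (Or.inr (Or.inr (Or.inl m3_58))),
    List.forall_mem_cons.mpr ⟨Or.inr (Or.inr (Or.inr (Or.inl m3_59))),
    List.forall_mem_cons.mpr ⟨Or.inr (Or.inr (Or.inr (Or.inr m3_64))),
    List.forall_mem_cons.mpr ⟨Or.inr (Or.inr (Or.inr (Or.inr m3_65))),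
    List.forall_mem_cons.mpr ⟨Or.inr (Or.inr (Or.inl m3_71)),
    List.forall_mem_cons.mpr ⟨Or.inr (Or.inr (Or.inr (Or.inl m3_131))),
    List.forall_mem_cons.mpr ⟨Or.inr (Or.inr (Or.inr (Or.inr m3_137))),
    List.forall_mem_cons.mpr ⟨Or.inr (Or.inr (Or.inr (Or.inr m3_190))),
    List.forall_mem_cons.mpr ⟨Or.inr (Or.inr (Or.inl m3_191)),
    List.forall_mem_cons.mpr ⟨Or.inr (Or.inr (Or.inr (Or.inr m3_197))),
    List.forall_mem_cons.mpr ⟨Or.inr (Or.inr (Or.inr (Or.inr m3_251))),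
    List.forall_mem_cons.mpr ⟨Or.inr (Or.inr (Or.inr (Or.inl m3_1063))),
    List.forall_mem_cons.mpr ⟨Or.inr (Or.inr (Or.inr (Or.inr m3_1067))),
    List.forall_mem_cons.mpr ⟨Or.inr (Or.inr (Or.inr (Or.inl m3_1545))),
    List.forall_mem_cons.mpr ⟨Or.inr (Or.inl m3_5880),
    nofun⟩⟩⟩⟩⟩⟩⟩⟩⟩⟩⟩⟩⟩⟩⟩⟩⟩⟩)
    (by decide +kernel))

theorem all7 : ∀ g ∈ Dc io w7, g * z ∈ DU := allOf
  (kact.cert G25K.rep (l := nat_lit 15) (by norm_num) biU hW7 (sch := [0, 1, 0, 0, 0, 2, 0, 0, 0, 0, 2, 0, 0, 0, 0, 1, 0, 0, 2, 0, 0]) (a := 19530)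
    (r := [(0, []), (3, [2]), (1, [3]), (14, [4, 6]), (32, [4, 6, 3]), (37, [3, 4, 6]), (19, [3, 4, 6, 2]), (21, [2, 4, 6, 3]), (829, [5, 0, 4, 6]), (133, [4, 1, 4, 6]), (652, [2, 2, 4, 6]), (323, [4, 3, 4, 6]), (322, [5, 3, 4, 6]), (697, [5, 6, 4, 6]), (3447, [5, 1, 4, 6, 2]), (39, [2, 4, 6, 3, 3]), (2345, [5, 0, 4, 6, 3]), (295, [5, 1, 4, 6, 3]), (485, [4, 3, 4, 6, 3]), (6681, [4, 2, 0, 4, 6]), (6672, [4, 3, 0, 4, 6]), (6687, [2, 5, 0, 4, 6]), (5577, [4, 6, 0, 4, 6]), (1170, [6, 5, 1, 4, 6]), (16886, [2, 5, 0, 4, 6, 2]), (12531, [5, 2, 1, 4, 6, 2]), (1769, [4, 1, 2, 4, 6, 3]), (9099, [5, 1, 3, 3, 4, 6]), (19046, [6, 4, 6, 0, 4, 6, 2]), (15230, [4, 2, 4, 2, 0, 4, 6])])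
    (List.forall_mem_cons.mpr ⟨Or.inr (Or.inl m7_0),
    List.forall_mem_cons.mpr ⟨Or.inr (Or.inr (Or.inr (Or.inr m7_1))),
    List.forall_mem_cons.mpr ⟨Or.inr (Or.inr (Or.inl m7_2)),
    List.forall_mem_cons.mpr ⟨Or.inr (Or.inr (Or.inr (Or.inr m7_8))),
    List.forall_mem_cons.mpr ⟨Or.inr (Or.inr (Or.inr (Or.inl m7_14))),
    List.forall_mem_cons.mpr ⟨Or.inr (Or.inr (Or.inr (Or.inl m7_19))),
    List.forall_mem_cons.mpr ⟨Or.inr (Or.inr (Or.inr (Or.inr m7_33))),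
    List.forall_mem_cons.mpr ⟨Or.inr (Or.inr (Or.inr (Or.inr m7_46))),
    List.forall_mem_cons.mpr ⟨Or.inr (Or.inr (Or.inr (Or.inr m7_59))),
    List.forall_mem_cons.mpr ⟨Or.inr (Or.inr (Or.inr (Or.inr m7_64))),
    List.forall_mem_cons.mpr ⟨Or.inr (Or.inr (Or.inr (Or.inr m7_70))),
    List.forall_mem_cons.mpr ⟨Or.inr (Or.inr (Or.inr (Or.inl m7_78))),
    List.forall_mem_cons.mpr ⟨Or.inr (Or.inr (Or.inr (Or.inr m7_79))),
    List.forall_mem_cons.mpr ⟨Or.inr (Or.inr (Or.inr (Or.inr m7_87))),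
    List.forall_mem_cons.mpr ⟨Or.inr (Or.inr (Or.inr (Or.inr m7_131))),
    List.forall_mem_cons.mpr ⟨Or.inr (Or.inr (Or.inr (Or.inr m7_178))),
    List.forall_mem_cons.mpr ⟨Or.inr (Or.inr (Or.inr (Or.inl m7_191))),
    List.forall_mem_cons.mpr ⟨Or.inr (Or.inr (Or.inr (Or.inr m7_197))),
    List.forall_mem_cons.mpr ⟨Or.inr (Or.inr (Or.inr (Or.inr m7_210))),
    List.forall_mem_cons.mpr ⟨Or.inr (Or.inr (Or.inr (Or.inr m7_244))),
    List.forall_mem_cons.mpr ⟨Or.inr (Or.inr (Or.inr (Or.inl m7_251))),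
    List.forall_mem_cons.mpr ⟨Or.inr (Or.inr (Or.inr (Or.inl m7_264))),
    List.forall_mem_cons.mpr ⟨Or.inr (Or.inr (Or.inr (Or.inr m7_269))),
    List.forall_mem_cons.mpr ⟨Or.inr (Or.inr (Or.inr (Or.inr m7_296))),
    List.forall_mem_cons.mpr ⟨Or.inr (Or.inr (Or.inr (Or.inr m7_565))),
    List.forall_mem_cons.mpr ⟨Or.inr (Or.inr (Or.inr (Or.inl m7_577))),
    List.forall_mem_cons.mpr ⟨Or.inr (Or.inr (Or.inl m7_895)),
    List.forall_mem_cons.mpr ⟨Or.inr (Or.inr (Or.inr (Or.inr m7_1557))),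
    List.forall_mem_cons.mpr ⟨Or.inr (Or.inr (Or.inl m7_2392)),
    List.forall_mem_cons.mpr ⟨Or.inr (Or.inr (Or.inr (Or.inl m7_4229))),
    nofun⟩⟩⟩⟩⟩⟩⟩⟩⟩⟩⟩⟩⟩⟩⟩⟩⟩⟩⟩⟩⟩⟩⟩⟩⟩⟩⟩⟩⟩⟩)
    (by decide +kernel))

theorem m21 : mc io z w2 (Dc io w1) = 63 * 300000 := rowOf
  (kact.cert G25K.rep (l := nat_lit 15) (by norm_num) (bi_Dc _) hW2 (sch := [3, 0, 1, 0, 3, 0, 1, 0, 3, 0, 1]) (a := 63)
    (r := [(0, [])])
    (List.forall_mem_cons.mpr ⟨m2_0,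
    nofun⟩)
    (by decide +kernel))
  (kact.cert G25K.rep (l := nat_lit 15) (by norm_num) (bi_Dc _).compl hW2 (sch := [0, 1, 0, 0, 2, 0, 3, 0, 1, 0, 3, 0, 1, 0, 0, 3, 0, 1, 0, 0, 0, 0, 0, 1]) (a := 19467)
    (r := [(3, [2]), (4, [6]), (11, [6, 2]), (71, [2, 4, 6]), (830, [4, 0, 4, 6]), (133, [4, 1, 4, 6]), (3448, [4, 1, 4, 6, 2]), (6687, [2, 5, 0, 4, 6]), (12709, [2, 5, 0, 4, 6, 3]), (1911, [6, 4, 1, 2, 4, 6, 3])])
    (List.forall_mem_cons.mpr ⟨Set.disjoint_left.mp d71 m2_1,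
    List.forall_mem_cons.mpr ⟨Set.disjoint_left.mp d31 m2_3,
    List.forall_mem_cons.mpr ⟨Set.disjoint_left.mp d21 m2_5,
    List.forall_mem_cons.mpr ⟨Set.disjoint_left.mp d71 m2_18,
    List.forall_mem_cons.mpr ⟨Set.disjoint_left.mp d71 m2_58,
    List.forall_mem_cons.mpr ⟨Set.disjoint_left.mp d31 m2_64,
    List.forall_mem_cons.mpr ⟨Set.disjoint_left.mp d21 m2_130,
    List.forall_mem_cons.mpr ⟨Set.disjoint_left.mp d31 m2_264,
    List.forall_mem_cons.mpr ⟨Set.disjoint_left.mp d21 m2_849,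
    List.forall_mem_cons.mpr ⟨Set.disjoint_left.mp d31 m2_3604,
    nofun⟩⟩⟩⟩⟩⟩⟩⟩⟩⟩)
    (by decide +kernel)) (by norm_num)

theorem m31 : mc io z w3 (Dc io w1) = 36 * 300000 := rowOf
  (kact.cert G25K.rep (l := nat_lit 15) (by norm_num) (bi_Dc _) hW3 (sch := [0, 1, 0, 4, 5, 0]) (a := 36)
    (r := [(60, [5, 6, 2, 1, 3, 4, 6])])
    (List.forall_mem_cons.mpr ⟨m3_5880,
    nofun⟩)
    (by decide +kernel))
  (kact.cert G25K.rep (l := nat_lit 15) (by norm_num) (bi_Dc _).compl hW3 (sch := [0, 1, 0, 0, 4, 0, 3, 0, 1, 0, 5, 0, 1, 0, 4, 0, 4]) (a := 19494)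
    (r := [(0, []), (14, [4, 6]), (64, [4, 6, 2]), (830, [4, 0, 4, 6]), (829, [5, 0, 4, 6]), (133, [4, 1, 4, 6]), (132, [5, 1, 4, 6]), (654, [4, 2, 4, 6]), (3447, [5, 1, 4, 6, 2]), (3488, [4, 2, 4, 6, 2]), (2346, [4, 0, 4, 6, 3]), (2345, [5, 0, 4, 6, 3]), (295, [5, 1, 4, 6, 3]), (6672, [4, 3, 0, 4, 6]), (6906, [5, 0, 2, 0, 4, 6]), (9181, [5, 1, 2, 0, 4, 6]), (224, [5, 6, 1, 3, 4, 6])])
    (List.forall_mem_cons.mpr ⟨Set.disjoint_left.mp d21 m3_0,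
    List.forall_mem_cons.mpr ⟨Set.disjoint_left.mp d21 m3_8,
    List.forall_mem_cons.mpr ⟨Set.disjoint_left.mp d71 m3_11,
    List.forall_mem_cons.mpr ⟨Set.disjoint_left.mp d31 m3_58,
    List.forall_mem_cons.mpr ⟨Set.disjoint_left.mp d31 m3_59,
    List.forall_mem_cons.mpr ⟨Set.disjoint_left.mp d71 m3_64,
    List.forall_mem_cons.mpr ⟨Set.disjoint_left.mp d71 m3_65,
    List.forall_mem_cons.mpr ⟨Set.disjoint_left.mp d21 m3_71,
    List.forall_mem_cons.mpr ⟨Set.disjoint_left.mp d31 m3_131,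
    List.forall_mem_cons.mpr ⟨Set.disjoint_left.mp d71 m3_137,
    List.forall_mem_cons.mpr ⟨Set.disjoint_left.mp d71 m3_190,
    List.forall_mem_cons.mpr ⟨Set.disjoint_left.mp d21 m3_191,
    List.forall_mem_cons.mpr ⟨Set.disjoint_left.mp d71 m3_197,
    List.forall_mem_cons.mpr ⟨Set.disjoint_left.mp d71 m3_251,
    List.forall_mem_cons.mpr ⟨Set.disjoint_left.mp d31 m3_1063,
    List.forall_mem_cons.mpr ⟨Set.disjoint_left.mp d71 m3_1067,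
    List.forall_mem_cons.mpr ⟨Set.disjoint_left.mp d31 m3_1545,
    nofun⟩⟩⟩⟩⟩⟩⟩⟩⟩⟩⟩⟩⟩⟩⟩⟩⟩)
    (by decide +kernel)) (by norm_num)

theorem m71 : mc io z w7 (Dc io w1) = 42 * 300000 := rowOf
  (kact.cert G25K.rep (l := nat_lit 15) (by norm_num) (bi_Dc _) hW7 (sch := [2, 0, 0, 0, 0, 2, 0, 0, 0, 0, 0, 0, 0, 2]) (a := 42)
    (r := [(0, [])])
    (List.forall_mem_cons.mpr ⟨m7_0,
    nofun⟩)
    (by decide +kernel))
  (kact.cert G25K.rep (l := nat_lit 15) (by norm_num) (bi_Dc _).compl hW7 (sch := [0, 1, 0, 0, 0, 2, 0, 0, 0, 0, 2, 0, 0, 0, 1, 0, 0, 0, 2, 0, 0]) (a := 19488)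
    (r := [(3, [2]), (1, [3]), (14, [4, 6]), (32, [4, 6, 3]), (37, [3, 4, 6]), (19, [3, 4, 6, 2]), (21, [2, 4, 6, 3]), (829, [5, 0, 4, 6]), (133, [4, 1, 4, 6]), (652, [2, 2, 4, 6]), (323, [4, 3, 4, 6]), (322, [5, 3, 4, 6]), (697, [5, 6, 4, 6]), (3447, [5, 1, 4, 6, 2]), (39, [2, 4, 6, 3, 3]), (2345, [5, 0, 4, 6, 3]), (295, [5, 1, 4, 6, 3]), (485, [4, 3, 4, 6, 3]), (6681, [4, 2, 0, 4, 6]), (6672, [4, 3, 0, 4, 6]), (6687, [2, 5, 0, 4, 6]), (5577, [4, 6, 0, 4, 6]), (1170, [6, 5, 1, 4, 6]), (16886, [2, 5, 0, 4, 6, 2]), (12531, [5, 2, 1, 4, 6, 2]), (1769, [4, 1, 2, 4, 6, 3]), (9099, [5, 1, 3, 3, 4, 6]), (19046, [6, 4, 6, 0, 4, 6, 2]), (15230, [4, 2, 4, 2, 0, 4, 6])])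
    (List.forall_mem_cons.mpr ⟨Set.disjoint_left.mp d71 m7_1,
    List.forall_mem_cons.mpr ⟨Set.disjoint_left.mp d21 m7_2,
    List.forall_mem_cons.mpr ⟨Set.disjoint_left.mp d71 m7_8,
    List.forall_mem_cons.mpr ⟨Set.disjoint_left.mp d31 m7_14,
    List.forall_mem_cons.mpr ⟨Set.disjoint_left.mp d31 m7_19,
    List.forall_mem_cons.mpr ⟨Set.disjoint_left.mp d71 m7_33,
    List.forall_mem_cons.mpr ⟨Set.disjoint_left.mp d71 m7_46,
    List.forall_mem_cons.mpr ⟨Set.disjoint_left.mp d71 m7_59,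
    List.forall_mem_cons.mpr ⟨Set.disjoint_left.mp d71 m7_64,
    List.forall_mem_cons.mpr ⟨Set.disjoint_left.mp d71 m7_70,
    List.forall_mem_cons.mpr ⟨Set.disjoint_left.mp d31 m7_78,
    List.forall_mem_cons.mpr ⟨Set.disjoint_left.mp d71 m7_79,
    List.forall_mem_cons.mpr ⟨Set.disjoint_left.mp d71 m7_87,
    List.forall_mem_cons.mpr ⟨Set.disjoint_left.mp d71 m7_131,
    List.forall_mem_cons.mpr ⟨Set.disjoint_left.mp d71 m7_178,
    List.forall_mem_cons.mpr ⟨Set.disjoint_left.mp d31 m7_191,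
    List.forall_mem_cons.mpr ⟨Set.disjoint_left.mp d71 m7_197,
    List.forall_mem_cons.mpr ⟨Set.disjoint_left.mp d71 m7_210,
    List.forall_mem_cons.mpr ⟨Set.disjoint_left.mp d71 m7_244,
    List.forall_mem_cons.mpr ⟨Set.disjoint_left.mp d31 m7_251,
    List.forall_mem_cons.mpr ⟨Set.disjoint_left.mp d31 m7_264,
    List.forall_mem_cons.mpr ⟨Set.disjoint_left.mp d71 m7_269,
    List.forall_mem_cons.mpr ⟨Set.disjoint_left.mp d71 m7_296,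
    List.forall_mem_cons.mpr ⟨Set.disjoint_left.mp d71 m7_565,
    List.forall_mem_cons.mpr ⟨Set.disjoint_left.mp d31 m7_577,
    List.forall_mem_cons.mpr ⟨Set.disjoint_left.mp d21 m7_895,
    List.forall_mem_cons.mpr ⟨Set.disjoint_left.mp d71 m7_1557,
    List.forall_mem_cons.mpr ⟨Set.disjoint_left.mp d21 m7_2392,
    List.forall_mem_cons.mpr ⟨Set.disjoint_left.mp d31 m7_4229,
    nofun⟩⟩⟩⟩⟩⟩⟩⟩⟩⟩⟩⟩⟩⟩⟩⟩⟩⟩⟩⟩⟩⟩⟩⟩⟩⟩⟩⟩⟩)
    (by decide +kernel)) (by norm_num)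

theorem d02 : Disjoint (Dc io w0) (Dc io w2) := dOf m01 m21 (by norm_num)

theorem d03 : Disjoint (Dc io w0) (Dc io w3) := dOf m01 m31 (by norm_num)

theorem d07 : Disjoint (Dc io w0) (Dc io w7) := dOf m01 m71 (by norm_num)

theorem d23 : Disjoint (Dc io w2) (Dc io w3) := dOf m21 m31 (by norm_num)

theorem d27 : Disjoint (Dc io w2) (Dc io w7) := dOf m21 m71 (by norm_num)

theorem d37 : Disjoint (Dc io w3) (Dc io w7) := dOf m31 m71 (by norm_num)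

theorem m10 : mc io z w1 (Dc io w0) = 1 * 300000 := rowOf
  (kact.cert G25K.rep (l := nat_lit 15) (by norm_num) (bi_Dc _) hW1 (sch := []) (a := 1)
    (r := [(0, [])])
    (List.forall_mem_cons.mpr ⟨m1_0,
    nofun⟩)
    (by decide +kernel))
  (kact.cert G25K.rep (l := nat_lit 15) (by norm_num) (bi_Dc _).compl hW1 (sch := [5, 6, 5, 2, 5, 6, 5, 5, 3, 5, 6, 5, 2, 5, 5, 6, 5, 7, 5, 6, 5, 2, 5, 5, 6]) (a := 19529)
    (r := [(3, [2]), (4, [6]), (11, [6, 2]), (79, [6, 4, 6]), (4522, [6, 4, 3, 0, 4, 6])])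
    (List.forall_mem_cons.mpr ⟨Set.disjoint_left.mp d01.symm m1_1,
    List.forall_mem_cons.mpr ⟨Set.disjoint_left.mp d02.symm m1_3,
    List.forall_mem_cons.mpr ⟨Set.disjoint_left.mp d07.symm m1_5,
    List.forall_mem_cons.mpr ⟨Set.disjoint_left.mp d03.symm m1_21,
    List.forall_mem_cons.mpr ⟨Set.disjoint_left.mp d01.symm m1_1107,
    nofun⟩⟩⟩⟩⟩)
    (by decide +kernel)) (by norm_num)

theorem m12 : mc io z w1 (Dc io w2) = 3125 * 300000 := rowOf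
  (kact.cert G25K.rep (l := nat_lit 15) (by norm_num) (bi_Dc _) hW1 (sch := [2, 5, 3, 5, 6, 5, 2, 5, 3, 5, 6, 5, 2, 5, 5, 6, 5, 5, 5, 5]) (a := 3125)
    (r := [(4, [6])])
    (List.forall_mem_cons.mpr ⟨m1_3,
    nofun⟩)
    (by decide +kernel))
  (kact.cert G25K.rep (l := nat_lit 15) (by norm_num) (bi_Dc _).compl hW1 (sch := [5, 6, 5, 2, 5, 6, 5, 5, 3, 5, 6, 5, 2, 5, 5, 6, 5, 7, 5, 6, 5, 2, 5, 5, 6]) (a := 16405)
    (r := [(0, []), (3, [2]), (11, [6, 2]), (79, [6, 4, 6]), (4522, [6, 4, 3, 0, 4, 6])])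
    (List.forall_mem_cons.mpr ⟨Set.disjoint_left.mp d02 m1_0,
    List.forall_mem_cons.mpr ⟨Set.disjoint_left.mp d21.symm m1_1,
    List.forall_mem_cons.mpr ⟨Set.disjoint_left.mp d27.symm m1_5,
    List.forall_mem_cons.mpr ⟨Set.disjoint_left.mp d23.symm m1_21,
    List.forall_mem_cons.mpr ⟨Set.disjoint_left.mp d21.symm m1_1107,
    nofun⟩⟩⟩⟩⟩)
    (by decide +kernel)) (by norm_num)

theorem m13 : mc io z w1 (Dc io w3) = 3750 * 300000 := rowOf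
  (kact.cert G25K.rep (l := nat_lit 15) (by norm_num) (bi_Dc _) hW1 (sch := [5, 6, 5, 2, 5, 3, 5, 6, 5, 2, 5, 6, 5, 5, 3, 5, 5, 6, 5, 5]) (a := 3750)
    (r := [(79, [6, 4, 6])])
    (List.forall_mem_cons.mpr ⟨m1_21,
    nofun⟩)
    (by decide +kernel))
  (kact.cert G25K.rep (l := nat_lit 15) (by norm_num) (bi_Dc _).compl hW1 (sch := [5, 6, 3, 5, 6, 5, 7, 5, 6, 5, 2, 5, 3, 5, 6, 5, 5, 2, 5, 5, 5, 5, 5, 6]) (a := 15780)
    (r := [(0, []), (3, [2]), (4, [6]), (11, [6, 2]), (4522, [6, 4, 3, 0, 4, 6])])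
    (List.forall_mem_cons.mpr ⟨Set.disjoint_left.mp d03 m1_0,
    List.forall_mem_cons.mpr ⟨Set.disjoint_left.mp d31.symm m1_1,
    List.forall_mem_cons.mpr ⟨Set.disjoint_left.mp d23 m1_3,
    List.forall_mem_cons.mpr ⟨Set.disjoint_left.mp d37.symm m1_5,
    List.forall_mem_cons.mpr ⟨Set.disjoint_left.mp d31.symm m1_1107,
    nofun⟩⟩⟩⟩⟩)
    (by decide +kernel)) (by norm_num)

theorem m17 : mc io z w1 (Dc io w7) = 12500 * 300000 := rowOf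
  (kact.cert G25K.rep (l := nat_lit 15) (by norm_num) (bi_Dc _) hW1 (sch := [5, 2, 5, 6, 5, 3, 5, 6, 5, 7, 5, 2, 5, 6, 5, 3, 5, 5, 6, 5, 5, 5, 5, 5]) (a := 12500)
    (r := [(11, [6, 2])])
    (List.forall_mem_cons.mpr ⟨m1_5,
    nofun⟩)
    (by decide +kernel))
  (kact.cert G25K.rep (l := nat_lit 15) (by norm_num) (bi_Dc _).compl hW1 (sch := [5, 6, 5, 2, 5, 6, 5, 5, 3, 5, 6, 5, 2, 5, 5, 6, 5, 3, 5, 5, 6, 5, 5, 5, 5, 7]) (a := 7030)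
    (r := [(0, []), (3, [2]), (4, [6]), (79, [6, 4, 6]), (4522, [6, 4, 3, 0, 4, 6])])
    (List.forall_mem_cons.mpr ⟨Set.disjoint_left.mp d07 m1_0,
    List.forall_mem_cons.mpr ⟨Set.disjoint_left.mp d71.symm m1_1,
    List.forall_mem_cons.mpr ⟨Set.disjoint_left.mp d27 m1_3,
    List.forall_mem_cons.mpr ⟨Set.disjoint_left.mp d37 m1_21,
    List.forall_mem_cons.mpr ⟨Set.disjoint_left.mp d71.symm m1_1107,
    nofun⟩⟩⟩⟩⟩)
    (by decide +kernel)) (by norm_num)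



end Cfsg.Agent.Comp.Ly
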