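import Cfsg.Agent.Comp.Ly.Walk

set_option autoImplicit false
set_option maxRecDepth 100000

namespace Cfsg.Agent.Comp.Ly
open Cfsg.Agent.Comp

open _root_.Cfsg.Agent.Comp.G25 (El Seg o TL one val sv sv_o val_append mkD mkD_s mkD_TL divB eqS eqS_spec)

noncomputable def c0 : El := mkD [nat_lit 4501668921858, nat_lit 13297225056641, nat_lit 4501933146372, nat_lit 13229579371010, nat_lit 8899176481024, nat_lit 17696079003906, nat_lit 4501671019012] [(TB, [11, 11])] [] (by decide +kernel)

theorem c0s : c0.g * val [(TB, [11, 11])] = val [] := mkD_s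

noncomputable def c1 : El := mkD [nat_lit 1, nat_lit 128, nat_lit 16384, nat_lit 2097152, nat_lit 268435456, nat_lit 34359738368, nat_lit 4398046511104] [] [(TL, [])] (by decide +kernel)

theorem c1s : c1.g * val [] = val [(TL, [])] := mkD_s

theorem f0 : E w1 c1 w0 c0 :=
  unmove e10 TB st1 [] [11, 11] c0s (by decide +kernel)

noncomputable def c2 : El := mkD [nat_lit 17695533695106, nat_lit 13194946969728, nat_lit 17695271567746, nat_lit 13297495589378, nat_lit 8865085194756, nat_lit 35167142402, nat_lit 8796898394244] [] [(TL, [2])] (by decide +kernel)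

theorem c2s : c2.g * val [] = val [(TL, [2])] := mkD_s

noncomputable def c3 : El := mkD [nat_lit 8899977576704, nat_lit 13331853213699, nat_lit 13229577224322, nat_lit 8934070976770, nat_lit 8934607880577, nat_lit 4535762354178, nat_lit 17661446603264] [(TB, [0, 2, 7, 0])] [o r2_2] (by decide +kernel)

theorem c3s : c3.g * val [(TB, [0, 2, 7, 0])] = val [o r2_2] := mkD_s

theorem f1 : E w1 c2 w1 c3 :=
  unmove (rel3 rz2 (hstep (z0 (hstep (zstep (hstep (start w1 [o c2, (TA, [0, 2, 7, 0])]) r2_0) f0 TB st1 [] [2, 10, 12, 0, 15, 3] (by decide +kernel)) r2_1)) r2_2)) TB st1 [] [0, 2, 7, 0] c3s (by decide +kernel)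

noncomputable def c4 : El := mkD [nat_lit 811647364, nat_lit 541098370, nat_lit 8864818823428, nat_lit 4432676847875, nat_lit 8865617854978, nat_lit 13332383826049, nat_lit 4398046576896] [] [(TL, [6, 4, 3, 0, 4, 6])] (by decide +kernel)

theorem c4s : c4.g * val [] = val [(TL, [6, 4, 3, 0, 4, 6])] := mkD_s

noncomputable def c5 : El := mkD [nat_lit 13263135867264, nat_lit 13228503499010, nat_lit 13194680598659, nat_lit 4467038650369, nat_lit 4535493870082, nat_lit 17661985587713, nat_lit 4536559206786] [(TB, [10, 12, 14, 5, 10, 12, 3, 10])] [o r3_2] (by decide +kernel)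

theorem c5s : c5.g * val [(TB, [10, 12, 14, 5, 10, 12, 3, 10])] = val [o r3_2] := mkD_s

theorem f2 : E w1 c4 w1 c5 :=
  unmove (rel3 rz3 (hstep (z0 (hstep (zstep (hstep (start w1 [o c4, (TA, [10, 12, 14, 5, 10, 12, 3, 10])]) r3_0) f0 TB st1 [] [2, 10, 8, 14, 12, 10, 4] (by decide +kernel)) r3_1)) r3_2)) TB st1 [] [10, 12, 14, 5, 10, 12, 3, 10] c5s (by decide +kernel)

noncomputable def c6 : El := mkD [nat_lit 4501666824323, nat_lit 13297493541122, nat_lit 4536297111684, nat_lit 4433217864196, nat_lit 8831264407683, nat_lit 4536030757120, nat_lit 137975890180] [] [(TL, [6])] (by decide +kernel)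

theorem c6s : c6.g * val [] = val [(TL, [6])] := mkD_s

noncomputable def w2 : Cfsg.Spor.Ly := w1 * V [o c6] * z

theorem f3 : E w1 c6 w2 c1d :=
  edef w1 c6

noncomputable def c7 : El := mkD [nat_lit 4467311247876, nat_lit 8900246028546, nat_lit 4467573457410, nat_lit 69799526785, nat_lit 17592729255938, nat_lit 17729629208835, nat_lit 17730700836868] [(TB, [11, 11])] [o c6] (by decide +kernel)

theorem c7s : c7.g * val [(TB, [11, 11])] = val [o c6] := mkD_s

theorem f4 : E w2 c1 w1 c7 :=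
  unmove (einv f3) [] St.nil [] [11, 11] c7s (by decide +kernel)

noncomputable def c8 : El := mkD [nat_lit 137980084354, nat_lit 17592993513601, nat_lit 4536561320324, nat_lit 8797175185665, nat_lit 69258478080, nat_lit 4433486315650, nat_lit 13298294636547] [o c1d, (TB, [10])] [o c1d] (by decide +kernel)

theorem c8s : c8.g * val [o c1d, (TB, [10])] = val [o c1d] := mkD_s

theorem f5 : D w2 w2 c8 :=
  coin (zstep (start w1 [o c6]) f3 TB st1 [10] [10] (by decide +kernel)) f3 c8s

noncomputable def c9 : El := mkD [nat_lit 13229306675587, nat_lit 137975857284, nat_lit 17729633386882, nat_lit 17730166128769, nat_lit 4433215816064, nat_lit 811647235, nat_lit 1082196482] [o c1d, (TB, [12])] [o c1d] (by decide +kernel)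

theorem c9s : c9.g * val [o c1d, (TB, [12])] = val [o c1d] := mkD_s

theorem f6 : D w2 w2 c9 :=
  coin (zstep (start w1 [o c6]) f3 TB st1 [12] [12] (by decide +kernel)) f3 c9s

noncomputable def c10 : El := mkD [nat_lit 8934607814784, nat_lit 4535485514114, nat_lit 103349797378, nat_lit 17627623784705, nat_lit 13229042450946, nat_lit 17592725061632, nat_lit 17730438725632] [o c1d, (TB, [14])] [o c1d] (by decide +kernel)

theorem c10s : c10.g * val [o c1d, (TB, [14])] = val [o c1d] := mkD_s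

theorem f7 : D w2 w2 c10 :=
  coin (zstep (start w1 [o c6]) f3 TB st1 [14] [14] (by decide +kernel)) f3 c10s

noncomputable def w3 : Cfsg.Spor.Ly := w2 * V [o c6] * z

theorem f9 : E w2 c6 w3 c1d :=
  edef w2 c6

noncomputable def c13 : El := mkD [nat_lit 4467311247876, nat_lit 8900246028546, nat_lit 4467573457410, nat_lit 69799526785, nat_lit 17592729255938, nat_lit 17729629208835, nat_lit 17730700836868] [(TB, [11, 11])] [o c6] (by decide +kernel)

theorem c13s : c13.g * val [(TB, [11, 11])] = val [o c6] := mkD_s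

theorem f10 : E w3 c1 w2 c13 :=
  unmove (einv f9) [] St.nil [] [11, 11] c13s (by decide +kernel)

noncomputable def c14 : El := mkD [nat_lit 34636562947, nat_lit 4398314995842, nat_lit 8865892565124, nat_lit 4467579732099, nat_lit 17626822640003, nat_lit 17627084767360, nat_lit 8934609912195] [o c1d, (TB, [11])] [o c1d] (by decide +kernel)

theorem c14s : c14.g * val [o c1d, (TB, [11])] = val [o c1d] := mkD_s

theorem f11 : D w3 w3 c14 :=
  coin (zstep (start w2 [o c6]) f9 [c8] (St.cons f5 St.nil) [0] [11] (by decide +kernel)) f9 c14s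

noncomputable def c15 : El := mkD [nat_lit 13195219582976, nat_lit 17729897693184, nat_lit 13297227186436, nat_lit 13194680615042, nat_lit 103085572356, nat_lit 8830995955969, nat_lit 13229040337154] [o c1d, (TB, [13])] [o c1d] (by decide +kernel)

theorem c15s : c15.g * val [o c1d, (TB, [13])] = val [o c1d] := mkD_s

theorem f12 : D w3 w3 c15 :=
  coin (zstep (start w2 [o c6]) f9 [c9] (St.cons f6 St.nil) [0] [13] (by decide +kernel)) f9 c15s

noncomputable def c16 : El := mkD [nat_lit 8933538316420, nat_lit 4536028692481, nat_lit 17592460804483, nat_lit 13194949099778, nat_lit 69531091202, nat_lit 17695535808512, nat_lit 103620313088] [o c1d, (TB, [15])] [o c1d] (by decide +kernel)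

theorem c16s : c16.g * val [o c1d, (TB, [15])] = val [o c1d] := mkD_s

theorem f13 : D w3 w3 c16 :=
  coin (zstep (start w2 [o c6]) f9 [c10] (St.cons f7 St.nil) [0] [15] (by decide +kernel)) f9 c16s

noncomputable def w4 : Cfsg.Spor.Ly := w3 * V [o c6] * z

theorem f14 : E w3 c6 w4 c1d :=
  edef w3 c6

noncomputable def c17 : El := mkD [nat_lit 4467311247876, nat_lit 8900246028546, nat_lit 4467573457410, nat_lit 69799526785, nat_lit 17592729255938, nat_lit 17729629208835, nat_lit 17730700836868] [(TB, [11, 11])] [o c6] (by decide +kernel)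

theorem c17s : c17.g * val [(TB, [11, 11])] = val [o c6] := mkD_s

theorem f15 : E w4 c1 w3 c17 :=
  unmove (einv f14) [] St.nil [] [11, 11] c17s (by decide +kernel)

noncomputable def c18 : El := mkD [nat_lit 137980084354, nat_lit 17592993513601, nat_lit 4536561320324, nat_lit 8797175185665, nat_lit 69258478080, nat_lit 4433486315650, nat_lit 13298294636547] [o c1d, (TB, [10])] [o c1d] (by decide +kernel)

theorem c18s : c18.g * val [o c1d, (TB, [10])] = val [o c1d] := mkD_s

theorem f16 : D w4 w4 c18 :=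
  coin (zstep (start w3 [o c6]) f14 [c14] (St.cons f11 St.nil) [0] [10] (by decide +kernel)) f14 c18s

noncomputable def w5 : Cfsg.Spor.Ly := w4 * V [o c6] * z

noncomputable def w6 : Cfsg.Spor.Ly := w5 * V [o c6] * z

noncomputable def c29 : El := mkD [nat_lit 4398583382400, nat_lit 68721574145, nat_lit 8796361457792, nat_lit 68719477121, nat_lit 49156, nat_lit 8865894629761, nat_lit 137443213824] [] [(TL, [6, 4, 6])] (by decide +kernel)

theorem c29s : c29.g * val [] = val [(TL, [6, 4, 6])] := mkD_s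

noncomputable def c30 : El := mkD [nat_lit 8899985965569, nat_lit 8797166796929, nat_lit 8933538283652, nat_lit 103616086274, nat_lit 4501134131332, nat_lit 13229310886145, nat_lit 8899442819457] [(TB, [5, 12, 15, 0])] [o c1d, (TB, [14]), o r7_3] (by decide +kernel)

theorem c30s : c30.g * val [(TB, [5, 12, 15, 0])] = val [o c1d, (TB, [14]), o r7_3] := mkD_s

theorem f29 : E w1 c29 w3 c30 :=
  unmove (rel4 rz7 (hstep (zstep (hstep (zstep (hstep (zstep (hstep (start w1 [o c29, (TA, [5, 12, 15, 0])]) r7_0) f2 TB st1 [3, 13, 0] [1, 6, 9, 12, 14, 1] (by decide +kernel)) r7_1) f3 TB st1 [15, 11, 7, 0] [14] (by decide +kernel)) r7_2) f9 [] St.nil [] [14] (by decide +kernel)) r7_3)) TB st1 [] [5, 12, 15, 0] c30s (by decide +kernel)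

noncomputable def c31 : El := mkD [nat_lit 8899449110532, nat_lit 103890829700, nat_lit 8934345687169, nat_lit 13229312999812, nat_lit 8864818823170, nat_lit 807436675, nat_lit 4466774409217] [(TB, [5, 5, 9, 10, 14])] [o c29] (by decide +kernel)

theorem c31s : c31.g * val [(TB, [5, 5, 9, 10, 14])] = val [o c29] := mkD_s

noncomputable def c32 : El := mkD [nat_lit 8900248076418, nat_lit 4433217912834, nat_lit 4501939454209, nat_lit 4432949411972, nat_lit 4536299176320, nat_lit 68992155904, nat_lit 17695269454210] [] [(TL, [5, 6, 2, 1, 3, 4, 6])] (by decide +kernel)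

theorem c32s : c32.g * val [] = val [(TL, [5, 6, 2, 1, 3, 4, 6])] := mkD_s

theorem f30 : E w3 c32 w1 c31 :=
  unmove (einv f29) [] St.nil [] [5, 5, 9, 10, 14] c31s (by decide +kernel)

noncomputable def c33 : El := mkD [nat_lit 137711583745, nat_lit 103624540676, nat_lit 17592991416578, nat_lit 4502199484416, nat_lit 4466772312323, nat_lit 4536563417347, nat_lit 4467307053185] [o c30, (TB, [12, 10, 14])] [o c30] (by decide +kernel)

theorem c33s : c33.g * val [o c30, (TB, [12, 10, 14])] = val [o c30] := mkD_s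

theorem f31 : D w3 w3 c33 :=
  coin (zstep (start w1 [o c29]) f29 TB st1 [11, 15, 13] [12, 10, 14] (by decide +kernel)) f29 c33s

noncomputable def c34 : El := mkD [nat_lit 103620329986, nat_lit 8864814629120, nat_lit 13194949099524, nat_lit 17627353235460, nat_lit 4535762338176, nat_lit 8830993859074, nat_lit 8865890451714] [] [(TL, [6, 2])] (by decide +kernel)

theorem c34s : c34.g * val [] = val [(TL, [6, 2])] := mkD_s

noncomputable def c35 : El := mkD [nat_lit 13297493524740, nat_lit 8830723326468, nat_lit 13229312983296, nat_lit 13332387987588, nat_lit 813728132, nat_lit 13263135883651, nat_lit 17661710876676] [(TB, [1, 10, 7, 5, 10, 10, 10])] [o c13, (TB, [1, 14, 2, 13, 0, 15]), o r0_2] (by decide +kernel)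

theorem c35s : c35.g * val [(TB, [1, 10, 7, 5, 10, 10, 10])] = val [o c13, (TB, [1, 14, 2, 13, 0, 15]), o r0_2] := mkD_s

theorem f32 : E w2 c34 w2 c35 :=
  unmove (rel3 rz0 (hstep (zstep (hstep (zstep (hstep (start w2 [o c34, (TA, [1, 10, 7, 5, 10, 10, 10])]) r0_0) f9 [] St.nil [] [1, 10, 12, 2, 14, 5] (by decide +kernel)) r0_1) f10 [c14, c33] (St.cons f11 (St.cons f31 St.nil)) [0, 1] [1, 14, 2, 13, 0, 15] (by decide +kernel)) r0_2)) [] St.nil [] [1, 10, 7, 5, 10, 10, 10] c35s (by decide +kernel)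

noncomputable def c36 : El := mkD [nat_lit 8796902556036, nat_lit 17661176087043, nat_lit 17592194498820, nat_lit 68990059010, nat_lit 17661450797314, nat_lit 68987961856, nat_lit 8796097282306] [] [(TL, [6, 4, 1, 2, 4, 6, 3])] (by decide +kernel)

theorem c36s : c36.g * val [] = val [(TL, [6, 4, 1, 2, 4, 6, 3])] := mkD_s

noncomputable def c37 : El := mkD [nat_lit 13195221680516, nat_lit 268435715, nat_lit 4501402599427, nat_lit 8796629959043, nat_lit 17592190288257, nat_lit 8933804622208, nat_lit 17627355283970] [(TB, [10, 12, 14, 1, 12, 10, 1, 12])] [o c30, (TB, [3, 1, 12, 0, 10]), o r5_2] (by decide +kernel)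

theorem c37s : c37.g * val [(TB, [10, 12, 14, 1, 12, 10, 1, 12])] = val [o c30, (TB, [3, 1, 12, 0, 10]), o r5_2] := mkD_s

theorem f33 : E w2 c36 w3 c37 :=
  unmove (rel3 rz5 (hstep (zstep (hstep (zstep (hstep (start w2 [o c36, (TA, [10, 12, 14, 1, 12, 10, 1, 12])]) r5_0) f4 [] St.nil [] [0, 14, 12, 4, 12, 14] (by decide +kernel)) r5_1) f29 TB st1 [12, 3, 5] [3, 1, 12, 0, 10] (by decide +kernel)) r5_2)) [] St.nil [] [10, 12, 14, 1, 12, 10, 1, 12] c37s (by decide +kernel)

noncomputable def c38 : El := mkD [nat_lit 13194147938818, nat_lit 4433217913345, nat_lit 8934607847938, nat_lit 103624491524, nat_lit 4501664710786, nat_lit 17627625849090, nat_lit 17592458674433] [(TB, [10, 10, 14, 2])] [o c36] (by decide +kernel)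

theorem c38s : c38.g * val [(TB, [10, 10, 14, 2])] = val [o c36] := mkD_s

noncomputable def c39 : El := mkD [nat_lit 13332385907072, nat_lit 17695265292803, nat_lit 539017475, nat_lit 536903684, nat_lit 807436289, nat_lit 13332385907203, nat_lit 17695265292548] [] [(TL, [4, 6])] (by decide +kernel)

theorem c39s : c39.g * val [] = val [(TL, [4, 6])] := mkD_s

theorem f34 : E w3 c39 w2 c38 :=
  unmove (einv f33) [c16, c33, c14] (St.cons f13 (St.cons f31 (St.cons f11 St.nil))) [0, 1, 2] [10, 10, 14, 2] c38s (by decide +kernel)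

noncomputable def c40 : El := mkD [nat_lit 34628173826, nat_lit 4467302924420, nat_lit 13263395930628, nat_lit 13194141647104, nat_lit 13331582697732, nat_lit 13194949050626, nat_lit 13263127495041] [] [(TL, [5, 6, 0, 4, 3, 0, 4, 6])] (by decide +kernel)

theorem c40s : c40.g * val [] = val [(TL, [5, 6, 0, 4, 3, 0, 4, 6])] := mkD_s

noncomputable def c41 : El := mkD [nat_lit 13332385956352, nat_lit 137980068224, nat_lit 8830459101700, nat_lit 17592993480833, nat_lit 4467579732225, nat_lit 4536022385152, nat_lit 17626552140036] [(TB, [0, 0, 5, 10, 15, 6])] [o c30, (TB, [13, 1, 3, 11, 5]), o r4_2] (by decide +kernel)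

theorem c41s : c41.g * val [(TB, [0, 0, 5, 10, 15, 6])] = val [o c30, (TB, [13, 1, 3, 11, 5]), o r4_2] := mkD_s

theorem f35 : E w2 c40 w3 c41 :=
  unmove (rel3 rz4 (hstep (zstep (hstep (zstep (hstep (start w2 [o c40, (TA, [0, 0, 5, 10, 15, 6])]) r4_0) f4 [] St.nil [] [11, 13, 11, 7, 15, 2, 13] (by decide +kernel)) r4_1) f29 TB st1 [4, 14, 1] [13, 1, 3, 11, 5] (by decide +kernel)) r4_2)) [] St.nil [] [0, 0, 5, 10, 15, 6] c41s (by decide +kernel)

noncomputable def c42 : El := mkD [nat_lit 13332121665792, nat_lit 1077953028, nat_lit 17730698805507, nat_lit 8831534923908, nat_lit 13332660682883, nat_lit 8865089339392, nat_lit 13263129559172] [o c1d, (TB, [0, 2, 11, 15, 7, 12, 11])] [o c40] (by decide +kernel)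

theorem c42s : c42.g * val [o c1d, (TB, [0, 2, 11, 15, 7, 12, 11])] = val [o c40] := mkD_s

theorem f36 : D w4 w2 c42 :=
  coin (zstep (start w3 [o c41, o cU]) f14 [c14, c33] (St.cons f11 (St.cons f31 St.nil)) [0, 1] [0, 2, 11, 15, 7, 12, 11] (by decide +kernel)) (einv f35) c42s

noncomputable def c43 : El := mkD [nat_lit 8865355678084, nat_lit 4467571294468, nat_lit 34368127488, nat_lit 17593268175232, nat_lit 13228776145282, nat_lit 13263670624644, nat_lit 4536565497860] [o c42] [o c42, o c18] (by decide +kernel)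

theorem c43s : c43.g * val [o c42] = val [o c42, o c18] := mkD_s

theorem f37 : D w2 w2 c43 :=
  coin f36 (strans f16 f36) c43s

noncomputable def c44 : El := mkD [nat_lit 4432947380225, nat_lit 8796101443971, nat_lit 17661444538756, nat_lit 4535491805700, nat_lit 13263129608196, nat_lit 8934337331458, nat_lit 4399126544772] [o c1d, (TB, [12, 10, 15])] [o c17] (by decide +kernel)

theorem c44s : c44.g * val [o c1d, (TB, [12, 10, 15])] = val [o c17] := mkD_s

theorem f38 : D w3 w3 c44 :=
  coin (zstep (start w2 [o c42, o c1]) f9 [c10, c8, c43] (St.cons f7 (St.cons f5 (St.cons f37 St.nil))) [0, 1, 2] [12, 10, 15] (by decide +kernel)) (src f36 f15) c44s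

noncomputable def c47 : El := mkD [nat_lit 13263666462851, nat_lit 13229308838147, nat_lit 4502199468546, nat_lit 8796898377984, nat_lit 13194416390403, nat_lit 137447374977, nat_lit 4467848167428] [] [(TL, [4, 0, 4, 6])] (by decide +kernel)

theorem c47s : c47.g * val [] = val [(TL, [4, 0, 4, 6])] := mkD_s

noncomputable def c48 : El := mkD [nat_lit 103620346241, nat_lit 65665, nat_lit 13194947002755, nat_lit 69533188611, nat_lit 33152, nat_lit 17592192368897, nat_lit 69524800002] [(TB, [0, 0, 13, 2, 2, 15])] [o c37, (TB, [5, 10, 14, 6, 13, 15]), o r3_2] (by decide +kernel)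

theorem c48s : c48.g * val [(TB, [0, 0, 13, 2, 2, 15])] = val [o c37, (TB, [5, 10, 14, 6, 13, 15]), o r3_2] := mkD_s

theorem f41 : E w3 c47 w3 c48 :=
  unmove (rel3 rz3 (hstep (zstep (hstep (zstep (hstep (start w3 [o c47, (TA, [0, 0, 13, 2, 2, 15])]) r3_0) f34 [c33, c44, c15, c14] (St.cons f31 (St.cons f38 (St.cons f12 (St.cons f11 St.nil)))) [0, 1, 0, 2, 3] [2, 4, 10, 5, 15] (by decide +kernel)) r3_1) f33 [c43, c8, c9, c10] (St.cons f37 (St.cons f5 (St.cons f6 (St.cons f7 St.nil)))) [0, 1, 2, 0, 1, 0, 3, 0] [5, 10, 14, 6, 13, 15] (by decide +kernel)) r3_2)) [] St.nil [] [0, 0, 13, 2, 2, 15] c48s (by decide +kernel)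

noncomputable def c49 : El := mkD [nat_lit 8899983835651, nat_lit 4432406266114, nat_lit 8796898328832, nat_lit 8830725390849, nat_lit 35441934339, nat_lit 4467575489026, nat_lit 4467848184193] [(TB, [6, 12, 10, 15, 6, 12, 10])] [o c47] (by decide +kernel)

theorem c49s : c49.g * val [(TB, [6, 12, 10, 15, 6, 12, 10])] = val [o c47] := mkD_s

noncomputable def c50 : El := mkD [nat_lit 811647104, nat_lit 4432412590084, nat_lit 4432683139074, nat_lit 4433215799424, nat_lit 8796636250627, nat_lit 13229042450436, nat_lit 17696076874242] [] [(TL, [4, 1, 4, 6, 0, 2])] (by decide +kernel)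

theorem c50s : c50.g * val [] = val [(TL, [4, 1, 4, 6, 0, 2])] := mkD_s

theorem f42 : E w3 c50 w3 c49 :=
  unmove (einv f41) [c16, c15, c44, c33, c14] (St.cons f13 (St.cons f12 (St.cons f38 (St.cons f31 (St.cons f11 St.nil))))) [0, 1, 2, 3, 1, 4] [6, 12, 10, 15, 6, 12, 10] c49s (by decide +kernel)

noncomputable def c51 : El := mkD [nat_lit 8830725439617, nat_lit 13194949083392, nat_lit 8933806752257, nat_lit 17730705080835, nat_lit 103083458816, nat_lit 4433488429442, nat_lit 4467038650625] [] [(TL, [5, 0, 4, 6])] (by decide +kernel)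

theorem c51s : c51.g * val [] = val [(TL, [5, 0, 4, 6])] := mkD_s

noncomputable def c52 : El := mkD [nat_lit 8865357807745, nat_lit 8900246012291, nat_lit 17661719232514, nat_lit 4501402567169, nat_lit 17626818445315, nat_lit 17730430337283, nat_lit 13298298814466] [(TB, [2, 13, 4, 11, 13, 0])] [o c30, (TB, [5, 10, 0, 13, 15, 13]), o r14_3] (by decide +kernel)

theorem c52s : c52.g * val [(TB, [2, 13, 4, 11, 13, 0])] = val [o c30, (TB, [5, 10, 0, 13, 15, 13]), o r14_3] := mkD_s

theorem f43 : E w3 c51 w3 c52 :=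
  unmove (rel4 rz14 (hstep (zstep (hstep (zstep (hstep (zstep (hstep (start w3 [o c51, (TA, [2, 13, 4, 11, 13, 0])]) r14_0) f42 [c14, c33, c44, c16] (St.cons f11 (St.cons f31 (St.cons f38 (St.cons f13 St.nil)))) [0, 1, 2, 0, 3, 0] [5, 13, 1, 11, 15, 13] (by decide +kernel)) r14_1) f30 [c16] (St.cons f13 St.nil) [0] [0, 10, 5, 5] (by decide +kernel)) r14_2) f29 TB st1 [6, 5, 15] [5, 10, 0, 13, 15, 13] (by decide +kernel)) r14_3)) [] St.nil [] [2, 13, 4, 11, 13, 0] c52s (by decide +kernel)

noncomputable def c53 : El := mkD [nat_lit 13263672754561, nat_lit 68725784961, nat_lit 276840577, nat_lit 8421764, nat_lit 8899711254787, nat_lit 386, nat_lit 276840579] [(TB, [0, 8, 10, 12, 3, 14, 4])] [o c51] (by decide +kernel)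

theorem c53s : c53.g * val [(TB, [0, 8, 10, 12, 3, 14, 4])] = val [o c51] := mkD_s

noncomputable def c54 : El := mkD [nat_lit 13331584778752, nat_lit 4398587592834, nat_lit 13229308772480, nat_lit 17627355316740, nat_lit 4535493902850, nat_lit 137975890179, nat_lit 8796099363202] [] [(TL, [5, 0, 4, 3, 4, 6])] (by decide +kernel)

theorem c54s : c54.g * val [] = val [(TL, [5, 0, 4, 3, 4, 6])] := mkD_s

theorem f44 : E w3 c54 w3 c53 :=
  unmove (einv f43) [c15, c33, c16] (St.cons f12 (St.cons f31 (St.cons f13 St.nil))) [0, 1, 2] [0, 8, 10, 12, 3, 14, 4] c53s (by decide +kernel)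

noncomputable def c55 : El := mkD [nat_lit 17696072663169, nat_lit 8933532041601, nat_lit 13194416406657, nat_lit 13194676453633, nat_lit 35167174659, nat_lit 17696341098880, nat_lit 4535758143489] [o c53, (TB, [0, 14, 6, 14, 5, 10, 10])] [o c53] (by decide +kernel)

theorem c55s : c55.g * val [o c53, (TB, [0, 14, 6, 14, 5, 10, 10])] = val [o c53] := mkD_s

theorem f45 : D w3 w3 c55 :=
  coin (zstep (start w3 [o c54]) f44 [c14, c33, c44, c15] (St.cons f11 (St.cons f31 (St.cons f38 (St.cons f12 St.nil)))) [0, 1, 2, 3] [0, 14, 6, 14, 5, 10, 10] (by decide +kernel)) f44 c55s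

noncomputable def c56 : El := mkD [nat_lit 4535758110977, nat_lit 13298024087555, nat_lit 13263400108545, nat_lit 138514825476, nat_lit 8934345703939, nat_lit 8934345719809, nat_lit 69258493956] [] [(TL, [4, 2, 4, 6])] (by decide +kernel)

theorem c56s : c56.g * val [] = val [(TL, [4, 2, 4, 6])] := mkD_s

noncomputable def c57 : El := mkD [nat_lit 17661983506435, nat_lit 8797173104769, nat_lit 137715777664, nat_lit 137713746436, nat_lit 8865089323011, nat_lit 8830991777923, nat_lit 4502203679108] [(TB, [10, 15, 7, 15])] [o c38, (TB, [12, 2, 15, 2, 12, 10]), o r5_2] (by decide +kernel)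

theorem c57s : c57.g * val [(TB, [10, 15, 7, 15])] = val [o c38, (TB, [12, 2, 15, 2, 12, 10]), o r5_2] := mkD_s

theorem f46 : E w3 c56 w2 c57 :=
  unmove (rel3 rz5 (hstep (zstep (hstep (zstep (hstep (start w3 [o c56, (TA, [10, 15, 7, 15])]) r5_0) f41 [c33, c16, c55, c44] (St.cons f31 (St.cons f13 (St.cons f45 (St.cons f38 St.nil)))) [0, 1, 2, 3] [2, 0, 6, 10, 15, 13] (by decide +kernel)) r5_1) f34 [c55, c14, c16, c33, c15] (St.cons f45 (St.cons f11 (St.cons f13 (St.cons f31 (St.cons f12 St.nil))))) [0, 1, 2, 3, 4, 1] [12, 2, 15, 2, 12, 10] (by decide +kernel)) r5_2)) [] St.nil [] [10, 15, 7, 15] c57s (by decide +kernel)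

noncomputable def c58 : El := mkD [nat_lit 4398860206337, nat_lit 13263398011011, nat_lit 536871168, nat_lit 545259650, nat_lit 17592192385025, nat_lit 4398860206081, nat_lit 13263934882052] [(TB, [11, 3, 13, 2, 11, 15])] [o c56] (by decide +kernel)

theorem c58s : c58.g * val [(TB, [11, 3, 13, 2, 11, 15])] = val [o c56] := mkD_s

noncomputable def c59 : El := mkD [nat_lit 13297759862785, nat_lit 17695273664641, nat_lit 35433497089, nat_lit 4467577585792, nat_lit 17730430337412, nat_lit 17695804244354, nat_lit 69262688387] [] [(TL, [4, 1, 4, 6])] (by decide +kernel)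

theorem c59s : c59.g * val [] = val [(TL, [4, 1, 4, 6])] := mkD_s

theorem f47 : E w2 c59 w3 c58 :=
  unmove (einv f46) [c10, c9, c43, c8] (St.cons f7 (St.cons f6 (St.cons f37 (St.cons f5 St.nil)))) [0, 1, 2, 1, 2, 3, 1, 3] [11, 3, 13, 2, 11, 15] c58s (by decide +kernel)

noncomputable def c60 : El := mkD [nat_lit 4398321303808, nat_lit 8796363604228, nat_lit 13331846922628, nat_lit 8830461149441, nat_lit 8830727487873, nat_lit 17592999772416, nat_lit 13194682761602] [] [(TL, [4, 1, 4, 6, 2])] (by decide +kernel)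

theorem c60s : c60.g * val [] = val [(TL, [4, 1, 4, 6, 2])] := mkD_s

noncomputable def c61 : El := mkD [nat_lit 35439771777, nat_lit 8865351483776, nat_lit 13194408001665, nat_lit 8865353613313, nat_lit 68725801346, nat_lit 8830727536643, nat_lit 8899709124866] [(TB, [3, 12, 5, 10, 14, 0])] [o c38, (TB, [0, 5, 10, 1, 10, 10]), o r3_2] (by decide +kernel)

theorem c61s : c61.g * val [(TB, [3, 12, 5, 10, 14, 0])] = val [o c38, (TB, [0, 5, 10, 1, 10, 10]), o r3_2] := mkD_s

theorem f48 : E w2 c60 w2 c61 :=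
  unmove (rel3 rz3 (hstep (zstep (hstep (zstep (hstep (start w2 [o c60, (TA, [3, 12, 5, 10, 14, 0])]) r3_0) f33 [c43, c10, c9] (St.cons f37 (St.cons f7 (St.cons f6 St.nil))) [0, 1, 0, 2, 0] [3, 10, 12, 14, 13, 11, 5] (by decide +kernel)) r3_1) f34 [c55, c16, c44, c14] (St.cons f45 (St.cons f13 (St.cons f38 (St.cons f11 St.nil)))) [0, 1, 2, 3] [0, 5, 10, 1, 10, 10] (by decide +kernel)) r3_2)) [] St.nil [] [3, 12, 5, 10, 14, 0] c61s (by decide +kernel)

noncomputable def c62 : El := mkD [nat_lit 4432676848129, nat_lit 4432406299140, nat_lit 13262861123972, nat_lit 4535758111235, nat_lit 17695806390401, nat_lit 4432410493056, nat_lit 13332652244994] [] [(TL, [2, 5, 0, 4, 6])] (by decide +kernel)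

theorem c62s : c62.g * val [] = val [(TL, [2, 5, 0, 4, 6])] := mkD_s

noncomputable def c63 : El := mkD [nat_lit 8830461149570, nat_lit 13297759814017, nat_lit 17627619574148, nat_lit 17696347439491, nat_lit 4432676814976, nat_lit 8899176464513, nat_lit 13332117504257] [(TB, [10, 12, 0, 14, 12, 10, 4, 12])] [o c58, (TB, [0, 12, 7, 12, 14, 12, 6]), o r13_3] (by decide +kernel)

theorem c63s : c63.g * val [(TB, [10, 12, 0, 14, 12, 10, 4, 12])] = val [o c58, (TB, [0, 12, 7, 12, 14, 12, 6]), o r13_3] := mkD_s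

theorem f49 : E w2 c62 w3 c63 :=
  unmove (rel4 rz13 (hstep (zstep (hstep (zstep (hstep (zstep (hstep (start w2 [o c62, (TA, [10, 12, 0, 14, 12, 10, 4, 12])]) r13_0) f47 [c43, c9, c10, c8] (St.cons f37 (St.cons f6 (St.cons f7 (St.cons f5 St.nil)))) [0, 1, 2, 3, 0] [11, 8, 13, 0, 11] (by decide +kernel)) r13_1) f46 [c33, c55, c15] (St.cons f31 (St.cons f45 (St.cons f12 St.nil))) [0, 1, 2, 1, 0] [9, 11, 15, 1, 15] (by decide +kernel)) r13_2) f47 [c8, c10, c9, c43] (St.cons f5 (St.cons f7 (St.cons f6 (St.cons f37 St.nil)))) [0, 1, 2, 3, 0] [0, 12, 7, 12, 14, 12, 6] (by decide +kernel)) r13_3)) [] St.nil [] [10, 12, 0, 14, 12, 10, 4, 12] c63s (by decide +kernel)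

noncomputable def c64 : El := mkD [nat_lit 34628173825, nat_lit 4432674734593, nat_lit 13194139533696, nat_lit 4467304956034, nat_lit 8933534106113, nat_lit 8864812499202, nat_lit 13297489297795] [(TB, [0, 14, 6, 6])] [o c62] (by decide +kernel)

theorem c64s : c64.g * val [(TB, [0, 14, 6, 6])] = val [o c62] := mkD_s

noncomputable def c65 : El := mkD [nat_lit 13228503482496, nat_lit 8900248142210, nat_lit 137984246016, nat_lit 4535753965954, nat_lit 8934337315328, nat_lit 35167142402, nat_lit 13228501368834] [] [(TL, [5, 0, 4, 6, 3])] (by decide +kernel)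

theorem c65s : c65.g * val [] = val [(TL, [5, 0, 4, 6, 3])] := mkD_s

theorem f50 : E w3 c65 w2 c64 :=
  unmove (einv f49) [c33, c15, c55, c14] (St.cons f31 (St.cons f12 (St.cons f45 (St.cons f11 St.nil)))) [0, 1, 2, 3] [0, 14, 6, 6] c64s (by decide +kernel)

noncomputable def c66 : El := mkD [nat_lit 17592729240064, nat_lit 13263127445636, nat_lit 35437724035, nat_lit 8934070993283, nat_lit 35165044738, nat_lit 17626814234752, nat_lit 8796093071744] [] [(TL, [2, 5, 0, 4, 6, 3])] (by decide +kernel)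

theorem c66s : c66.g * val [] = val [(TL, [2, 5, 0, 4, 6, 3])] := mkD_s

noncomputable def c67 : El := mkD [nat_lit 35439837443, nat_lit 17627086897540, nat_lit 69526913027, nat_lit 17592991383810, nat_lit 8796904636931, nat_lit 17695265325316, nat_lit 8899979706497] [(TB, [3, 10, 13, 4, 10, 14, 12])] [o c64, (TB, [0, 0, 14, 11, 2]), o r1_2] (by decide +kernel)

theorem c67s : c67.g * val [(TB, [3, 10, 13, 4, 10, 14, 12])] = val [o c64, (TB, [0, 0, 14, 11, 2]), o r1_2] := mkD_s

theorem f51 : E w2 c66 w2 c67 :=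
  unmove (rel3 rz1 (hstep (zstep (hstep (zstep (hstep (start w2 [o c66, (TA, [3, 10, 13, 4, 10, 14, 12])]) r1_0) f49 [] St.nil [] [0, 7, 5, 10, 0, 13] (by decide +kernel)) r1_1) f50 [c14, c55, c44, c33] (St.cons f11 (St.cons f45 (St.cons f38 (St.cons f31 St.nil)))) [0, 1, 2, 3] [0, 0, 14, 11, 2] (by decide +kernel)) r1_2)) [] St.nil [] [3, 10, 13, 4, 10, 14, 12] c67s (by decide +kernel)

noncomputable def c68 : El := mkD [nat_lit 68725834115, nat_lit 16388, nat_lit 13229310885890, nat_lit 34359754881, nat_lit 137441116290, nat_lit 13263395946881, nat_lit 17593261900163] [] [(TL, [5, 1, 4, 6, 2])] (by decide +kernel)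

theorem c68s : c68.g * val [] = val [(TL, [5, 1, 4, 6, 2])] := mkD_s

noncomputable def c69 : El := mkD [nat_lit 8934073041408, nat_lit 17627086897540, nat_lit 104152989825, nat_lit 17592192401410, nat_lit 4433482137986, nat_lit 13298298847620, nat_lit 13194416407041] [(TB, [6, 6, 10, 15, 3, 12])] [o c37, (TB, [11, 4, 13, 11, 4, 11]), o r4_2] (by decide +kernel)

theorem c69s : c69.g * val [(TB, [6, 6, 10, 15, 3, 12])] = val [o c37, (TB, [11, 4, 13, 11, 4, 11]), o r4_2] := mkD_s

theorem f52 : E w3 c68 w3 c69 :=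
  unmove (rel3 rz4 (hstep (zstep (hstep (zstep (hstep (start w3 [o c68, (TA, [6, 6, 10, 15, 3, 12])]) r4_0) f46 [c14, c16, c44] (St.cons f11 (St.cons f13 (St.cons f38 St.nil))) [0, 1, 2] [3, 11, 2, 13, 7, 15] (by decide +kernel)) r4_1) f33 [c9, c43, c10, c8] (St.cons f6 (St.cons f37 (St.cons f7 (St.cons f5 St.nil)))) [0, 1, 2, 0, 1, 3, 1, 3] [11, 4, 13, 11, 4, 11] (by decide +kernel)) r4_2)) [] St.nil [] [6, 6, 10, 15, 3, 12] c69s (by decide +kernel)

noncomputable def c70 : El := mkD [nat_lit 4466766004739, nat_lit 13194684809475, nat_lit 13263939109124, nat_lit 8830995939714, nat_lit 137715827073, nat_lit 69793267841, nat_lit 4501396259200] [] [(TL, [5, 0, 2, 0, 4, 6])] (by decide +kernel)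

theorem c70s : c70.g * val [] = val [(TL, [5, 0, 2, 0, 4, 6])] := mkD_s

noncomputable def c71 : El := mkD [nat_lit 13228767739905, nat_lit 4536559271940, nat_lit 17696343196164, nat_lit 13332388053251, nat_lit 68990075393, nat_lit 8831532843392, nat_lit 4467579731970] [(TB, [3, 3, 11, 7, 12, 15])] [o c52, (TB, [2, 10, 10, 12, 7, 12, 1]), o r5_2] (by decide +kernel)

theorem c71s : c71.g * val [(TB, [3, 3, 11, 7, 12, 15])] = val [o c52, (TB, [2, 10, 10, 12, 7, 12, 1]), o r5_2] := mkD_s

theorem f53 : E w3 c70 w3 c71 :=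
  unmove (rel3 rz5 (hstep (zstep (hstep (zstep (hstep (start w3 [o c70, (TA, [3, 3, 11, 7, 12, 15])]) r5_0) f41 [c44, c33, c16, c14] (St.cons f38 (St.cons f31 (St.cons f13 (St.cons f11 St.nil)))) [0, 0, 1, 2, 3, 3] [10, 1, 12, 3, 10, 14, 13] (by decide +kernel)) r5_1) f43 [c16, c55, c14] (St.cons f13 (St.cons f45 (St.cons f11 St.nil))) [0, 1, 2, 2] [2, 10, 10, 12, 7, 12, 1] (by decide +kernel)) r5_2)) [] St.nil [] [3, 3, 11, 7, 12, 15] c71s (by decide +kernel)

noncomputable def c72 : El := mkD [nat_lit 13263133753345, nat_lit 4467846054144, nat_lit 4433480007810, nat_lit 13297487249666, nat_lit 8796902572416, nat_lit 13262863204482, nat_lit 17592731320321] [] [(TL, [5, 6, 1, 3, 4, 6])] (by decide +kernel)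

theorem c72s : c72.g * val [] = val [(TL, [5, 6, 1, 3, 4, 6])] := mkD_s

noncomputable def c73 : El := mkD [nat_lit 8865619968260, nat_lit 13298024088066, nat_lit 8934614122627, nat_lit 13332383842304, nat_lit 13194680664194, nat_lit 17695804276736, nat_lit 4536297095425] [(TB, [6, 12, 14, 1, 3, 12])] [o c52, (TB, [0, 10, 13, 2, 4, 10]), o r14_3] (by decide +kernel)

theorem c73s : c73.g * val [(TB, [6, 12, 14, 1, 3, 12])] = val [o c52, (TB, [0, 10, 13, 2, 4, 10]), o r14_3] := mkD_s

theorem f54 : E w3 c72 w3 c73 :=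
  unmove (rel4 rz14 (hstep (zstep (hstep (zstep (hstep (zstep (hstep (start w3 [o c72, (TA, [6, 12, 14, 1, 3, 12])]) r14_0) f50 [c55, c14, c16, c15] (St.cons f45 (St.cons f11 (St.cons f13 (St.cons f12 St.nil)))) [0, 1, 2, 3] [10, 10, 5, 7, 14, 12] (by decide +kernel)) r14_1) f49 [c8, c43, c10, c9] (St.cons f5 (St.cons f37 (St.cons f7 (St.cons f6 St.nil)))) [0, 0, 1, 2, 3] [1, 14, 2, 12, 0, 10, 12] (by decide +kernel)) r14_2) f43 [c33, c14, c15] (St.cons f31 (St.cons f11 (St.cons f12 St.nil))) [0, 0, 1, 0, 2] [0, 10, 13, 2, 4, 10] (by decide +kernel)) r14_3)) [] St.nil [] [6, 12, 14, 1, 3, 12] c73s (by decide +kernel)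

noncomputable def w7 : Cfsg.Spor.Ly := w1 * V [o c34] * z

theorem f55 : E w1 c34 w7 c1d :=
  edef w1 c34

noncomputable def c74 : El := mkD [nat_lit 4398317109378, nat_lit 13229040353664, nat_lit 8934075203972, nat_lit 17592997659008, nat_lit 4502199468032, nat_lit 4466770231425, nat_lit 69526929920] [(TB, [11, 11])] [o c34] (by decide +kernel)

theorem c74s : c74.g * val [(TB, [11, 11])] = val [o c34] := mkD_s

theorem f56 : E w7 c1 w1 c74 :=
  unmove (einv f55) [] St.nil [] [11, 11] c74s (by decide +kernel)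

noncomputable def c75 : El := mkD [nat_lit 137980084354, nat_lit 17592993513601, nat_lit 4536561320324, nat_lit 8797175185665, nat_lit 69258478080, nat_lit 4433486315650, nat_lit 13298294636547] [o c1d, (TB, [10])] [o c1d] (by decide +kernel)

theorem c75s : c75.g * val [o c1d, (TB, [10])] = val [o c1d] := mkD_s

theorem f57 : D w7 w7 c75 :=
  coin (zstep (start w1 [o c34]) f55 TB st1 [12] [10] (by decide +kernel)) f55 c75s

noncomputable def c76 : El := mkD [nat_lit 13229306675587, nat_lit 137975857284, nat_lit 17729633386882, nat_lit 17730166128769, nat_lit 4433215816064, nat_lit 811647235, nat_lit 1082196482] [o c1d, (TB, [12])] [o c1d] (by decide +kernel)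

theorem c76s : c76.g * val [o c1d, (TB, [12])] = val [o c1d] := mkD_s

theorem f58 : D w7 w7 c76 :=
  coin (zstep (start w1 [o c34]) f55 TB st1 [14] [12] (by decide +kernel)) f55 c76s

noncomputable def c77 : El := mkD [nat_lit 69264736516, nat_lit 13195213308292, nat_lit 13297757732867, nat_lit 4433486348672, nat_lit 13332121682177, nat_lit 138248519939, nat_lit 8830723293313] [(TB, [8, 12, 7, 7, 12])] [o c1d, (TB, [1, 6, 0, 6]), o r0_2] (by decide +kernel)

theorem c77s : c77.g * val [(TB, [8, 12, 7, 7, 12])] = val [o c1d, (TB, [1, 6, 0, 6]), o r0_2] := mkD_s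

theorem f59 : E w2 c2 w7 c77 :=
  unmove (rel3 rz0 (hstep (zstep (hstep (zstep (hstep (start w2 [o c2, (TA, [8, 12, 7, 7, 12])]) r0_0) f4 [] St.nil [] [8, 10, 12, 7, 15] (by decide +kernel)) r0_1) f55 TB st1 [] [1, 6, 0, 6] (by decide +kernel)) r0_2)) [] St.nil [] [8, 12, 7, 7, 12] c77s (by decide +kernel)

noncomputable def c78 : El := mkD [nat_lit 8934605783552, nat_lit 8899442786436, nat_lit 17592458707203, nat_lit 4398054949248, nat_lit 8864812499073, nat_lit 13229036159362, nat_lit 4467577635201] [(TB, [10, 13, 15])] [o c2] (by decide +kernel)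

theorem c78s : c78.g * val [(TB, [10, 13, 15])] = val [o c2] := mkD_s

noncomputable def c79 : El := mkD [nat_lit 17661981392898, nat_lit 8796638331008, nat_lit 4466770198787, nat_lit 69801623808, nat_lit 103351910404, nat_lit 17627086864900, nat_lit 8796638347652] [] [(TL, [3])] (by decide +kernel)

theorem c79s : c79.g * val [] = val [(TL, [3])] := mkD_s

theorem f60 : E w7 c79 w2 c78 :=
  unmove (einv f59) [] St.nil [] [10, 13, 15] c78s (by decide +kernel)

noncomputable def c80 : El := mkD [nat_lit 13229573046401, nat_lit 103353958914, nat_lit 8796638298242, nat_lit 13263127445888, nat_lit 4501127823744, nat_lit 13194141696002, nat_lit 13228769837444] [] [(TL, [2, 4, 6])] (by decide +kernel)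

theorem c80s : c80.g * val [] = val [(TL, [2, 4, 6])] := mkD_s

noncomputable def c81 : El := mkD [nat_lit 4501400518787, nat_lit 13262863237123, nat_lit 17593268224129, nat_lit 138516906497, nat_lit 4536026546432, nat_lit 4433480007681, nat_lit 17661180281092] [(TB, [10, 12, 15, 13, 2, 0, 11])] [o c1d, (TB, [15, 0, 13]), o r8_3] (by decide +kernel)

theorem c81s : c81.g * val [(TB, [10, 12, 15, 13, 2, 0, 11])] = val [o c1d, (TB, [15, 0, 13]), o r8_3] := mkD_s

theorem f61 : E w2 c80 w7 c81 :=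
  unmove (rel4 rz8 (hstep (zstep (hstep (zstep (hstep (zstep (hstep (start w2 [o c80, (TA, [10, 12, 15, 13, 2, 0, 11])]) r8_0) f48 [c43, c8] (St.cons f37 (St.cons f5 St.nil)) [0, 0, 0, 1] [4, 13, 15, 1, 7] (by decide +kernel)) r8_1) f4 [c43, c9] (St.cons f37 (St.cons f6 St.nil)) [0, 1, 0] [12, 4, 10, 13, 7, 14] (by decide +kernel)) r8_2) f55 TB st1 [14, 7, 13, 10, 6] [15, 0, 13] (by decide +kernel)) r8_3)) [] St.nil [] [10, 12, 15, 13, 2, 0, 11] c81s (by decide +kernel)

noncomputable def c82 : El := mkD [nat_lit 13228499304708, nat_lit 17660905537667, nat_lit 13332385956100, nat_lit 17696070631552, nat_lit 13194678501634, nat_lit 4398589706624, nat_lit 13229308822019] [(TB, [0, 10, 9, 12, 10, 14, 6, 12])] [o c80] (by decide +kernel)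

theorem c82s : c82.g * val [(TB, [0, 10, 9, 12, 10, 14, 6, 12])] = val [o c80] := mkD_s

noncomputable def c83 : El := mkD [nat_lit 13229308838402, nat_lit 13332654326276, nat_lit 8830456971649, nat_lit 8933538333056, nat_lit 4433217880196, nat_lit 17730700853504, nat_lit 8934070993411] [] [(TL, [4, 1, 2, 4, 6, 3])] (by decide +kernel)

theorem c83s : c83.g * val [] = val [(TL, [4, 1, 2, 4, 6, 3])] := mkD_s

theorem f62 : E w7 c83 w2 c82 :=
  unmove (einv f61) [c75] (St.cons f57 St.nil) [0, 0, 0] [0, 10, 9, 12, 10, 14, 6, 12] c82s (by decide +kernel)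

noncomputable def c84 : El := mkD [nat_lit 8865894662148, nat_lit 104159281538, nat_lit 17626547929346, nat_lit 104157151747, nat_lit 13297489346946, nat_lit 17661450797571, nat_lit 17661715022082] [(TB, [13, 6, 1, 11])] [o c81, (TB, [0, 10, 5, 7, 12, 14, 11]), o r4_2] (by decide +kernel)

theorem c84s : c84.g * val [(TB, [13, 6, 1, 11])] = val [o c81, (TB, [0, 10, 5, 7, 12, 14, 11]), o r4_2] := mkD_s

theorem f63 : E w2 c47 w7 c84 :=
  unmove (rel3 rz4 (hstep (zstep (hstep (zstep (hstep (start w2 [o c47, (TA, [13, 6, 1, 11])]) r4_0) f48 [c9, c43, c10] (St.cons f6 (St.cons f37 (St.cons f7 St.nil))) [0, 1, 0, 1, 0, 2] [5, 12, 10, 15, 13, 2, 11] (by decide +kernel)) r4_1) f61 [c43, c8, c9, c10] (St.cons f37 (St.cons f5 (St.cons f6 (St.cons f7 St.nil)))) [0, 1, 0, 2, 0, 1, 3, 1] [0, 10, 5, 7, 12, 14, 11] (by decide +kernel)) r4_2)) [] St.nil [] [13, 6, 1, 11] c84s (by decide +kernel)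

noncomputable def c85 : El := mkD [nat_lit 8796632056324, nat_lit 4536030724097, nat_lit 4432947380612, nat_lit 68723736706, nat_lit 17696341131396, nat_lit 8899709141249, nat_lit 17661710893572] [(TB, [3, 12, 2, 6, 15])] [o c47] (by decide +kernel)

theorem c85s : c85.g * val [(TB, [3, 12, 2, 6, 15])] = val [o c47] := mkD_s

noncomputable def c86 : El := mkD [nat_lit 17661448732800, nat_lit 8933536203264, nat_lit 8934075138435, nat_lit 4501129986308, nat_lit 17627089010819, nat_lit 17627353235459, nat_lit 4501931032964] [] [(TL, [6, 4, 6, 0, 4, 6, 2])] (by decide +kernel)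

theorem c86s : c86.g * val [] = val [(TL, [6, 4, 6, 0, 4, 6, 2])] := mkD_s

theorem f64 : E w7 c86 w2 c85 :=
  unmove (einv f63) [c75] (St.cons f57 St.nil) [0, 0] [3, 12, 2, 6, 15] c85s (by decide +kernel)

noncomputable def c87 : El := mkD [nat_lit 807436292, nat_lit 4466766021123, nat_lit 13229306724356, nat_lit 13229308805379, nat_lit 8865619919234, nat_lit 137441116290, nat_lit 17593261932929] [] [(TL, [4, 6, 2])] (by decide +kernel)

theorem c87s : c87.g * val [] = val [(TL, [4, 6, 2])] := mkD_s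

noncomputable def c88 : El := mkD [nat_lit 1082196484, nat_lit 17730438693379, nat_lit 8865619968260, nat_lit 8865622016000, nat_lit 13263127494914, nat_lit 69264785408, nat_lit 34632417795] [(TB, [6, 12, 4, 4])] [o c81, (TB, [13, 4, 2, 11, 2, 15]), o r2_2] (by decide +kernel)

theorem c88s : c88.g * val [(TB, [6, 12, 4, 4])] = val [o c81, (TB, [13, 4, 2, 11, 2, 15]), o r2_2] := mkD_s

theorem f65 : E w3 c87 w7 c88 :=
  unmove (rel3 rz2 (hstep (zstep (hstep (zstep (hstep (start w3 [o c87, (TA, [6, 12, 4, 4])]) r2_0) f34 [] St.nil [] [3, 10, 15, 13, 4, 15] (by decide +kernel)) r2_1) f61 [c9, c8, c10, c43] (St.cons f6 (St.cons f5 (St.cons f7 (St.cons f37 St.nil)))) [0, 1, 2, 3] [13, 4, 2, 11, 2, 15] (by decide +kernel)) r2_2)) [] St.nil [] [6, 12, 4, 4] c88s (by decide +kernel)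

noncomputable def c89 : El := mkD [nat_lit 4433484186115, nat_lit 13228503465987, nat_lit 17626814267908, nat_lit 103353958529, nat_lit 8934073090307, nat_lit 34905014402, nat_lit 8899977544193] [(TB, [13, 1, 15, 4])] [o c87] (by decide +kernel)

theorem c89s : c89.g * val [(TB, [13, 1, 15, 4])] = val [o c87] := mkD_s

noncomputable def c90 : El := mkD [nat_lit 536870913, nat_lit 13194139550080, nat_lit 17592186093952, nat_lit 538968065, nat_lit 4432406282369, nat_lit 13297218764929, nat_lit 811646980] [] [(TL, [4, 3, 0, 4, 6])] (by decide +kernel)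

theorem c90s : c90.g * val [] = val [(TL, [4, 3, 0, 4, 6])] := mkD_s

theorem f66 : E w7 c90 w3 c89 :=
  unmove (einv f65) [c75] (St.cons f57 St.nil) [0] [13, 1, 15, 4] c89s (by decide +kernel)

noncomputable def c91 : El := mkD [nat_lit 103616086018, nat_lit 8865617805699, nat_lit 4467571359747, nat_lit 8933802541185, nat_lit 4467311312899, nat_lit 34636611841, nat_lit 17730438742148] [(TB, [0, 15, 4, 1, 11])] [o c88, (TB, [11, 2, 14, 5, 12, 15]), o r11_3] (by decide +kernel)

theorem c91s : c91.g * val [(TB, [0, 15, 4, 1, 11])] = val [o c88, (TB, [11, 2, 14, 5, 12, 15]), o r11_3] := mkD_s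

theorem f67 : E w3 c59 w7 c91 :=
  unmove (rel4 rz11 (hstep (zstep (hstep (zstep (hstep (zstep (hstep (start w3 [o c59, (TA, [0, 15, 4, 1, 11])]) r11_0) f41 [c15, c33, c44, c55, c16] (St.cons f12 (St.cons f31 (St.cons f38 (St.cons f45 (St.cons f13 St.nil))))) [0, 1, 2, 2, 3, 4] [14, 4, 13, 4, 10, 12, 14] (by decide +kernel)) r11_1) f53 [c15, c55, c14] (St.cons f12 (St.cons f45 (St.cons f11 St.nil))) [0, 1, 0, 2] [0, 13, 6, 0, 14] (by decide +kernel)) r11_2) f65 [c55, c33, c16, c44] (St.cons f45 (St.cons f31 (St.cons f13 (St.cons f38 St.nil)))) [0, 1, 2, 3, 3] [11, 2, 14, 5, 12, 15] (by decide +kernel)) r11_3)) [] St.nil [] [0, 15, 4, 1, 11] c91s (by decide +kernel)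

noncomputable def c92 : El := mkD [nat_lit 8831258132993, nat_lit 103624507522, nat_lit 17695535808772, nat_lit 13263939076609, nat_lit 4466770248194, nat_lit 13195213308292, nat_lit 4399120318596] [(TB, [5, 0, 7, 10, 13, 15])] [o c59] (by decide +kernel)

theorem c92s : c92.g * val [(TB, [5, 0, 7, 10, 13, 15])] = val [o c59] := mkD_s

noncomputable def c93 : El := mkD [nat_lit 17730438726019, nat_lit 8831534956932, nat_lit 8934341541889, nat_lit 4535760207874, nat_lit 13263402189312, nat_lit 4535485513728, nat_lit 276840450] [] [(TL, [4, 2, 4, 2, 0, 4, 6])] (by decide +kernel)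

theorem c93s : c93.g * val [] = val [(TL, [4, 2, 4, 2, 0, 4, 6])] := mkD_s

theorem f68 : E w7 c93 w3 c92 :=
  unmove (einv f67) [c76, c75] (St.cons f58 (St.cons f57 St.nil)) [0, 1, 1, 1] [5, 0, 7, 10, 13, 15] c92s (by decide +kernel)

noncomputable def c94 : El := mkD [nat_lit 13263127511555, nat_lit 8796636233988, nat_lit 13297493491713, nat_lit 17592727126532, nat_lit 4536290820610, nat_lit 8830723358852, nat_lit 137445278209] [] [(TL, [5, 1, 4, 6])] (by decide +kernel)

theorem c94s : c94.g * val [] = val [(TL, [5, 1, 4, 6])] := mkD_s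

noncomputable def c95 : El := mkD [nat_lit 8934614106500, nat_lit 8796101460099, nat_lit 68721623296, nat_lit 137441083393, nat_lit 8831534907776, nat_lit 17696076923008, nat_lit 17695269486593] [(TB, [7, 12, 10, 6, 14])] [o c88, (TB, [11, 2, 8, 12, 10, 14, 12]), o r14_3] (by decide +kernel)

theorem c95s : c95.g * val [(TB, [7, 12, 10, 6, 14])] = val [o c88, (TB, [11, 2, 8, 12, 10, 14, 12]), o r14_3] := mkD_s

theorem f69 : E w3 c94 w7 c95 :=
  unmove (rel4 rz14 (hstep (zstep (hstep (zstep (hstep (zstep (hstep (start w3 [o c94, (TA, [7, 12, 10, 6, 14])]) r14_0) f41 [c33, c44, c55, c14] (St.cons f31 (St.cons f38 (St.cons f45 (St.cons f11 St.nil)))) [0, 1, 2, 0, 1, 3] [0, 10, 1, 14, 12, 11, 5] (by decide +kernel)) r14_1) f41 [c44, c15, c14] (St.cons f38 (St.cons f12 (St.cons f11 St.nil))) [0, 1, 2] [0, 12, 4, 15, 6] (by decide +kernel)) r14_2) f65 [c55, c33, c15, c16] (St.cons f45 (St.cons f31 (St.cons f12 (St.cons f13 St.nil)))) [0, 1, 2, 3] [11, 2, 8, 12, 10, 14, 12] (by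 decide +kernel)) r14_3)) [] St.nil [] [7, 12, 10, 6, 14] c95s (by decide +kernel)

noncomputable def c96 : El := mkD [nat_lit 17730702950529, nat_lit 13263133802755, nat_lit 17627088961920, nat_lit 13298300895616, nat_lit 8899174367235, nat_lit 13229304578048, nat_lit 13194946969728] [(TB, [10, 10, 6, 14, 7])] [o c94] (by decide +kernel)

theorem c96s : c96.g * val [(TB, [10, 10, 6, 14, 7])] = val [o c94] := mkD_s

noncomputable def c97 : El := mkD [nat_lit 13194946937218, nat_lit 4432945267075, nat_lit 4501402616193, nat_lit 13298296750208, nat_lit 17592725061888, nat_lit 8934343590146, nat_lit 13263129592195] [] [(TL, [5, 2, 1, 4, 6, 2])] (by decide +kernel)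

theorem c97s : c97.g * val [] = val [(TL, [5, 2, 1, 4, 6, 2])] := mkD_s

theorem f70 : E w7 c97 w3 c96 :=
  unmove (einv f69) [c75] (St.cons f57 St.nil) [0, 0, 0] [10, 10, 6, 14, 7] c96s (by decide +kernel)

noncomputable def c98 : El := mkD [nat_lit 17730438693379, nat_lit 4432674750465, nat_lit 13331578503556, nat_lit 8796095119616, nat_lit 34628173825, nat_lit 4398585479297, nat_lit 13332652245508] [o c95, (TB, [3, 11, 11, 13, 6, 13])] [o c95] (by decide +kernel)

theorem c98s : c98.g * val [o c95, (TB, [3, 11, 11, 13, 6, 13])] = val [o c95] := mkD_s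

theorem f71 : D w7 w7 c98 :=
  coin (zstep (start w3 [o c94]) f69 [c14, c55] (St.cons f11 (St.cons f45 St.nil)) [0, 0, 1, 0, 1] [3, 11, 11, 13, 6, 13] (by decide +kernel)) f69 c98s

noncomputable def c99 : El := mkD [nat_lit 13194147955074, nat_lit 137707438336, nat_lit 34896642563, nat_lit 8388612, nat_lit 17592190288129, nat_lit 8796095136131, nat_lit 103884537987] [] [(TL, [4, 2, 4, 6, 2])] (by decide +kernel)

theorem c99s : c99.g * val [] = val [(TL, [4, 2, 4, 6, 2])] := mkD_s

noncomputable def c100 : El := mkD [nat_lit 69264801922, nat_lit 4501402599553, nat_lit 138518987267, nat_lit 4398860255745, nat_lit 8830457004548, nat_lit 4501396324868, nat_lit 17592458707203] [(TB, [0, 15, 13, 6, 15, 5])] [o c91, (TB, [0, 15, 6, 11, 5, 13, 15]), o r10_3] (by decide +kernel)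

theorem c100s : c100.g * val [(TB, [0, 15, 13, 6, 15, 5])] = val [o c91, (TB, [0, 15, 6, 11, 5, 13, 15]), o r10_3] := mkD_s

theorem f72 : E w3 c99 w7 c100 :=
  unmove (rel4 rz10 (hstep (zstep (hstep (zstep (hstep (zstep (hstep (start w3 [o c99, (TA, [0, 15, 13, 6, 15, 5])]) r10_0) f53 [c15, c33, c14] (St.cons f12 (St.cons f31 (St.cons f11 St.nil))) [0, 1, 2] [5, 10, 14, 0, 6] (by decide +kernel)) r10_1) f41 [c44, c14] (St.cons f38 (St.cons f11 St.nil)) [0, 1, 1] [0, 6, 15, 5, 15, 13] (by decide +kernel)) r10_2) f67 [c33, c14, c15] (St.cons f31 (St.cons f11 (St.cons f12 St.nil))) [0, 1, 2, 1] [0, 15, 6, 11, 5, 13, 15] (by decide +kernel)) r10_3)) [] St.nil [] [0, 15, 13, 6, 15, 5] c100s (by decide +kernel)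

noncomputable def c101 : El := mkD [nat_lit 4536292917250, nat_lit 69793267843, nat_lit 4467042844801, nat_lit 8934339412225, nat_lit 13194145890307, nat_lit 807436803, nat_lit 13228774048256] [(TB, [2, 8, 12, 3, 15])] [o c99] (by decide +kernel)

theorem c101s : c101.g * val [(TB, [2, 8, 12, 3, 15])] = val [o c99] := mkD_s

theorem f73 : E w7 c65 w3 c101 :=
  unmove (einv f72) [c75, c98] (St.cons f57 (St.cons f71 St.nil)) [0, 1, 0] [2, 8, 12, 3, 15] c101s (by decide +kernel)

noncomputable def c102 : El := mkD [nat_lit 4432947364096, nat_lit 8934075154563, nat_lit 4433488380163, nat_lit 8899446997122, nat_lit 13262859026945, nat_lit 17661442424836, nat_lit 4467841843587] [] [(TL, [4, 0, 4, 6, 3])] (by decide +kernel)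

theorem c102s : c102.g * val [] = val [(TL, [4, 0, 4, 6, 3])] := mkD_s

noncomputable def c103 : El := mkD [nat_lit 8865894695041, nat_lit 17730707194114, nat_lit 4501127856129, nat_lit 17661983457408, nat_lit 13228773998720, nat_lit 8864816742402, nat_lit 8899447013892] [(TB, [14, 13, 0, 11, 5, 15])] [o c81, (TB, [1, 8, 15, 1, 12, 15]), o r12_3] (by decide +kernel)

theorem c103s : c103.g * val [(TB, [14, 13, 0, 11, 5, 15])] = val [o c81, (TB, [1, 8, 15, 1, 12, 15]), o r12_3] := mkD_s

theorem f74 : E w3 c102 w7 c103 :=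
  unmove (rel4 rz12 (hstep (zstep (hstep (zstep (hstep (zstep (hstep (start w3 [o c102, (TA, [14, 13, 0, 11, 5, 15])]) r12_0) f72 [c55, c15, c14, c33] (St.cons f45 (St.cons f12 (St.cons f11 (St.cons f31 St.nil)))) [0, 1, 0, 2, 3] [14, 11, 2, 5, 14] (by decide +kernel)) r12_1) f64 [c98, c75] (St.cons f71 (St.cons f57 St.nil)) [0, 1, 0, 1, 1, 1, 0, 1, 1, 1, 1, 1, 1] [3, 3, 11, 9] (by decide +kernel)) r12_2) f61 [c10, c43, c8, c9] (St.cons f7 (St.cons f37 (St.cons f5 (St.cons f6 St.nil)))) [0, 1, 2, 1, 0, 1, 3, 0, 2] [1, 8, 15, 1, 12, 15] (by decide +kernel)) r12_3)) [] St.nil [] [14, 13, 0, 11, 5, 15] c103s (by decide +kernel)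

noncomputable def c104 : El := mkD [nat_lit 17626818478212, nat_lit 35437674625, nat_lit 4535489691906, nat_lit 17696339017728, nat_lit 8796361507329, nat_lit 4501662613890, nat_lit 13332121681920] [(TB, [7, 14, 13, 3, 11, 6])] [o c102] (by decide +kernel)

theorem c104s : c104.g * val [(TB, [7, 14, 13, 3, 11, 6])] = val [o c102] := mkD_s

noncomputable def c105 : El := mkD [nat_lit 17661450846467, nat_lit 8900246044928, nat_lit 17592722980867, nat_lit 13298028298754, nat_lit 4467034456192, nat_lit 13297489330564, nat_lit 8797173055490] [] [(TL, [3, 4, 6])] (by decide +kernel)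

theorem c105s : c105.g * val [] = val [(TL, [3, 4, 6])] := mkD_s

theorem f75 : E w7 c105 w3 c104 :=
  unmove (einv f74) [c76, c98, c75] (St.cons f58 (St.cons f71 (St.cons f57 St.nil))) [0, 1, 2, 2, 2, 1, 2, 1, 2] [7, 14, 13, 3, 11, 6] c104s (by decide +kernel)

noncomputable def c106 : El := mkD [nat_lit 17729629257858, nat_lit 17593261883908, nat_lit 13195219582976, nat_lit 4432951525761, nat_lit 17661719249027, nat_lit 35437740292, nat_lit 13229304627712] [] [(TL, [5, 1, 4, 6, 3])] (by decide +kernel)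

theorem c106s : c106.g * val [] = val [(TL, [5, 1, 4, 6, 3])] := mkD_s

noncomputable def c107 : El := mkD [nat_lit 17627082654209, nat_lit 8796093022464, nat_lit 17626550026241, nat_lit 17661444489730, nat_lit 4467034423426, nat_lit 103356072192, nat_lit 138248519940] [(TB, [4, 12, 14, 13, 5, 10, 13])] [o c84, (TB, [10, 12, 4, 0, 14]), o r4_2] (by decide +kernel)

theorem c107s : c107.g * val [(TB, [4, 12, 14, 13, 5, 10, 13])] = val [o c84, (TB, [10, 12, 4, 0, 14]), o r4_2] := mkD_s

theorem f76 : E w3 c106 w7 c107 :=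
  unmove (rel3 rz4 (hstep (zstep (hstep (zstep (hstep (start w3 [o c106, (TA, [4, 12, 14, 13, 5, 10, 13])]) r4_0) f46 [c44, c55, c15, c33] (St.cons f38 (St.cons f45 (St.cons f12 (St.cons f31 St.nil)))) [0, 1, 2, 3, 2] [12, 6, 13] (by decide +kernel)) r4_1) f63 [c8, c10, c9, c43] (St.cons f5 (St.cons f7 (St.cons f6 (St.cons f37 St.nil)))) [0, 1, 2, 3, 2, 3] [10, 12, 4, 0, 14] (by decide +kernel)) r4_2)) [] St.nil [] [4, 12, 14, 13, 5, 10, 13] c107s (by decide +kernel)

noncomputable def c108 : El := mkD [nat_lit 4536290820483, nat_lit 17695810568707, nat_lit 8831266488708, nat_lit 8934068879745, nat_lit 8899985997953, nat_lit 8830452760964, nat_lit 35437690884] [(TB, [0, 13, 5, 14, 4, 10, 15])] [o c106] (by decide +kernel)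

theorem c108s : c108.g * val [(TB, [0, 13, 5, 14, 4, 10, 15])] = val [o c106] := mkD_s

noncomputable def c109 : El := mkD [nat_lit 13228769804675, nat_lit 8865085129217, nat_lit 8900248092800, nat_lit 17627091107970, nat_lit 13194416423172, nat_lit 4466774425731, nat_lit 103624491267] [] [(TL, [4, 3, 4, 6])] (by decide +kernel)

theorem c109s : c109.g * val [] = val [(TL, [4, 3, 4, 6])] := mkD_s

theorem f77 : E w7 c109 w3 c108 :=
  unmove (einv f76) [c75, c98] (St.cons f57 (St.cons f71 St.nil)) [0, 1, 0, 0, 0, 0, 0, 1] [0, 13, 5, 14, 4, 10, 15] c108s (by decide +kernel)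

noncomputable def c110 : El := mkD [nat_lit 17626545815684, nat_lit 4535762354691, nat_lit 13228776096001, nat_lit 13332652228868, nat_lit 17592731336963, nat_lit 4467571359747, nat_lit 68727914752] [(TB, [1, 10, 15, 13, 2, 6])] [o c88, (TB, [2, 10, 6, 12, 11, 15, 13]), o r3_2] (by decide +kernel)

theorem c110s : c110.g * val [(TB, [1, 10, 15, 13, 2, 6])] = val [o c88, (TB, [2, 10, 6, 12, 11, 15, 13]), o r3_2] := mkD_s

theorem f78 : E w3 c90 w7 c110 :=
  unmove (rel3 rz3 (hstep (zstep (hstep (zstep (hstep (start w3 [o c90, (TA, [1, 10, 15, 13, 2, 6])]) r3_0) f54 [c55, c44] (St.cons f45 (St.cons f38 St.nil)) [0, 1, 1] [8, 11, 2, 13, 6, 11] (by decide +kernel)) r3_1) f65 [c44, c15, c33, c55, c16] (St.cons f38 (St.cons f12 (St.cons f31 (St.cons f45 (St.cons f13 St.nil))))) [0, 1, 2, 3, 4] [2, 10, 6, 12, 11, 15, 13] (by decide +kernel)) r3_2)) [] St.nil [] [1, 10, 15, 13, 2, 6] c110s (by decide +kernel)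

noncomputable def c111 : El := mkD [nat_lit 8796900426243, nat_lit 8933532025347, nat_lit 69529043456, nat_lit 17730161918336, nat_lit 4501125792001, nat_lit 103622377732, nat_lit 8830991745540] [(TB, [11, 15, 0, 12, 11])] [o c90] (by decide +kernel)

theorem c111s : c111.g * val [(TB, [11, 15, 0, 12, 11])] = val [o c90] := mkD_s

noncomputable def c112 : El := mkD [nat_lit 13297218797697, nat_lit 8933532008963, nat_lit 8933802557954, nat_lit 17730434498944, nat_lit 4501398356224, nat_lit 8934075171076, nat_lit 8831526551682] [] [(TL, [4, 6, 3])] (by decide +kernel)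

theorem c112s : c112.g * val [] = val [(TL, [4, 6, 3])] := mkD_s

theorem f79 : E w7 c112 w3 c111 :=
  unmove (einv f78) [c98, c76, c75] (St.cons f71 (St.cons f58 (St.cons f57 St.nil))) [0, 1, 2, 0, 2, 0] [11, 15, 0, 12, 11] c111s (by decide +kernel)

noncomputable def c113 : El := mkD [nat_lit 4536297111552, nat_lit 8796361474306, nat_lit 137977954562, nat_lit 4398317093122, nat_lit 805306369, nat_lit 104157151491, nat_lit 17593259819011] [] [(TL, [5, 1, 2, 0, 4, 6])] (by decide +kernel)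

theorem c113s : c113.g * val [] = val [(TL, [5, 1, 2, 0, 4, 6])] := mkD_s

noncomputable def c114 : El := mkD [nat_lit 13194678501378, nat_lit 8796638281987, nat_lit 17661173973376, nat_lit 34628223491, nat_lit 4467034440194, nat_lit 17729633436163, nat_lit 13229577241088] [(TB, [1, 8, 12, 0, 10, 12, 14])] [o c81, (TB, [0, 10, 13, 2, 14, 6]), o r10_3] (by decide +kernel)

theorem c114s : c114.g * val [(TB, [1, 8, 12, 0, 10, 12, 14])] = val [o c81, (TB, [0, 10, 13, 2, 14, 6]), o r10_3] := mkD_s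

theorem f80 : E w3 c113 w7 c114 :=
  unmove (rel4 rz10 (hstep (zstep (hstep (zstep (hstep (zstep (hstep (start w3 [o c113, (TA, [1, 8, 12, 0, 10, 12, 14])]) r10_0) f65 [c55, c33, c44, c15] (St.cons f45 (St.cons f31 (St.cons f38 (St.cons f12 St.nil)))) [0, 1, 2, 0, 3] [12, 1, 10, 15, 3] (by decide +kernel)) r10_1) f62 [c98, c75, c76] (St.cons f71 (St.cons f57 (St.cons f58 St.nil))) [0, 1, 2, 1, 1, 0, 1, 0] [0, 3, 0, 7, 15, 13, 11] (by decide +kernel)) r10_2) f61 [c43, c8, c10, c9] (St.cons f37 (St.cons f5 (St.cons f7 (St.cons f6 St.nil)))) [0, 1, 2, 0, 3, 0, 2, 0, 1] [0, 10, 13, 2, 14, 6] (by decide +kernel)) r10_3)) [] St.nil [] [1, 8, 12, 0, 10, 12, 14] c114s (by decide +kernel)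

noncomputable def c115 : El := mkD [nat_lit 13331580600579, nat_lit 103079280642, nat_lit 8865888387074, nat_lit 4535487627777, nat_lit 13228501385473, nat_lit 17695537954946, nat_lit 4535762321666] [(TB, [5, 10, 14, 3, 4])] [o c113] (by decide +kernel)

theorem c115s : c115.g * val [(TB, [5, 10, 14, 3, 4])] = val [o c113] := mkD_s

theorem f81 : E w7 c62 w3 c115 :=
  unmove (einv f80) [c76, c75] (St.cons f58 (St.cons f57 St.nil)) [0, 1, 1, 1, 1] [5, 10, 14, 3, 4] c115s (by decide +kernel)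

noncomputable def c116 : El := mkD [nat_lit 13297495572482, nat_lit 8899442803203, nat_lit 8865087259012, nat_lit 17627355332995, nat_lit 13298028282244, nat_lit 8830723358978, nat_lit 17661985570947] [(TB, [1, 13, 2, 8, 10, 13])] [o c1d, (TB, [10, 13, 4, 14, 13, 2, 11, 13]), o r0_2] (by decide +kernel)

theorem c116s : c116.g * val [(TB, [1, 13, 2, 8, 10, 13])] = val [o c1d, (TB, [10, 13, 4, 14, 13, 2, 11, 13]), o r0_2] := mkD_s

theorem f82 : E w7 c2 w7 c116 :=
  unmove (rel3 rz0 (hstep (zstep (hstep (zstep (hstep (start w7 [o c2, (TA, [1, 13, 2, 8, 10, 13])]) r0_0) f56 [] St.nil [] [10, 12, 15, 13, 7, 10, 7, 12] (by decide +kernel)) r0_1) f55 TB st1 [10] [10, 13, 4, 14, 13, 2, 11, 13] (by decide +kernel)) r0_2)) [] St.nil [] [1, 13, 2, 8, 10, 13] c116s (by decide +kernel)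

noncomputable def c117 : El := mkD [nat_lit 4536292917250, nat_lit 8934075203842, nat_lit 8899178529283, nat_lit 17661985603840, nat_lit 4501935292544, nat_lit 17661173989892, nat_lit 539017732] [(TB, [0, 4, 0, 10, 13, 11])] [o c110, (TB, [2, 14, 7, 14, 4, 14]), o r1_2] (by decide +kernel)

theorem c117s : c117.g * val [(TB, [0, 4, 0, 10, 13, 11])] = val [o c110, (TB, [2, 14, 7, 14, 4, 14]), o r1_2] := mkD_s

theorem f83 : E w7 c39 w7 c117 :=
  unmove (rel3 rz1 (hstep (zstep (hstep (zstep (hstep (start w7 [o c39, (TA, [0, 4, 0, 10, 13, 11])]) r1_0) f79 [] St.nil [] [10, 6, 13, 5, 10, 14, 13, 11] (by decide +kernel)) r1_1) f78 [c15, c33] (St.cons f12 (St.cons f31 St.nil)) [0, 1, 0] [2, 14, 7, 14, 4, 14] (by decide +kernel)) r1_2)) [] St.nil [] [0, 4, 0, 10, 13, 11] c117s (by decide +kernel)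

noncomputable def c118 : El := mkD [nat_lit 13298030395521, nat_lit 8865083048452, nat_lit 17626822639744, nat_lit 13331584795008, nat_lit 8934612041856, nat_lit 103618199810, nat_lit 4467038650755] [] [(TL, [3, 4, 6, 2])] (by decide +kernel)

theorem c118s : c118.g * val [] = val [(TL, [3, 4, 6, 2])] := mkD_s

noncomputable def c119 : El := mkD [nat_lit 8899979689985, nat_lit 8831532826627, nat_lit 8865351483776, nat_lit 13332392214914, nat_lit 13263668527360, nat_lit 17729901887744, nat_lit 17696070582785] [(TB, [0, 10, 14, 4, 11, 5])] [o c81, (TB, [1, 5, 14, 13, 5, 10, 14]), o r12_3] (by decide +kernel)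

theorem c119s : c119.g * val [(TB, [0, 10, 14, 4, 11, 5])] = val [o c81, (TB, [1, 5, 14, 13, 5, 10, 14]), o r12_3] := mkD_s

theorem f84 : E w7 c118 w7 c119 :=
  unmove (rel4 rz12 (hstep (zstep (hstep (zstep (hstep (zstep (hstep (start w7 [o c118, (TA, [0, 10, 14, 4, 11, 5])]) r12_0) f75 [c75, c98] (St.cons f57 (St.cons f71 St.nil)) [0, 0, 1, 0, 0] [13, 15, 0] (by decide +kernel)) r12_1) f46 [c16, c15, c55, c33, c44] (St.cons f13 (St.cons f12 (St.cons f45 (St.cons f31 (St.cons f38 St.nil))))) [0, 1, 2, 3, 4] [10, 14, 11, 4, 13, 0] (by decide +kernel)) r12_2) f61 [c9, c10, c43, c8] (St.cons f6 (St.cons f7 (St.cons f37 (St.cons f5 St.nil)))) [0, 1, 2, 0, 3, 1, 3, 2, 0] [1, 5, 14, 13, 5, 10, 14] (by decide +kernel)) r12_3)) [] St.nil [] [0, 10, 14, 4, 11, 5] c119s (by decide +kernel)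

noncomputable def c120 : El := mkD [nat_lit 543195265, nat_lit 4536299208833, nat_lit 4536565563522, nat_lit 17627353203072, nat_lit 4432674750723, nat_lit 8796904620034, nat_lit 138252714497] [] [(TL, [2, 4, 6, 3])] (by decide +kernel)

theorem c120s : c120.g * val [] = val [(TL, [2, 4, 6, 3])] := mkD_s

noncomputable def c121 : El := mkD [nat_lit 34896609280, nat_lit 4398046544384, nat_lit 4432943169664, nat_lit 13297489297664, nat_lit 4536559239683, nat_lit 35167158530, nat_lit 13263672738178] [(TB, [1, 14, 6, 8, 11, 13])] [o c91, (TB, [1, 12, 10, 5, 3]), o r4_2] (by decide +kernel)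

theorem c121s : c121.g * val [(TB, [1, 14, 6, 8, 11, 13])] = val [o c91, (TB, [1, 12, 10, 5, 3]), o r4_2] := mkD_s

theorem f85 : E w7 c120 w7 c121 :=
  unmove (rel3 rz4 (hstep (zstep (hstep (zstep (hstep (start w7 [o c120, (TA, [1, 14, 6, 8, 11, 13])]) r4_0) f70 [c98, c76, c75] (St.cons f71 (St.cons f58 (St.cons f57 St.nil))) [0, 1, 2, 2, 0, 2] [10, 8, 10, 7, 10, 10] (by decide +kernel)) r4_1) f67 [c14, c16, c44] (St.cons f11 (St.cons f13 (St.cons f38 St.nil))) [0, 1, 2, 0] [1, 12, 10, 5, 3] (by decide +kernel)) r4_2)) [] St.nil [] [1, 14, 6, 8, 11, 13] c121s (by decide +kernel)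

noncomputable def c122 : El := mkD [nat_lit 13331851133312, nat_lit 8796638298370, nat_lit 4467579699458, nat_lit 13194680664320, nat_lit 805306881, nat_lit 13298294636929, nat_lit 17592192369025] [(TB, [13, 7, 13, 2, 4])] [o c95, (TB, [12, 14, 12, 3, 10, 4]), o r15_3] (by decide +kernel)

theorem c122s : c122.g * val [(TB, [13, 7, 13, 2, 4])] = val [o c95, (TB, [12, 14, 12, 3, 10, 4]), o r15_3] := mkD_s

theorem f86 : E w7 c51 w7 c122 :=
  unmove (rel4 rz15 (hstep (zstep (hstep (zstep (hstep (zstep (hstep (start w7 [o c51, (TA, [13, 7, 13, 2, 4])]) r15_0) f66 [c75, c76, c98] (St.cons f57 (St.cons f58 (St.cons f71 St.nil))) [0, 1, 2, 0, 2, 0] [14, 7, 11, 13, 11, 2] (by decide +kernel)) r15_1) f41 [c16, c15, c33, c55, c14] (St.cons f13 (St.cons f12 (St.cons f31 (St.cons f45 (St.cons f11 St.nil))))) [0, 1, 2, 3, 0, 4] [0, 12, 10, 15, 4, 13, 0] (by decide +kernel)) r15_2) f69 [c33, c44, c16] (St.cons f31 (St.cons f38 (St.cons f13 St.nil))) [0, 1, 2, 0] [12, 14, 12, 3, 10, 4]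 (by decide +kernel)) r15_3)) [] St.nil [] [13, 7, 13, 2, 4] c122s (by decide +kernel)

noncomputable def c123 : El := mkD [nat_lit 8830998086145, nat_lit 4467843989632, nat_lit 13263131689089, nat_lit 17696076907012, nat_lit 807436672, nat_lit 137443181057, nat_lit 8934607847428] [(TB, [12, 3, 9])] [o c91, (TB, [2, 6, 0, 6, 11]), o r10_3] (by decide +kernel)

theorem c123s : c123.g * val [(TB, [12, 3, 9])] = val [o c91, (TB, [2, 6, 0, 6, 11]), o r10_3] := mkD_s

theorem f87 : E w7 c59 w7 c123 :=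
  unmove (rel4 rz10 (hstep (zstep (hstep (zstep (hstep (zstep (hstep (start w7 [o c59, (TA, [12, 3, 9])]) r10_0) f86 [c98, c76, c75] (St.cons f71 (St.cons f58 (St.cons f57 St.nil))) [0, 1, 2, 0, 2, 2, 0, 2, 0, 2, 2, 2] [1, 10, 5, 10, 10] (by decide +kernel)) r10_1) f66 [c76, c75] (St.cons f58 (St.cons f57 St.nil)) [0, 1, 1, 1, 1] [1, 8, 10, 13, 4, 14] (by decide +kernel)) r10_2) f67 [c16, c55, c44, c14] (St.cons f13 (St.cons f45 (St.cons f38 (St.cons f11 St.nil)))) [0, 1, 0, 2, 3, 3] [2, 6, 0, 6, 11] (by decide +kernel)) r10_3)) [] St.nil [] [12, 3, 9] c123s (by decide +kernel)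

noncomputable def c124 : El := mkD [nat_lit 17593263997312, nat_lit 1073742212, nat_lit 13229579370752, nat_lit 4398050771331, nat_lit 8797168910594, nat_lit 17695537938561, nat_lit 8865353596928] [(TB, [8, 13, 7, 14, 13, 11])] [o c59] (by decide +kernel)

theorem c124s : c124.g * val [(TB, [8, 13, 7, 14, 13, 11])] = val [o c59] := mkD_s

noncomputable def c125 : El := mkD [nat_lit 13297220894851, nat_lit 103890846212, nat_lit 1082196228, nat_lit 13297218764932, nat_lit 8899440672900, nat_lit 811647104, nat_lit 8865886240897] [] [(TL, [6, 5, 1, 4, 6])] (by decide +kernel)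

theorem c125s : c125.g * val [] = val [(TL, [6, 5, 1, 4, 6])] := mkD_s

theorem f88 : E w7 c125 w7 c124 :=
  unmove (einv f87) [c76, c98, c75] (St.cons f58 (St.cons f71 (St.cons f57 St.nil))) [0, 1, 0, 1, 2, 2, 1, 2, 2, 2] [8, 13, 7, 14, 13, 11] c124s (by decide +kernel)

noncomputable def c126 : El := mkD [nat_lit 17695267389569, nat_lit 103624491266, nat_lit 545308928, nat_lit 8933536203136, nat_lit 17627082670082, nat_lit 13229038272641, nat_lit 17730163966338] [] [(TL, [2, 2, 4, 6])] (by decide +kernel)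

theorem c126s : c126.g * val [] = val [(TL, [2, 2, 4, 6])] := mkD_s

noncomputable def c127 : El := mkD [nat_lit 17592188207620, nat_lit 13298296701186, nat_lit 8830459101443, nat_lit 34636578946, nat_lit 34634530820, nat_lit 138516890113, nat_lit 49540] [(TB, [0, 9, 14, 12, 10, 1])] [o c117, (TB, [8, 14, 7]), o r9_3] (by decide +kernel)

theorem c127s : c127.g * val [(TB, [0, 9, 14, 12, 10, 1])] = val [o c117, (TB, [8, 14, 7]), o r9_3] := mkD_s

theorem f89 : E w7 c126 w7 c127 :=
  unmove (rel4 rz9 (hstep (zstep (hstep (zstep (hstep (zstep (hstep (start w7 [o c126, (TA, [0, 9, 14, 12, 10, 1])]) r9_0) f86 [c98, c75, c76] (St.cons f71 (St.cons f57 (St.cons f58 St.nil))) [0, 1, 2, 1, 0, 1, 1, 0, 1, 1] [10, 12, 10, 14, 12, 5, 1, 11] (by decide +kernel)) r9_1) f82 [c98, c75, c76] (St.cons f71 (St.cons f57 (St.cons f58 St.nil))) [0, 1, 2, 0, 1, 1, 1, 1, 0] [3, 10, 12, 14, 13, 11, 5, 13] (by decide +kernel)) r9_2) f83 [c98, c76, c75] (St.cons f71 (St.cons f58 (St.cons f57 St.nil)))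 [0, 1, 0, 1, 0, 2, 2, 2, 2, 0] [8, 14, 7] (by decide +kernel)) r9_3)) [] St.nil [] [0, 9, 14, 12, 10, 1] c127s (by decide +kernel)

noncomputable def c128 : El := mkD [nat_lit 13263400141315, nat_lit 13262867431426, nat_lit 17661178183809, nat_lit 17696070582401, nat_lit 4398851883139, nat_lit 4501666791554, nat_lit 4433484251392] [(TB, [12, 10, 14, 0, 4])] [o c126] (by decide +kernel)

theorem c128s : c128.g * val [(TB, [12, 10, 14, 0, 4])] = val [o c126] := mkD_s

noncomputable def c129 : El := mkD [nat_lit 4398323368324, nat_lit 4501396258817, nat_lit 4467843990017, nat_lit 103349796994, nat_lit 138244276480, nat_lit 4536567660803, nat_lit 4501396275457] [] [(TL, [4, 6, 0, 4, 6])] (by decide +kernel)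

theorem c129s : c129.g * val [] = val [(TL, [4, 6, 0, 4, 6])] := mkD_s

theorem f90 : E w7 c129 w7 c128 :=
  unmove (einv f89) [c75, c98] (St.cons f57 (St.cons f71 St.nil)) [0, 0, 1, 0, 0, 0, 0, 1, 0] [12, 10, 14, 0, 4] c128s (by decide +kernel)

noncomputable def c130 : El := mkD [nat_lit 4536292868610, nat_lit 8934075187204, nat_lit 8899178594560, nat_lit 17661985571200, nat_lit 8865087242755, nat_lit 4398587576708, nat_lit 8796369846531] [] [(TL, [5, 3, 4, 6])] (by decide +kernel)

theorem c130s : c130.g * val [] = val [(TL, [5, 3, 4, 6])] := mkD_s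

noncomputable def c131 : El := mkD [nat_lit 17593259819267, nat_lit 13263402238208, nat_lit 17661180280835, nat_lit 4535753949444, nat_lit 17592460837120, nat_lit 4501664694273, nat_lit 17592997708163] [(TB, [0, 5, 3, 12, 4, 15])] [o c103, (TB, [6, 12, 9, 14]), o r8_3] (by decide +kernel)

theorem c131s : c131.g * val [(TB, [0, 5, 3, 12, 4, 15])] = val [o c103, (TB, [6, 12, 9, 14]), o r8_3] := mkD_s

theorem f91 : E w7 c130 w7 c131 :=
  unmove (rel4 rz8 (hstep (zstep (hstep (zstep (hstep (zstep (hstep (start w7 [o c130, (TA, [0, 5, 3, 12, 4, 15])]) r8_0) f88 [c98, c75, c76] (St.cons f71 (St.cons f57 (St.cons f58 St.nil))) [0, 1, 2, 0, 1, 1, 1, 0] [2, 2, 11, 15, 1, 13] (by decide +kernel)) r8_1) f81 [c98, c75] (St.cons f71 (St.cons f57 St.nil)) [0, 1, 1, 0, 1, 1] [2, 6, 11, 15, 0, 12] (by decide +kernel)) r8_2) f74 [c14, c44] (St.cons f11 (St.cons f38 St.nil)) [0, 0, 1, 0] [6, 12, 9, 14] (by decide +kernel)) r8_3)) [] St.nil [] [0, 5, 3, 12, 4, 15] c131s (by decide +kernel)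

noncomputable def c132 : El := mkD [nat_lit 4433484234754, nat_lit 35173466116, nat_lit 1082196353, nat_lit 8865624162560, nat_lit 137977954562, nat_lit 8865886273924, nat_lit 4501134115074] [] [(TL, [5, 6, 4, 6])] (by decide +kernel)

theorem c132s : c132.g * val [] = val [(TL, [5, 6, 4, 6])] := mkD_s

noncomputable def c133 : El := mkD [nat_lit 4398853915009, nat_lit 8899983868162, nat_lit 13262863253507, nat_lit 13194412163201, nat_lit 8899174400130, nat_lit 8864818806786, nat_lit 17661719265666] [(TB, [8, 10, 14, 13, 6, 11, 15])] [o c91, (TB, [11, 4, 13, 5, 13]), o r3_2] (by decide +kernel)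

theorem c133s : c133.g * val [(TB, [8, 10, 14, 13, 6, 11, 15])] = val [o c91, (TB, [11, 4, 13, 5, 13]), o r3_2] := mkD_s

theorem f92 : E w7 c132 w7 c133 :=
  unmove (rel3 rz3 (hstep (zstep (hstep (zstep (hstep (start w7 [o c132, (TA, [8, 10, 14, 13, 6, 11, 15])]) r3_0) f66 [c98, c75] (St.cons f71 (St.cons f57 St.nil)) [0, 1, 0, 1, 1, 0, 1, 1, 1, 1, 1, 1] [6, 10, 7, 12, 14, 13] (by decide +kernel)) r3_1) f67 [c33, c16, c55, c44, c15] (St.cons f31 (St.cons f13 (St.cons f45 (St.cons f38 (St.cons f12 St.nil))))) [0, 1, 2, 3, 4] [11, 4, 13, 5, 13] (by decide +kernel)) r3_2)) [] St.nil [] [8, 10, 14, 13, 6, 11, 15] c133s (by decide +kernel)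

noncomputable def c134 : El := mkD [nat_lit 13331851182211, nat_lit 13228499271810, nat_lit 17627082702849, nat_lit 13194141696128, nat_lit 17730432434563, nat_lit 8899983852036, nat_lit 8831526535552] [(TB, [9, 12, 14, 4, 13, 11])] [o c91, (TB, [10, 14, 2, 12, 10, 7, 14, 12]), o r14_3] (by decide +kernel)

theorem c134s : c134.g * val [(TB, [9, 12, 14, 4, 13, 11])] = val [o c91, (TB, [10, 14, 2, 12, 10, 7, 14, 12]), o r14_3] := mkD_s

theorem f93 : E w7 c68 w7 c134 :=
  unmove (rel4 rz14 (hstep (zstep (hstep (zstep (hstep (zstep (hstep (start w7 [o c68, (TA, [9, 12, 14, 4, 13, 11])]) r14_0) f62 [c98, c75, c76] (St.cons f71 (St.cons f57 (St.cons f58 St.nil))) [0, 1, 2, 0, 1, 0] [1, 6, 10, 12, 14, 11] (by decide +kernel)) r14_1) f47 [c10, c8, c43] (St.cons f7 (St.cons f5 (St.cons f37 St.nil))) [0, 1, 0, 2, 1, 2, 0, 2] [10, 13, 15, 4, 11, 2, 13] (by decide +kernel)) r14_2) f67 [c44, c14, c55, c15, c33] (St.cons f38 (St.cons f11 (St.cons f45 (St.cons f12 (St.cons f31 St.nil)))))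 [0, 1, 2, 3, 4] [10, 14, 2, 12, 10, 7, 14, 12] (by decide +kernel)) r14_3)) [] St.nil [] [9, 12, 14, 4, 13, 11] c134s (by decide +kernel)

noncomputable def c135 : El := mkD [nat_lit 17626820526468, nat_lit 13297227170052, nat_lit 13194684842368, nat_lit 8830727553026, nat_lit 17592731303940, nat_lit 8933800411651, nat_lit 34363998338] [(TB, [3, 8, 10, 12, 14, 7, 12])] [o c68] (by decide +kernel)

theorem c135s : c135.g * val [(TB, [3, 8, 10, 12, 14, 7, 12])] = val [o c68] := mkD_s

theorem f94 : E w7 c106 w7 c135 :=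
  unmove (einv f93) [c75, c98] (St.cons f57 (St.cons f71 St.nil)) [0, 1, 0, 0, 0, 0, 1, 0] [3, 8, 10, 12, 14, 7, 12] c135s (by decide +kernel)

noncomputable def c136 : El := mkD [nat_lit 17730161868929, nat_lit 8796093022592, nat_lit 103351877762, nat_lit 8796631990656, nat_lit 17729624998017, nat_lit 8796634087426, nat_lit 69531123715] [] [(TL, [2, 4, 6, 3, 3])] (by decide +kernel)

theorem c136s : c136.g * val [] = val [(TL, [2, 4, 6, 3, 3])] := mkD_s

noncomputable def c137 : El := mkD [nat_lit 4502203678720, nat_lit 8934077251841, nat_lit 17729629225348, nat_lit 17626552123780, nat_lit 103356072195, nat_lit 17626820542467, nat_lit 8865624162434] [(TB, [3, 11, 15, 7, 12, 2])] [o c134, (TB, [3, 15, 6, 12, 2]), o r13_3] (by decide +kernel)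

theorem c137s : c137.g * val [(TB, [3, 11, 15, 7, 12, 2])] = val [o c134, (TB, [3, 15, 6, 12, 2]), o r13_3] := mkD_s

theorem f95 : E w7 c136 w7 c137 :=
  unmove (rel4 rz13 (hstep (zstep (hstep (zstep (hstep (zstep (hstep (start w7 [o c136, (TA, [3, 11, 15, 7, 12, 2])]) r13_0) f87 [c76, c98, c75] (St.cons f58 (St.cons f71 (St.cons f57 St.nil))) [0, 1, 0, 2, 2, 2, 1, 2, 2, 2] [1, 10, 0, 5, 14, 12, 11] (by decide +kernel)) r13_1) f87 [c76, c98, c75] (St.cons f58 (St.cons f71 (St.cons f57 St.nil))) [0, 1, 0, 2, 2, 2, 2, 2, 1] [0, 15, 4, 1, 10, 7] (by decide +kernel)) r13_2) f93 [c76, c75, c98] (St.cons f58 (St.cons f57 (St.cons f71 St.nil))) [0, 1, 2, 1, 1, 1, 1, 1, 2] [3, 15, 6, 12, 2] (by decide +kernel)) r13_3)) [] St.nil [] [3, 11, 15, 7, 12, 2] c137s (by decide +kernel)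

noncomputable def c138 : El := mkD [nat_lit 13298300928256, nat_lit 69258445060, nat_lit 17626554171777, nat_lit 4535756062848, nat_lit 17660907618308, nat_lit 13298024087937, nat_lit 4432414687233] [(TB, [12, 7, 8, 10, 0])] [o c136] (by decide +kernel)

theorem c138s : c138.g * val [(TB, [12, 7, 8, 10, 0])] = val [o c136] := mkD_s

noncomputable def c139 : El := mkD [nat_lit 13195219599618, nat_lit 34900869635, nat_lit 137445261828, nat_lit 4398851883394, nat_lit 17729629192580, nat_lit 8830729650691, nat_lit 13263397978114] [] [(TL, [4, 3, 4, 6, 3])] (by decide +kernel)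

theorem c139s : c139.g * val [] = val [(TL, [4, 3, 4, 6, 3])] := mkD_s

theorem f96 : E w7 c139 w7 c138 :=
  unmove (einv f95) [c98, c76, c75] (St.cons f71 (St.cons f58 (St.cons f57 St.nil))) [0, 1, 2, 2, 2, 2, 2, 0, 2] [12, 7, 8, 10, 0] c138s (by decide +kernel)

noncomputable def c140 : El := mkD [nat_lit 13331849085184, nat_lit 4467839795329, nat_lit 8830995972100, nat_lit 17593268191748, nat_lit 17729895580032, nat_lit 13194408001665, nat_lit 13331851149316] [] [(TL, [4, 2, 0, 4, 6])] (by decide +kernel)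

theorem c140s : c140.g * val [] = val [(TL, [4, 2, 0, 4, 6])] := mkD_s

noncomputable def c141 : El := mkD [nat_lit 17592458690818, nat_lit 13263934865539, nat_lit 4467839778944, nat_lit 4467579732099, nat_lit 13297755619586, nat_lit 17593266126979, nat_lit 8797175218688] [(TB, [4, 4, 14, 12, 2, 10])] [o c135, (TB, [10, 12, 14, 11, 2, 4]), o r8_3] (by decide +kernel)

theorem c141s : c141.g * val [(TB, [4, 4, 14, 12, 2, 10])] = val [o c135, (TB, [10, 12, 14, 11, 2, 4]), o r8_3] := mkD_s

theorem f97 : E w7 c140 w7 c141 :=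
  unmove (rel4 rz8 (hstep (zstep (hstep (zstep (hstep (zstep (hstep (start w7 [o c140, (TA, [4, 4, 14, 12, 2, 10])]) r8_0) f68 [c76, c75, c98] (St.cons f58 (St.cons f57 (St.cons f71 St.nil))) [0, 1, 1, 1, 1, 2, 1, 1, 1, 1, 1] [0, 0, 14, 8, 12] (by decide +kernel)) r8_1) f65 [c14, c33, c55, c44, c16] (St.cons f11 (St.cons f31 (St.cons f45 (St.cons f38 (St.cons f13 St.nil))))) [0, 1, 2, 3, 3, 4] [0, 10, 14, 11, 6, 13, 7] (by decide +kernel)) r8_2) f94 [c75, c76, c98] (St.cons f57 (St.cons f58 (St.cons f71 St.nil))) [0, 1, 0, 0, 0, 0, 2, 0, 0, 0, 0] [10, 12, 14, 11, 2, 4] (by decide +kernel)) r8_3)) [] St.nil [] [4, 4, 14, 12, 2, 10] c141s (by decide +kernel)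

noncomputable def c142 : El := mkD [nat_lit 8796093071488, nat_lit 17593259802884, nat_lit 4501394227584, nat_lit 17660913926401, nat_lit 17661180264450, nat_lit 1077952772, nat_lit 813727745] [] [(TL, [2, 5, 0, 4, 6, 2])] (by decide +kernel)

theorem c142s : c142.g * val [] = val [(TL, [2, 5, 0, 4, 6, 2])] := mkD_s

noncomputable def c143 : El := mkD [nat_lit 17695533728131, nat_lit 137709519360, nat_lit 8865886257666, nat_lit 17729631305859, nat_lit 13332656455682, nat_lit 13228505596162, nat_lit 8797166813700] [(TB, [5, 1, 10, 12, 10, 14, 12, 10])] [o c91, (TB, [1, 1, 5, 5, 13]), o r14_3] (by decide +kernel)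

theorem c143s : c143.g * val [(TB, [5, 1, 10, 12, 10, 14, 12, 10])] = val [o c91, (TB, [1, 1, 5, 5, 13]), o r14_3] := mkD_s

theorem f98 : E w7 c142 w7 c143 :=
  unmove (rel4 rz14 (hstep (zstep (hstep (zstep (hstep (zstep (hstep (start w7 [o c142, (TA, [5, 1, 10, 12, 10, 14, 12, 10])]) r14_0) f88 [c98, c76, c75] (St.cons f71 (St.cons f58 (St.cons f57 St.nil))) [0, 1, 0, 1, 2, 2, 2, 0] [2, 5, 11, 9, 11] (by decide +kernel)) r14_1) f81 [c98, c75, c76] (St.cons f71 (St.cons f57 (St.cons f58 St.nil))) [0, 1, 2, 1, 1, 0, 1, 1] [2, 12, 14, 12, 10, 7, 13] (by decide +kernel)) r14_2) f67 [c55, c44, c33, c15] (St.cons f45 (St.cons f38 (St.cons f31 (St.cons f12 St.nil)))) [0, 1, 0, 2, 3] [1, 1, 5, 5, 13] (by decide +kernel)) r14_3)) [] St.nil [] [5, 1, 10, 12, 10, 14, 12, 10] c143s (by decide +kernel)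

noncomputable def c144 : El := mkD [nat_lit 13297757716864, nat_lit 811647105, nat_lit 13331849068545, nat_lit 1080066052, nat_lit 13297757716740, nat_lit 4432681026048, nat_lit 8830452810116] [] [(TL, [5, 1, 3, 3, 4, 6])] (by decide +kernel)

theorem c144s : c144.g * val [] = val [(TL, [5, 1, 3, 3, 4, 6])] := mkD_s

noncomputable def c145 : El := mkD [nat_lit 4399124480257, nat_lit 8899176481024, nat_lit 34898755584, nat_lit 13331586924932, nat_lit 8865626227204, nat_lit 34898739588, nat_lit 4432683122820] [(TB, [14, 2, 12, 11, 6, 13])] [o c103, (TB, [10, 1, 12, 14, 13, 11, 4, 13]), o r15_3] (by decide +kernel)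

theorem c145s : c145.g * val [(TB, [14, 2, 12, 11, 6, 13])] = val [o c103, (TB, [10, 1, 12, 14, 13, 11, 4, 13]), o r15_3] := mkD_s

theorem f99 : E w7 c144 w7 c145 :=
  unmove (rel4 rz15 (hstep (zstep (hstep (zstep (hstep (zstep (hstep (start w7 [o c144, (TA, [14, 2, 12, 11, 6, 13])]) r15_0) f62 [c98, c75, c76] (St.cons f71 (St.cons f57 (St.cons f58 St.nil))) [0, 1, 2, 0, 1, 1, 1, 0] [1, 14, 11, 7, 12, 5, 11] (by decide +kernel)) r15_1) f49 [c9, c43, c10, c8] (St.cons f6 (St.cons f37 (St.cons f7 (St.cons f5 St.nil)))) [0, 1, 2, 3, 2] [0, 8, 10, 10, 10] (by decide +kernel)) r15_2) f74 [c44, c33, c16, c14] (St.cons f38 (St.cons f31 (St.cons f13 (St.cons f11 St.nil)))) [0, 1, 2, 3, 3] [10, 1, 12, 14, 13, 11, 4, 13] (by decide +kernel)) r15_3)) [] St.nil [] [14, 2, 12, 11, 6, 13] c145s (by decide +kernel)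

theorem t1_0 : Q (w1 * V [o c1] * z) (w0 * V [o c0]) :=
  f0

theorem t1_1 : Q (w1 * V [o c2] * z) (w1 * V [o c3]) :=
  f1

theorem t1_3 : Q (w1 * V [o c6] * z) (w2 * V [o c1d]) :=
  f3

theorem t1_5 : Q (w1 * V [o c34] * z) (w7 * V [o c1d]) :=
  f55

theorem t1_21 : Q (w1 * V [o c29] * z) (w3 * V [o c30]) :=
  f29

theorem t1_1107 : Q (w1 * V [o c4] * z) (w1 * V [o c5]) :=
  f2

theorem t2_0 : Q (w2 * V [o c1] * z) (w1 * V [o c7]) :=
  f4

theorem t2_1 : Q (w2 * V [o c2] * z) (w7 * V [o c77]) :=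
  f59

theorem t2_3 : Q (w2 * V [o c6] * z) (w3 * V [o c1d]) :=
  f9

theorem t2_5 : Q (w2 * V [o c34] * z) (w2 * V [o c35]) :=
  f32

theorem t2_18 : Q (w2 * V [o c80] * z) (w7 * V [o c81]) :=
  f61

theorem t2_58 : Q (w2 * V [o c47] * z) (w7 * V [o c84]) :=
  f63

theorem t2_64 : Q (w2 * V [o c59] * z) (w3 * V [o c58]) :=
  f47

theorem t2_130 : Q (w2 * V [o c60] * z) (w2 * V [o c61]) :=
  f48

theorem t2_264 : Q (w2 * V [o c62] * z) (w3 * V [o c63]) :=
  f49

theorem t2_849 : Q (w2 * V [o c66] * z) (w2 * V [o c67]) :=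
  f51

theorem t2_3604 : Q (w2 * V [o c36] * z) (w3 * V [o c37]) :=
  f33

theorem t3_0 : Q (w3 * V [o c1] * z) (w2 * V [o c13]) :=
  f10

theorem t3_8 : Q (w3 * V [o c39] * z) (w2 * V [o c38]) :=
  f34

theorem t3_11 : Q (w3 * V [o c87] * z) (w7 * V [o c88]) :=
  f65

theorem t3_58 : Q (w3 * V [o c47] * z) (w3 * V [o c48]) :=
  f41

theorem t3_59 : Q (w3 * V [o c51] * z) (w3 * V [o c52]) :=
  f43

theorem t3_64 : Q (w3 * V [o c59] * z) (w7 * V [o c91]) :=
  f67

theorem t3_65 : Q (w3 * V [o c94] * z) (w7 * V [o c95]) :=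
  f69

theorem t3_71 : Q (w3 * V [o c56] * z) (w2 * V [o c57]) :=
  f46

theorem t3_131 : Q (w3 * V [o c68] * z) (w3 * V [o c69]) :=
  f52

theorem t3_137 : Q (w3 * V [o c99] * z) (w7 * V [o c100]) :=
  f72

theorem t3_190 : Q (w3 * V [o c102] * z) (w7 * V [o c103]) :=
  f74

theorem t3_191 : Q (w3 * V [o c65] * z) (w2 * V [o c64]) :=
  f50

theorem t3_197 : Q (w3 * V [o c106] * z) (w7 * V [o c107]) :=
  f76

theorem t3_251 : Q (w3 * V [o c90] * z) (w7 * V [o c110]) :=
  f78

theorem t3_1063 : Q (w3 * V [o c70] * z) (w3 * V [o c71]) :=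
  f53

theorem t3_1067 : Q (w3 * V [o c113] * z) (w7 * V [o c114]) :=
  f80

theorem t3_1545 : Q (w3 * V [o c72] * z) (w3 * V [o c73]) :=
  f54

theorem t3_5880 : Q (w3 * V [o c32] * z) (w1 * V [o c31]) :=
  f30

theorem t7_0 : Q (w7 * V [o c1] * z) (w1 * V [o c74]) :=
  f56

theorem t7_1 : Q (w7 * V [o c2] * z) (w7 * V [o c116]) :=
  f82

theorem t7_2 : Q (w7 * V [o c79] * z) (w2 * V [o c78]) :=
  f60

theorem t7_8 : Q (w7 * V [o c39] * z) (w7 * V [o c117]) :=
  f83

theorem t7_14 : Q (w7 * V [o c112] * z) (w3 * V [o c111]) :=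
  f79

theorem t7_19 : Q (w7 * V [o c105] * z) (w3 * V [o c104]) :=
  f75

theorem t7_33 : Q (w7 * V [o c118] * z) (w7 * V [o c119]) :=
  f84

theorem t7_46 : Q (w7 * V [o c120] * z) (w7 * V [o c121]) :=
  f85

theorem t7_59 : Q (w7 * V [o c51] * z) (w7 * V [o c122]) :=
  f86

theorem t7_64 : Q (w7 * V [o c59] * z) (w7 * V [o c123]) :=
  f87

theorem t7_70 : Q (w7 * V [o c126] * z) (w7 * V [o c127]) :=
  f89

theorem t7_78 : Q (w7 * V [o c109] * z) (w3 * V [o c108]) :=
  f77

theorem t7_79 : Q (w7 * V [o c130] * z) (w7 * V [o c131]) :=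
  f91

theorem t7_87 : Q (w7 * V [o c132] * z) (w7 * V [o c133]) :=
  f92

theorem t7_131 : Q (w7 * V [o c68] * z) (w7 * V [o c134]) :=
  f93

theorem t7_178 : Q (w7 * V [o c136] * z) (w7 * V [o c137]) :=
  f95

theorem t7_191 : Q (w7 * V [o c65] * z) (w3 * V [o c101]) :=
  f73

theorem t7_197 : Q (w7 * V [o c106] * z) (w7 * V [o c135]) :=
  f94

theorem t7_210 : Q (w7 * V [o c139] * z) (w7 * V [o c138]) :=
  f96

theorem t7_244 : Q (w7 * V [o c140] * z) (w7 * V [o c141]) :=
  f97

theorem t7_251 : Q (w7 * V [o c90] * z) (w3 * V [o c89]) :=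
  f66

theorem t7_264 : Q (w7 * V [o c62] * z) (w3 * V [o c115]) :=
  f81

theorem t7_269 : Q (w7 * V [o c129] * z) (w7 * V [o c128]) :=
  f90

theorem t7_296 : Q (w7 * V [o c125] * z) (w7 * V [o c124]) :=
  f88

theorem t7_565 : Q (w7 * V [o c142] * z) (w7 * V [o c143]) :=
  f98

theorem t7_577 : Q (w7 * V [o c97] * z) (w3 * V [o c96]) :=
  f70

theorem t7_895 : Q (w7 * V [o c83] * z) (w2 * V [o c82]) :=
  f62

theorem t7_1557 : Q (w7 * V [o c144] * z) (w7 * V [o c145]) :=
  f99

theorem t7_2392 : Q (w7 * V [o c86] * z) (w2 * V [o c85]) :=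
  f64

theorem t7_4229 : Q (w7 * V [o c93] * z) (w3 * V [o c92]) :=
  f68


end Cfsg.Agent.Comp.Ly
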