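import Cfsg.Agent.Comp.Ly.Main
import Cfsg.Agent.Comp.CenExt

set_option autoImplicit false
set_option maxRecDepth 100000

namespace Cfsg.Agent.Comp.Ly
open Cfsg.Agent.Comp

theorem rho_inj : Function.Injective rho :=
  have := simple
  inj_of_simple rho (g := s 0) fun c => nz4 (by
    rw [← rho_s 0 (by norm_num), c]; exact Matrix.one_apply_ne (by decide))

end Cfsg.Agent.Comp.Ly
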