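import Cfsg.Agent.Comp.Ly.Cnt

set_option autoImplicit false
set_option maxRecDepth 100000

namespace Cfsg.Agent.Comp.Ly
open Cfsg.Agent.Comp

theorem zzi : z * z = io (ev G25.s [0, 0]) := by
  rw [zz, io_ev (by decide), s_FS 30 (by norm_num)]; rfl

/-- a subgroup containing `H` and `z` is everything -/
theorem eq_top_of {M : Subgroup Cfsg.Spor.Ly} (h1 : ∀ a, io a ∈ M) (h2 : z ∈ M) : M = ⊤ := by
  rw [eq_top_iff, ← pres.top, gen, genW, Subgroup.closure_le]
  rintro _ ⟨w, hw, rfl⟩
  obtain ⟨x, hx, rfl⟩ := List.mem_map.mp hw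
  have hx := List.mem_range.mp hx
  rw [ev_single, s_FS x hx]
  refine ev_mem fun y hy => ?_
  have h3 := (by decide +kernel : ∀ x < 78, ∀ y ∈ FS.getD x [], y < 20 ∨ y = 20 ∨ y = 21) x hx y hy
  rcases h3 with h | rfl | rfl
  · rw [← exists_io.choose_spec.1 y h]; exact h1 _
  · exact h2
  · rw [show s 21 = z⁻¹ from s_xor (x := 20) (by norm_num)]; exact M.inv_mem h2

theorem zU : ∀ g ∈ DU, g * z ∈ DU := by
  rintro g (h | h | h | h | h)
  exacts [Or.inr (Or.inl (z01 g h)), all1 g h, all2 g h, all3 g h, all7 g h]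

theorem DU_eq : DU = Set.univ := by
  let M : Subgroup Cfsg.Spor.Ly :=
    { carrier := {g | ∀ x, x ∈ DU ↔ x * g ∈ DU}
      one_mem' := fun x => by simp
      mul_mem' := fun {a b} ha hb x => by rw [← mul_assoc, ← hb, ← ha]
      inv_mem' := fun {a} ha x => by rw [ha (x * a⁻¹)]; simp }
  have h : M = ⊤ := eq_top_of (fun a x => by simpa using (biU.iff x 1 a).symm) fun x =>
    ⟨zU x, fun e => by
      have := zU _ e
      rw [mul_assoc, zzi] at this
      exact (biU.iff x 1 (ev G25.s [0, 0])).mp (by rw [map_one, one_mul]; exact this)⟩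
  refine Set.eq_univ_of_forall fun g => ?_
  have := ((h ▸ Subgroup.mem_top g : g ∈ M) 1).mp (Or.inl (self_mem_Dc w0))
  rwa [one_mul] at this

theorem Dc0 : Dc io w0 = io.range := by
  ext g
  exact ⟨fun ⟨a, b, e⟩ => ⟨a * b, by simp [e, w0]⟩, fun ⟨a, e⟩ => ⟨a, 1, by simp [e, w0]⟩⟩

theorem cardH : Nat.card io.range = 5859000000 := by
  rw [← G25.card.2.1]; exact (Nat.card_congr (MonoidHom.ofInjective io_inj).toEquiv).symm

theorem n0 : (Dc io w0).ncard = 5859000000 := by rw [Dc0, ← cardH]; rfl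

theorem n1 : (Dc io w1).ncard = 19530 * 5859000000 := by
  have := dc_sym zzi w0 w1; rw [m01, m10, n0] at this; omega

theorem n2 : (Dc io w2).ncard = 968750 * 5859000000 := by
  have := dc_sym zzi w2 w1; rw [m21, m12, n1] at this
  exact Nat.eq_of_mul_eq_mul_right (by norm_num) (this.trans (by norm_num))

theorem n3 : (Dc io w3).ncard = 2034375 * 5859000000 := by
  have := dc_sym zzi w3 w1; rw [m31, m13, n1] at this
  exact Nat.eq_of_mul_eq_mul_right (by norm_num) (this.trans (by norm_num))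

theorem n7 : (Dc io w7).ncard = 5812500 * 5859000000 := by
  have := dc_sym zzi w7 w1; rw [m71, m17, n1] at this
  exact Nat.eq_of_mul_eq_mul_right (by norm_num) (this.trans (by norm_num))

instance finG : Finite Cfsg.Spor.Ly := Set.finite_univ_iff.mp (DU_eq ▸ (Dc_finite _).union
  ((Dc_finite _).union ((Dc_finite _).union ((Dc_finite _).union (Dc_finite _)))))

theorem part (M : Set Cfsg.Spor.Ly) : M.ncard = (M ∩ Dc io w0).ncard + ((M ∩ Dc io w1).ncard +
    ((M ∩ Dc io w2).ncard + ((M ∩ Dc io w3).ncard + (M ∩ Dc io w7).ncard))) := by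
  have e : ∀ {A B : Set Cfsg.Spor.Ly}, Disjoint A B →
      (M ∩ (A ∪ B)).ncard = (M ∩ A).ncard + (M ∩ B).ncard := fun h => by
    rw [Set.inter_union_distrib_left,
      Set.ncard_union_eq (h.mono Set.inter_subset_right Set.inter_subset_right)]
  rw [← e d37, ← e (Set.disjoint_union_right.mpr ⟨d23, d27⟩),
    ← e (by simp [d21.symm, d31.symm, d71.symm]), ← e (by simp [d01, d02, d03, d07]), ← DU, DU_eq,
    Set.inter_univ]

theorem card : Nat.card Cfsg.Spor.Ly = 8835156 * 5859000000 := by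
  have := part Set.univ
  simp only [Set.univ_inter, n0, n1, n2, n3, n7, Set.ncard_univ] at this
  rw [this]

theorem index : io.range.index = 8835156 := by
  have := io.range.index_mul_card
  rw [card, cardH] at this
  exact Nat.eq_of_mul_eq_mul_right (by norm_num) this

theorem range_eq : io.range = genW s [[0], [2], [4], [6]] := by
  rw [io, exists_io.choose_spec.2]
  refine le_antisymm ?_ (genW_le_gen (by decide))
  set H := genW s [[0], [2], [4], [6]]
  have step : ∀ {l u : List ℕ} {x : ℕ}, (∀ y ∈ l, s y ∈ H) → (x :: u ∈ R ∧ ∀ y ∈ u, y ∈ l) →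
      ∀ y ∈ x :: l, s y ∈ H := fun {l u x} h h' => List.forall_mem_cons.mpr ⟨by
    have := pres.sat _ h'.1
    rw [ev_cons, mul_eq_one_iff_eq_inv] at this
    rw [this]; exact H.inv_mem (ev_mem fun y hy => h y (h'.2 y hy)), h⟩
  have h : ∀ y ∈ [0, 2, 4, 6], s y ∈ H := fun y hy => by
    rw [← ev_single s y]; exact ev_mem_genW (List.mem_map_of_mem (f := fun y => [y]) hy)
  have h := step (x := 1) (u := [0]) h (by decide +kernel)
  have h := step (x := 3) (u := [2]) h (by decide +kernel)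
  have h := step (x := 5) (u := [4]) h (by decide +kernel)
  have h := step (x := 7) (u := [6]) h (by decide +kernel)
  have h := step (x := 10) (u := [5]) h (by decide +kernel)
  have h := step (x := 11) (u := [10]) h (by decide +kernel)
  have h := step (x := 12) (u := [1, 5, 0]) h (by decide +kernel)
  have h := step (x := 13) (u := [12]) h (by decide +kernel)
  have h := step (x := 14) (u := [3, 5, 2]) h (by decide +kernel)
  have h := step (x := 15) (u := [14]) h (by decide +kernel)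
  have h := step (x := 16) (u := [2, 5, 3]) h (by decide +kernel)
  have h := step (x := 17) (u := [16]) h (by decide +kernel)
  have h := step (x := 18) (u := [13, 11, 12, 10]) h (by decide +kernel)
  have h := step (x := 19) (u := [18]) h (by decide +kernel)
  have h := step (x := 8) (u := [7, 11, 7, 2, 1, 3, 11, 7, 1, 11, 0, 11, 1, 10, 0, 2, 2]) h (by decide +kernel)
  have h := step (x := 9) (u := [8]) h (by decide +kernel)
  rw [gen, genW, Subgroup.closure_le]
  rintro _ ⟨w, hw, rfl⟩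
  obtain ⟨x, hx, rfl⟩ := List.mem_map.mp hw
  rw [ev_single]
  exact h x (by revert x; decide)

open Cfsg.Spor in
theorem H_eq : (Subgroup.closure ({Ly.a, Ly.b, Ly.c, Ly.d} : Set (FreeGroup Ly.Gen))).map
    (PresentedGroup.mk (coxRelators Ly.edges ∪ {r | r ∈ Ly.extra})) = io.range := by
  rw [range_eq]
  exact map_closure_eqG presAll.2.2 [Ly.a, Ly.b, Ly.c, Ly.d] _ (by simp) _ (by decide +kernel)

theorem bi_part {M : Set Cfsg.Spor.Ly} (h : Bi io M) (w : Cfsg.Spor.Ly) :
    (w ∈ M ∧ (M ∩ Dc io w).ncard = (Dc io w).ncard) ∨ (M ∩ Dc io w).ncard = 0 := by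
  by_cases c : w ∈ M
  · exact Or.inl ⟨c, by rw [Set.inter_eq_right.mpr (h.Dc_sub c)]⟩
  · refine Or.inr ?_
    rw [Set.inter_comm, Set.disjoint_iff_inter_eq_empty.mp
      (Set.disjoint_left.mpr fun g hg => h.compl.Dc_sub c hg), Set.ncard_empty]

theorem maximal {M : Subgroup Cfsg.Spor.Ly} (h : io.range ≤ M) : M = io.range ∨ M = ⊤ := by
  have hb : Bi io M := fun g hg a b => M.mul_mem (M.mul_mem (h ⟨a, rfl⟩) hg) (h ⟨b, rfl⟩)
  have h1 := part M
  have h2 : (M : Set Cfsg.Spor.Ly).ncard ∣ 8835156 * 5859000000 :=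
    card ▸ M.card_subgroup_dvd_card
  have h0 : ((M : Set Cfsg.Spor.Ly) ∩ Dc io w0).ncard = 5859000000 := by
    rw [← n0, Set.inter_eq_right.mpr (Dc0 ▸ h)]
  rcases bi_part hb w1 with ⟨e, -⟩ | e1
  · exact Or.inr (eq_top_of (fun a => h ⟨a, rfl⟩) e)
  left
  refine (Subgroup.eq_of_le_of_card_ge h ?_).symm
  rw [cardH]
  change (M : Set Cfsg.Spor.Ly).ncard ≤ _
  rcases bi_part hb w2 with ⟨-, e2⟩ | e2 <;> rcases bi_part hb w3 with ⟨-, e3⟩ | e3 <;>
    rcases bi_part hb w7 with ⟨-, e7⟩ | e7 <;>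
    simp only [h0, e1, e2, e3, e7, n2, n3, n7] at h1 <;> rw [h1] at h2 ⊢ <;> first | exact le_rfl | norm_num at h2

/-- the representatives -/
noncomputable def wr : Fin 4 → Cfsg.Spor.Ly := ![w1, w2, w3, w7]

theorem simple : IsSimpleGroup Cfsg.Spor.Ly := by
  have := G25.simple
  have nt : Nontrivial Cfsg.Spor.Ly := io_inj.nontrivial
  refine ⟨fun N hN => ?_⟩
  rcases (hN.comap io).eq_bot_or_eq_top with h | h
  · have hd : Disjoint N io.range := by
      rw [Subgroup.disjoint_def]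
      rintro _ hx ⟨a, rfl⟩
      rw [show a = 1 from (h ▸ hx : a ∈ (⊥ : Subgroup G25.G)), map_one]
    rcases maximal (le_sup_right : io.range ≤ N ⊔ io.range) with e | e
    · exact Or.inl (hd.eq_bot_of_le (e ▸ le_sup_left))
    exfalso
    have hc := (Subgroup.isComplement'_of_disjoint_and_mul_eq_univ hd
      (by rw [← Subgroup.normal_mul, e]; rfl)).card_mul_card
    rw [card, cardH] at hc
    have hc : Nat.card N = 8835156 := Nat.eq_of_mul_eq_mul_right (by norm_num) hc
    have ex : ∀ p ∈ ({2, 3, 11, 37, 67} : Finset ℕ), ∃ j : Fin 4, ∃ x ∈ N, orderOf x = p ∧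
        x ∈ Dc io (wr j) := fun p hp => by
      have hp' : p.Prime ∧ p ∣ 8835156 := by
        simp only [Finset.mem_insert, Finset.mem_singleton] at hp
        rcases hp with rfl | rfl | rfl | rfl | rfl <;> norm_num
      have := Fact.mk hp'.1
      obtain ⟨x, hx⟩ := exists_prime_orderOf_dvd_card' (G := N) p (hc ▸ hp'.2)
      rw [← Subgroup.orderOf_coe] at hx
      rcases (DU_eq ▸ Set.mem_univ (x : Cfsg.Spor.Ly) : (x : Cfsg.Spor.Ly) ∈ DU) with
        e | e | e | e | e
      · rw [Subgroup.disjoint_def.mp hd x.2 (Dc0 ▸ e : (x : Cfsg.Spor.Ly) ∈ (io.range : Set _)),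
          orderOf_one] at hx
        exact absurd hx.symm hp'.1.ne_one
      exacts [⟨0, x, x.2, hx, e⟩, ⟨1, x, x.2, hx, e⟩, ⟨2, x, x.2, hx, e⟩, ⟨3, x, x.2, hx, e⟩]
    choose! f hf using ex
    obtain ⟨p, hp, q, hq, hne, e⟩ := Finset.exists_ne_map_eq_of_card_lt_of_maps_to
      (s := ({2, 3, 11, 37, 67} : Finset ℕ)) (t := Finset.univ) (f := f) (by decide)
      fun _ _ => Finset.mem_univ _
    obtain ⟨x, hx, rfl, a, b, e1⟩ := hf p hp
    obtain ⟨y, hy, rfl, c, d, e2⟩ := hf q hq
    rw [← e] at e2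
    have e3 : y = io (c * a⁻¹) * x * (io (c * a⁻¹))⁻¹ * io (c * a⁻¹ * b⁻¹ * d) := by
      rw [e2]; nth_rewrite 2 [e1]; simp [mul_assoc]
    have e4 : io (c * a⁻¹ * b⁻¹ * d) = 1 := Subgroup.disjoint_def.mp hd (by
      rw [eq_inv_mul_iff_mul_eq.mpr e3.symm]
      exact N.mul_mem (N.inv_mem (hN.conj_mem _ hx _)) hy) ⟨_, rfl⟩
    rw [e4, mul_one] at e3
    exact hne (by rw [e3, ← MulAut.conj_apply, MulEquiv.orderOf_eq])
  · have h1 : ∀ a, io a ∈ N := fun a => (h ▸ Subgroup.mem_top a : a ∈ N.comap io)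
    refine Or.inr (eq_top_of h1 ?_)
    have q : ∀ a, QuotientGroup.mk' N (io a) = 1 := fun a => (QuotientGroup.eq_one_iff _).mpr (h1 a)
    have q2 : QuotientGroup.mk' N z * QuotientGroup.mk' N z = 1 := by rw [← map_mul, zzi, q]
    have q3 := congrArg (QuotientGroup.mk' N) (pres.sat [28, 20, 28, 20, 28, 20, 30] (by decide +kernel))
    have q4 : QuotientGroup.mk' N (s 28) = 1 := by
      rw [s_FS 28 (by norm_num), ← io_ev (by decide), q]
    simp only [ev_cons, ev_nil, map_mul, q4, one_mul, mul_one, map_one, ← zz] at q3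
    rw [q2, mul_one, ← z, q2, mul_one] at q3
    exact (QuotientGroup.eq_one_iff _).mp q3

end Cfsg.Agent.Comp.Ly
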