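import Cfsg.Agent.Comp.Ly.CA
import Cfsg.Agent.Comp.Ly.CM
import Cfsg.Agent.Comp.A11.Iso
import Cfsg.Agent.Comp.G25.Iso
import Cfsg.Agent.Comp.Sign
import Cfsg.Agent.H2.SchurAlt
import Cfsg.Agent.S2047
import Cfsg.Agent.S2100

set_option autoImplicit false
set_option maxRecDepth 100000

namespace Cfsg.Agent.Comp.Ly
open Cfsg.Agent.Comp Cfsg.Agent.H2.Schur

theorem ev_flatten {A : Type*} [Group A] {v : ℕ → A} {U : List (List ℕ)} (h : Sat v U) :
    ev v U.flatten = 1 := by
  induction U with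
  | nil => rfl
  | cons w U ih => rw [List.flatten_cons, ev_append, h w (by simp), ih fun u hu => h u (by simp [hu]), mul_one]

theorem mem_comm {H : Type*} [Group H] {C : Subgroup H} {t : ℕ → H} {L x : ℕ} (hC : C = gen t L)
    {R U V : List (List ℕ)} (ht : Sat t R) (hR : ∀ w ∈ R, ∀ y ∈ w, y < L)
    (h : ((∀ w ∈ U, w ∈ R) ∧ ∀ w ∈ V, w ∈ R) ∧ x < L ∧ U.flatten.Perm (x :: V.flatten)) {g : C}
    (hg : g.1 ∈ Subgroup.zpowers (t x)) : g ∈ commutator C := by
  have hv : ∀ z < L, ∃ g, C.subtype g = t z := fun z hz => ⟨⟨_, hC ▸ letter_mem_gen hz⟩, rfl⟩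
  have h1 := (sat_liftS C.subtype_injective hv hR ht).map Abelianization.of
  have h2 := (h.2.2.map fun y => Abelianization.of (liftS C.subtype t y)).prod_eq
  have h3 := ev_flatten (h1.mono h.1.1)
  have h4 := ev_flatten (h1.mono h.1.2)
  rw [ev] at h3 h4
  rw [h3, List.map_cons, List.prod_cons, h4, mul_one] at h2
  obtain ⟨k, hk⟩ := hg
  have : g = liftS C.subtype t x ^ k := Subtype.ext (by
    rw [← hk, ← liftS_val (hv x h.2.1)]; simp)
  rw [this, ← Abelianization.ker_of, MonoidHom.mem_ker, map_zpow, ← h2, one_zpow]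

theorem mult_one {C Q : Type} [Group C] [Group Q] [Finite C] [IsSimpleGroup Q] {p : ℕ}
    (e : Q ≃* C ⧸ Subgroup.center C) (hQ : ¬ (Nat.card Q).Prime)
    (h1 : Nat.card (Subgroup.center C) = p) (h2 : Subgroup.center C ≤ commutator C)
    (h3 : Nat.card (Mult Q) = p) : Nat.card (Mult C) = 1 := by
  have := e.symm.isSimpleGroup
  have : Finite Q := Finite.of_equiv _ e.symm.toEquiv
  have : Group.IsPerfect (C ⧸ Subgroup.center C) :=
    ⟨commutator_eq_top_of_simple (Nat.card_congr e.toEquiv ▸ hQ)⟩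
  have := perfect_of_stem (ξ := QuotientGroup.mk' (Subgroup.center C))
    ⟨cext_center.1, cext_center.2, (QuotientGroup.ker_mk' _).le.trans h2⟩
  have h := card_mult_of_perfect (X := C) cext_center
  rw [← card_mult_congr e, h3, QuotientGroup.ker_mk', h1] at h
  have : 0 < p := h1 ▸ Nat.card_pos
  exact (Nat.eq_of_mul_eq_mul_left this (by rw [← h, mul_one])).symm

theorem cen_index {C Q : Type} [Group C] [Group Q] (e : Q ≃* C ⧸ Subgroup.center C) :
    Nat.card C = Nat.card Q * Nat.card (Subgroup.center C) := by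
  rw [Nat.card_congr e.toEquiv, ← Subgroup.card_eq_card_quotient_mul_card_subgroup]

theorem cardCA : Nat.card (Subgroup.centralizer ({CAu 18} : Set Cfsg.Spor.Ly)) = 39916800 := by
  obtain ⟨-, h, -, ⟨e⟩⟩ := CAcen
  rw [cen_index e, h, A11.card.2.1]

theorem cardCM : Nat.card (Subgroup.centralizer ({CMu 12} : Set Cfsg.Spor.Ly)) = 2694384000 := by
  obtain ⟨-, h, -, ⟨e⟩⟩ := CMcen
  rw [cen_index e, h, SchurG.McL.card.2.1]

theorem multA : Nat.card (Mult (Subgroup.centralizer ({CAu 18} : Set Cfsg.Spor.Ly))) = 1 := by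
  obtain ⟨h0, h, h', ⟨e⟩⟩ := CAcen
  obtain ⟨f⟩ := A11.iso
  have := A11.simple
  have := A11.card.1
  refine mult_one e (by rw [A11.card.2.1]; norm_num) h (fun g hg => mem_comm h0
    (R := [18, 18] :: CAR) (U := [[0, 2, 0, 2, 18], [0, 2, 0, 2, 18], [0, 2, 0, 2, 18]])
    (V := [[0, 0, 0], [0, 0, 0], [2, 2, 2], [2, 2, 2], [18, 18]])
    (List.forall_mem_cons.mpr ⟨by simpa [pow_succ] using CAp, CAsatu⟩) (by decide +kernel)
    (by decide +kernel) ((h' g).mp hg)) ?_
  rw [card_mult_congr f, card_mult_alt] <;> simp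

theorem multM : Nat.card (Mult (Subgroup.centralizer ({CMu 12} : Set Cfsg.Spor.Ly))) = 1 := by
  obtain ⟨h0, h, h', ⟨e⟩⟩ := CMcen
  obtain ⟨f⟩ := SchurG.McL.exists_iso
  have := SchurG.McL.simple
  have := SchurG.McL.card.1
  refine mult_one e (by rw [SchurG.McL.card.2.1]; norm_num) h (fun g hg => mem_comm h0
    (R := [12, 12, 12] :: CMR) (U := [[4, 4], [5, 5], [6, 6], [12, 12, 12]])
    (V := [[4, 5, 6, 4, 5, 6, 12, 12]])
    (List.forall_mem_cons.mpr ⟨by simpa [pow_succ, mul_assoc] using CMp, CMsatu⟩) (by decide +kernel)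
    (by decide +kernel) ((h' g).mp hg)) ?_
  rw [card_mult_congr f, card_mult_of_has S2047.result]; simp

theorem multH : Nat.card (Mult io.range) = 1 := by
  obtain ⟨f⟩ := G25.iso (F := ZMod 5) (by simp)
  have := G25.card.1
  rw [← card_mult_congr (MonoidHom.ofInjective io_inj), card_mult_congr f,
    card_mult_of_has (S2100.result (by simp))]; simp

theorem mult : HasCyclicSchurMultiplier Cfsg.Spor.Ly 1 := by
  refine has_of_card_mult_one (card_mult_dvd_of_local fun p hp => ?_)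
  have := Fact.mk hp
  have key : ∀ (U : Subgroup Cfsg.Spor.Ly) {n m : ℕ}, Nat.card U = n → m * n = 8835156 * 5859000000 →
      0 < n → U.index = m := fun U n m h1 h2 h3 => by
    have := U.index_mul_card
    rw [card, h1, ← h2] at this
    exact Nat.eq_of_mul_eq_mul_right h3 this
  by_cases c2 : p = 2
  · exact ⟨_, by rw [key _ (m := 1296826875) cardCA (by norm_num) (by norm_num), c2]; norm_num, multA.dvd⟩
  by_cases c3 : p = 3
  · exact ⟨_, by rw [key _ (m := 19212250) cardCM (by norm_num) (by norm_num), c3]; norm_num, multM.dvd⟩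
  by_cases c5 : p = 5
  · exact ⟨_, by rw [index, c5]; norm_num, multH.dvd⟩
  obtain ⟨P⟩ : Nonempty (Sylow p Cfsg.Spor.Ly) := inferInstance
  refine ⟨P, P.not_dvd_index, (card_mult_sylow_one P fun h => ?_).dvd⟩
  rw [card, show 8835156 * 5859000000 = 30 ^ 6 * (12 * 7 * 11 * 31 * 37 * 67) by norm_num] at h
  have h30 : p.Coprime 30 := by
    rw [show 30 = 2 * 3 * 5 by norm_num]
    exact Nat.Coprime.mul_right (Nat.Coprime.mul_right ((Nat.coprime_primes hp (by norm_num)).mpr c2)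
      ((Nat.coprime_primes hp (by norm_num)).mpr c3)) ((Nat.coprime_primes hp (by norm_num)).mpr c5)
  have h1 := (Nat.Coprime.pow 2 6 h30).dvd_of_dvd_mul_left h
  have h2 : p ^ 2 ∣ 30 ^ 2 * (7 * 11 * 31 * 37 * 67) := h1.trans (by norm_num)
  have h3 := (Nat.Coprime.pow 2 2 h30).dvd_of_dvd_mul_left h2
  exact hp.one_lt.ne' (Nat.isUnit_iff.mp ((by decide +kernel : Squarefree (7 * 11 * 31 * 37 * 67)) p
    (pow_two p ▸ h3)))

end Cfsg.Agent.Comp.Ly
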