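import Cfsg.Agent.Comp.Ly.Mult
import Cfsg.Agent.Comp.Ly.Fus
import Cfsg.Agent.S2119
import Cfsg.Agent.S2073

set_option autoImplicit false
set_option maxRecDepth 100000

namespace Cfsg.Agent.Comp.Ly
open Cfsg.Agent.Comp Cfsg.Agent.H2.Schur Subgroup Equiv

section general
variable {G C Q : Type*} [Group G] [Group C] [Group Q]

/-- the restriction of an automorphism to an invariant subgroup -/
def resA (α : MulAut G) (K : Subgroup G) (h : ∀ g, g ∈ K ↔ α g ∈ K) : MulAut K :=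
  { α.toEquiv.subtypeEquiv h with map_mul' := fun a b => Subtype.ext (map_mul α a.1 b.1) }

theorem cen_iff {α : MulAut G} {t u : G} (h : α t = u) (h' : centralizer ({u} : Set G) = centralizer {t})
    (g : G) : g ∈ centralizer ({t} : Set G) ↔ α g ∈ centralizer ({t} : Set G) := by
  refine Iff.trans ?_ (SetLike.ext_iff.mp h' _)
  rw [mem_centralizer_singleton_iff, mem_centralizer_singleton_iff, ← h, ← map_mul,
    ← map_mul, α.apply_eq_iff_eq]

theorem exists_ind {π : C →* Q} (hs : Function.Surjective π) (hk : π.ker = center C) (β : MulAut C) :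
    ∃ γ : MulAut Q, ∀ g, π (β g) = γ (π g) := by
  have h : ∀ β : MulAut C, π.ker ≤ (π.comp β.toMonoidHom).ker := fun β g hg => by
    rw [hk] at hg
    exact (show β g ∈ π.ker from hk ▸ MulEquivClass.apply_mem_center β hg)
  have e : ∀ (β : MulAut C) g, π.liftOfSurjective hs ⟨_, h β⟩ (π g) = π (β g) := fun β g =>
    π.liftOfRightInverse_comp_apply _ _ _ g
  refine ⟨MonoidHom.toMulEquiv (π.liftOfSurjective hs ⟨_, h β⟩) (π.liftOfSurjective hs ⟨_, h β⁻¹⟩)
    (MonoidHom.ext fun q => ?_) (MonoidHom.ext fun q => ?_), fun g => (e β g).symm⟩ <;>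
  · obtain ⟨g, rfl⟩ := hs q
    simp [e]

theorem inner_of_fix [Group.IsPerfect C] {π : C →* Q} (hs : Function.Surjective π) (hk : π.ker = center C)
    (h2 : Nat.card (Out Q) = 2) {x : C} (hx : x ∈ center C) {ν β : MulAut C} (hν : ν x ≠ x)
    (hβ : β x = x) : ∃ m, ∀ g, β g = m * g * m⁻¹ := by
  have H : ∀ (β : MulAut C) (γ : MulAut Q), (∀ g, π (β g) = γ (π g)) → (γ : Out Q) = 1 →
      ∃ m, ∀ g, β g = m * g * m⁻¹ := fun β γ h h' => by
    obtain ⟨q, rfl⟩ := (QuotientGroup.eq_one_iff _).mp h'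
    obtain ⟨m, rfl⟩ := hs q
    exact ⟨m, DFunLike.congr_fun (hom_eq_of_perfect hk.le (η := β.toMonoidHom)
      (η' := (MulAut.conj m).toMonoidHom) (MonoidHom.ext fun g => by simp [h]))⟩
  have F : ∀ m : C, m * x * m⁻¹ = x := fun m => by rw [mem_center_iff.mp hx m, mul_inv_cancel_right]
  obtain ⟨γ, hγ⟩ := exists_ind hs hk β
  obtain ⟨δ, hδ⟩ := exists_ind hs hk ν
  by_contra c
  obtain ⟨y, -, hy⟩ := (Nat.card_eq_two_iff' (1 : Out Q)).mp h2
  have e1 := hy γ fun e => c (H β γ hγ e)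
  have e2 := hy δ fun e => let ⟨m, hm⟩ := H ν δ hδ e; hν ((hm x).trans (F m))
  obtain ⟨m, hm⟩ := H (β⁻¹ * ν) (γ⁻¹ * δ) (fun g => by
    rw [MulAut.mul_apply, MulAut.mul_apply, ← hδ, eq_comm, MulAut.inv_apply, MulEquiv.symm_apply_eq, ← hγ]
    simp) (by rw [QuotientGroup.mk_mul, QuotientGroup.mk_inv, e1, e2, inv_mul_cancel])
  have := (hm x).trans (F m)
  rw [MulAut.mul_apply, MulAut.inv_apply, MulEquiv.symm_apply_eq, hβ] at this
  exact hν this

theorem inn_of {α : MulAut G} (g : G) (h : MulAut.conj g * α ∈ Inn G) : α ∈ Inn G :=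
  (mul_mem_cancel_left (show MulAut.conj g ∈ Inn G from ⟨g, rfl⟩)).mp h

theorem perf_of [Finite C] [IsSimpleGroup Q] (e : Q ≃* C ⧸ center C) (hQ : ¬ (Nat.card Q).Prime)
    (h2 : center C ≤ commutator C) : Group.IsPerfect C := by
  have := e.symm.isSimpleGroup
  have : Group.IsPerfect (C ⧸ center C) :=
    ⟨commutator_eq_top_of_simple (Nat.card_congr e.toEquiv ▸ hQ)⟩
  exact perfect_of_stem (ξ := QuotientGroup.mk' (center C))
    ⟨cext_center.1, cext_center.2, (QuotientGroup.ker_mk' _).le.trans h2⟩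

end general

/-- the centraliser of the involution -/
abbrev CT : Subgroup Cfsg.Spor.Ly := centralizer {CAu 18}

/-- the centraliser of the element of order three -/
abbrev CX : Subgroup Cfsg.Spor.Ly := centralizer {CAu 0}

theorem CA0 : CAu 0 = CMu 12 := (rho_inj (by
  rw [CAu, liftS_val (CAin _ (by norm_num)), rho_ev (by decide), ← ev_shift CAold (by decide)]
  exact (ev_single _ _).symm.trans (CAeqsD ([0], [21, 20, 22, 19]) (by decide +kernel)))).trans CMc.symm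

theorem perfT : Group.IsPerfect CT := by
  obtain ⟨h0, -, h', ⟨e⟩⟩ := CAcen
  have := A11.simple
  exact perf_of e (by rw [A11.card.2.1]; norm_num) fun g hg => mem_comm h0
    (R := [18, 18] :: CAR) (U := [[0, 2, 0, 2, 18], [0, 2, 0, 2, 18], [0, 2, 0, 2, 18]])
    (V := [[0, 0, 0], [0, 0, 0], [2, 2, 2], [2, 2, 2], [18, 18]])
    (List.forall_mem_cons.mpr ⟨by simpa [pow_succ] using CAp, CAsatu⟩) (by decide +kernel)
    (by decide +kernel) ((h' g).mp hg)

theorem perfX : Group.IsPerfect CX := by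
  rw [CX, CA0]
  obtain ⟨h0, -, h', ⟨e⟩⟩ := CMcen
  have := SchurG.McL.simple
  exact perf_of e (by rw [SchurG.McL.card.2.1]; norm_num) fun g hg => mem_comm h0
    (R := [12, 12, 12] :: CMR) (U := [[4, 4], [5, 5], [6, 6], [12, 12, 12]])
    (V := [[4, 5, 6, 4, 5, 6, 12, 12]])
    (List.forall_mem_cons.mpr ⟨by simpa [pow_succ, mul_assoc] using CMp, CMsatu⟩) (by decide +kernel)
    (by decide +kernel) ((h' g).mp hg)

theorem exists_piX : ∃ π : CX →* Cfsg.Spor.McL, Function.Surjective π ∧ π.ker = center CX := by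
  rw [CX, CA0]
  obtain ⟨-, -, -, ⟨e⟩⟩ := CMcen
  obtain ⟨f⟩ := SchurG.McL.exists_iso
  refine ⟨(e.symm.trans f).toMonoidHom.comp (QuotientGroup.mk' _),
    (e.symm.trans f).surjective.comp (QuotientGroup.mk'_surjective _), ?_⟩
  ext g
  simp

theorem xT : CAu 0 ∈ CT := CAcen.1.ge (letter_mem_gen (by norm_num))

theorem x3 : CAu 0 ^ 3 = 1 := CA0 ▸ CMp

theorem exists_piT : ∃ π : CT →* alternatingGroup (Fin 11), Function.Surjective π ∧ π.ker = center CT ∧
    (π ⟨_, xT⟩).1 = A11.cy 0 := by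
  have := A11.simple
  have := A11.card.1
  have hi := CT.subtype_injective
  have hv : ∀ z < 18 + 1, ∃ g, CT.subtype g = CAu z := fun z hz => ⟨⟨_, CAcen.1.ge (letter_mem_gen hz)⟩, rfl⟩
  have hv' : ∀ z < 18 + 1, (liftS CT.subtype CAu z).1 = CAu z := fun z hz => liftS_val (hv z hz)
  obtain ⟨-, e, he⟩ := A11.pres.central A11.hR
    (gen_liftS_top hi (CAcen.1.symm.trans (range_subtype _).symm))
    ((CAcen.2.2.1 _).mpr (by rw [hv' 18 (by norm_num)]; exact mem_zpowers _))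
    (sat_liftS hi hv (by decide +kernel) CAsatu) (by decide +kernel) (by decide +kernel)
    ⟨_, _, fun c => CAnc (by
      rw [← hv' 2 (by omega), ← hv' 0 (by omega)]; exact congrArg Subtype.val c)⟩
  obtain ⟨f0⟩ := A11.iso
  obtain ⟨f, hf⟩ := A11.pres.equiv_of_card A11.hR _
    (sat_liftS (subtype_injective _) A11.cy_mem A11.hR A11.satC) (x := 0) (by norm_num) (fun c => by
      have h := liftS_val (A11.cy_mem 0 (by norm_num))
      rw [c, map_one] at h
      exact absurd h (by decide)) (Nat.card_congr f0.toEquiv)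
  refine ⟨(e.symm.trans f).toMonoidHom.comp (QuotientGroup.mk' _),
    (e.symm.trans f).surjective.comp (QuotientGroup.mk'_surjective _), by ext g; simp, ?_⟩
  rw [show (⟨_, xT⟩ : CT) = liftS CT.subtype CAu 0 from Subtype.ext (hv' 0 (by norm_num)).symm]
  show (f (e.symm (QuotientGroup.mk _))).1 = _
  rw [← he 0 (by norm_num), e.symm_apply_apply, hf 0 (by norm_num)]
  exact liftS_val (A11.cy_mem 0 (by norm_num))

theorem lift3 {π : CT →* alternatingGroup (Fin 11)} (hk : π.ker = center CT) {a b : CT} (h : π a = π b)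
    (ha : a.1 ^ 3 = 1) (hb : b.1 ^ 3 = 1) : a.1 = b.1 := by
  obtain ⟨k, hz, -, rfl⟩ := exists_central_of_map_eq hk.le h
  obtain ⟨j, hj⟩ := (CAcen.2.2.1 k).mp hz
  have h1 : Commute a.1 k.1 := congrArg Subtype.val (mem_center_iff.mp hz a)
  have h2 : k.1 ^ 2 = 1 := by
    rw [← hj, ← zpow_natCast, ← zpow_mul, mul_comm, zpow_mul, zpow_natCast, CAp, one_zpow]
  rw [coe_mul, h1.mul_pow, ha, one_mul, pow_succ, h2, one_mul] at hb
  rw [coe_mul, hb, mul_one]

theorem eqH {v w : List ℕ} (h : (G25.eqS [(G25.TL, v)] [(G25.TL, w)] && ltB 20 v && ltB 20 w) = true) :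
    ev s v = ev s w := by
  simp only [Bool.and_eq_true] at h
  have := G25.eqS_spec h.1.1
  simp only [G25.val, mul_one] at this
  rw [← io_ev h.1.2, ← io_ev h.2, ← G25.sv_TL (ltB_spec h.1.2), ← G25.sv_TL (ltB_spec h.2), this]

theorem out5 {α : MulAut Cfsg.Spor.Ly} (h1 : ∀ g ∈ CT, α g = g) (h2 : ∀ g ∈ CX, α g = g) : α = 1 := by
  let M := α.toMonoidHom.eqLocus (MonoidHom.id _)
  have e1 : ∀ w, (G25.eqS [(G25.TL, w ++ [0, 0, 0, 0])] [(G25.TL, [0, 0, 0, 0] ++ w)] &&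
      ltB 20 (w ++ [0, 0, 0, 0]) && ltB 20 ([0, 0, 0, 0] ++ w)) = true → ev s w ∈ M := fun w h =>
    h1 _ (mem_centralizer_singleton_iff.mpr (by rw [CAc, ← ev_append, ← ev_append]; exact eqH h))
  have e2 : ev s [4, 14] ∈ M := h2 _ (mem_centralizer_singleton_iff.mpr (by
    rw [CA0, CMc, ← ev_append, ← ev_append]; exact eqH (by decide +kernel)))
  have e3 : ev s [15, 5] ∈ M := by
    rw [eq_inv_of_mul_eq_one_left (show ev s [15, 5] * ev s [4, 14] = 1 by
      rw [← ev_append]; exact eqH (w := []) (by decide +kernel))]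
    exact inv_mem e2
  have e4 : ev s [4] ∈ M := by
    rw [eqH (v := [4]) (w := [0] ++ ([4, 14] ++ ([3] ++ ([15, 5] ++ ([2, 1] ++ [4, 14]))))) (by decide +kernel)]
    simp only [ev_append]
    exact mul_mem (e1 _ (by decide +kernel)) (mul_mem e2 (mul_mem (e1 _ (by decide +kernel))
      (mul_mem e3 (mul_mem (e1 _ (by decide +kernel)) e2))))
  have := eq_top_of (M := M) (fun a => (range_eq.le.trans (genW_le.mpr (by
    simp only [List.forall_mem_cons]
    exact ⟨e1 _ (by decide +kernel), e1 _ (by decide +kernel), e4, e1 _ (by decide +kernel), nofun⟩))) ⟨a, rfl⟩)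
    (h1 _ (mem_centralizer_singleton_iff.mpr (by
      rw [CAc, show [0, 0, 0, 0] = [0, 0] ++ [0, 0] from rfl, ev_append, ← io_ev (by decide), ← zzi]; group)))
  exact MulEquiv.ext fun g => show g ∈ M from this ▸ mem_top g

theorem cy_cen {σ : Perm (Fin 11)} (h : ∀ a ∈ alternatingGroup (Fin 11), a * A11.cy 0 = A11.cy 0 * a →
    σ * a = a * σ) : ∃ k : ℕ, σ = A11.cy 0 ^ k := by
  have c : ∀ i j k : Fin 11, i ≠ j → j ≠ k → swap i j * swap j k * A11.cy 0 = A11.cy 0 * (swap i j * swap j k) →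
      ∀ v, (swap i j * swap j k) v ≠ v → (swap i j * swap j k) (σ v) ≠ σ v := fun i j k h1 h2 h3 v hv e =>
    hv (σ.injective ((congrArg (· v) (h _ (by
      rw [Perm.mem_alternatingGroup, map_mul, Perm.sign_swap h1, Perm.sign_swap h2]; rfl) h3)).trans e))
  have h0 := h (A11.cy 0) (let ⟨g, hg⟩ := A11.cy_mem 0 (by norm_num); hg ▸ g.2) rfl
  have d : ∀ i : Fin 11, i = 0 ∨ i = 9 ∨ i = 10 ∨ ∃ j k l m : Fin 11, (i ≠ j ∧ j ≠ k ∧ i ≠ l ∧ l ≠ m) ∧
      (swap i j * swap j k * A11.cy 0 = A11.cy 0 * (swap i j * swap j k) ∧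
      swap i l * swap l m * A11.cy 0 = A11.cy 0 * (swap i l * swap l m)) ∧
      ∀ v, (swap i j * swap j k) v ≠ v ∧ (swap i l * swap l m) v ≠ v ↔ v = i := fun i => by
    fin_cases i
    exacts [by simp, .inr (.inr (.inr ⟨2, 3, 4, 5, by decide⟩)), .inr (.inr (.inr ⟨1, 3, 4, 5, by decide⟩)),
      .inr (.inr (.inr ⟨1, 2, 4, 5, by decide⟩)), .inr (.inr (.inr ⟨1, 2, 3, 5, by decide⟩)),
      .inr (.inr (.inr ⟨1, 2, 3, 4, by decide⟩)), .inr (.inr (.inr ⟨1, 2, 3, 4, by decide⟩)),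
      .inr (.inr (.inr ⟨1, 2, 3, 4, by decide⟩)), .inr (.inr (.inr ⟨1, 2, 3, 4, by decide⟩)), by simp, by simp]
  obtain ⟨k, hk⟩ : ∃ k < 3, σ 0 = (A11.cy 0 ^ k) 0 :=
    (by decide : ∀ v, (swap 0 9 * swap 9 10 : Perm (Fin 11)) v ≠ v → ∃ k < 3, v = (A11.cy 0 ^ k) 0) _
      (c 0 9 10 (by decide) (by decide) rfl 0 (by decide))
  have h1 : ∀ v, σ v = (A11.cy 0 ^ k) v → σ (A11.cy 0 v) = (A11.cy 0 ^ k) (A11.cy 0 v) := fun v hv => by
    rw [← Perm.mul_apply, h0, Perm.mul_apply, hv, ← Perm.mul_apply, ← pow_succ', pow_succ, Perm.mul_apply]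
  refine ⟨k, Equiv.ext fun i => ?_⟩
  have h9 := h1 _ hk.2
  by_cases e : i = 0 ∨ i = 9 ∨ i = 10
  · rcases e with rfl | rfl | rfl
    exacts [hk.2, h9, h1 _ h9]
  · obtain ⟨j, k', l, m, h2, h3, h4⟩ := (((d i).resolve_left fun c => e (.inl c)).resolve_left
      fun c => e (.inr (.inl c))).resolve_left fun c => e (.inr (.inr c))
    have := (h4 i).mpr rfl
    rw [(h4 _).mp ⟨c _ _ _ h2.1 h2.2.1 h3.1 i this.1, c _ _ _ h2.2.2.1 h2.2.2.2 h3.2 i this.2⟩]
    exact ((by decide : ∀ k < 3, ∀ i : Fin 11, ¬ (i = 0 ∨ i = 9 ∨ i = 10) → i = (A11.cy 0 ^ k) i) k hk.1 i e)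

theorem tX : CAu 18 ∈ CX := mem_centralizer_singleton_iff.mpr (mem_centralizer_singleton_iff.mp xT).symm

theorem exists_sigma {π : CT →* alternatingGroup (Fin 11)} (hs : Function.Surjective π) (hk : π.ker = center CT)
    {α : MulAut Cfsg.Spor.Ly} (h : α (CAu 18) = CAu 18) : ∃ σ : Perm (Fin 11), ∀ g : CT,
      (π ⟨α g, (cen_iff h rfl _).mp g.2⟩).1 = σ * π g * σ⁻¹ := by
  obtain ⟨γ, hγ⟩ := exists_ind hs hk (resA α CT (cen_iff h rfl))
  obtain ⟨σ, rfl⟩ := (S2119.result 11 (by norm_num) (by norm_num)).2 γ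
  exact ⟨σ, fun g => congrArg Subtype.val (hγ g)⟩

theorem out4 {α : MulAut Cfsg.Spor.Ly} (h : ∀ g ∈ CX, α g = g) : α ∈ Inn Cfsg.Spor.Ly := by
  obtain ⟨π, hs, hk, hx⟩ := exists_piT
  obtain ⟨σ, hσ⟩ := exists_sigma hs hk (h _ tX)
  obtain ⟨k, rfl⟩ := cy_cen (σ := σ) fun a ha e => by
    obtain ⟨g, hg⟩ := hs ⟨a, ha⟩
    have h1 := lift3 hk (a := g * ⟨_, xT⟩ * g⁻¹) (b := ⟨_, xT⟩) (Subtype.ext (by
      simp only [map_mul, map_inv, hg, coe_mul, coe_inv, hx, e, mul_inv_cancel_right]))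
      (by rw [coe_mul, coe_mul, coe_inv, conj_pow, x3, mul_one, mul_inv_cancel]) x3
    have h2 := hσ g
    rw [show (⟨α g, _⟩ : CT) = g from Subtype.ext
      (h _ (mem_centralizer_singleton_iff.mpr (mul_inv_eq_iff_eq_mul.mp h1))), hg] at h2
    exact (eq_mul_inv_iff_mul_eq.mp h2).symm
  have := perfT
  have e := hom_eq_of_perfect hk.le (η := (resA α CT (cen_iff (h _ tX) rfl)).toMonoidHom)
    (η' := (MulAut.conj (⟨_, xT⟩ ^ k)).toMonoidHom) (MonoidHom.ext fun g => Subtype.ext (by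
      refine (hσ g).trans ?_
      show _ = (π (⟨_, xT⟩ ^ k * g * (⟨_, xT⟩ ^ k)⁻¹)).1
      rw [map_mul, map_mul, map_inv, map_pow, coe_mul, coe_mul, coe_inv, coe_pow, hx]))
  refine inn_of (CAu 0 ^ k)⁻¹ ((congrArg (· ∈ Inn _) (out5 (fun g hg => ?_) fun g hg => ?_)).mpr (one_mem _))
  · have := congrArg Subtype.val (DFunLike.congr_fun e ⟨g, hg⟩)
    rw [MulAut.mul_apply, show α g = CAu 0 ^ k * g * (CAu 0 ^ k)⁻¹ from this, MulAut.conj_apply]
    group
  · rw [MulAut.mul_apply, h g hg, MulAut.conj_apply, inv_inv, mul_assoc,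
      (show Commute g (CAu 0) from mem_centralizer_singleton_iff.mp hg).pow_right, inv_mul_cancel_left]

theorem cy3 : (A11.cy 0).IsThreeCycle := by
  rw [show A11.cy 0 = swap 9 0 * swap 9 10 by decide]
  exact Perm.isThreeCycle_swap_mul_swap_same (by decide) (by decide) (by decide)

theorem conj3 {π : CT →* alternatingGroup (Fin 11)} (hs : Function.Surjective π) (hk : π.ker = center CT)
    (hx : (π ⟨_, xT⟩).1 = A11.cy 0) {y : CT} (h : (π y).1.IsThreeCycle) (h3 : y.1 ^ 3 = 1) :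
    ∃ g ∈ CT, g * y * g⁻¹ = CAu 0 := by
  obtain ⟨c, hc⟩ := isConj_iff.mp (alternatingGroup.isThreeCycle_isConj (by simp) h (τ := π ⟨_, xT⟩)
    (hx ▸ cy3))
  obtain ⟨g, rfl⟩ := hs c
  exact ⟨g, g.2, lift3 hk (a := g * y * g⁻¹) (b := ⟨_, xT⟩) (by rw [map_mul, map_mul, map_inv, hc])
    (by rw [coe_mul, coe_mul, coe_inv, conj_pow, h3, mul_one, mul_inv_cancel]) x3⟩

theorem out3 {α : MulAut Cfsg.Spor.Ly} (ht : α (CAu 18) = CAu 18) (h : α (CAu 0) = CAu 0) :
    α ∈ Inn Cfsg.Spor.Ly := by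
  obtain ⟨π, hs, hk, hx⟩ := exists_piT
  obtain ⟨n, -, hn⟩ := conj3 hs hk hx (y := ⟨_, xT⟩⁻¹) (by rw [map_inv, coe_inv, hx]; exact cy3.inv)
    (by rw [coe_inv, inv_pow, x3, inv_one])
  have hn' : MulAut.conj n (CAu 0) = (CAu 0)⁻¹ := by
    rw [eq_inv_iff_mul_eq_one]
    nth_rewrite 2 [← hn]
    simp
  obtain ⟨π', hs', hk'⟩ := exists_piX
  have := perfX
  obtain ⟨m, hm⟩ := inner_of_fix hs' hk' S2073.result (x := ⟨_, mem_centralizer_singleton_iff.mpr rfl⟩)
    (mem_center_iff.mpr fun g => Subtype.ext (mem_centralizer_singleton_iff.mp g.2))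
    (ν := resA _ CX (cen_iff hn' (by
      ext g
      rw [mem_centralizer_singleton_iff, mem_centralizer_singleton_iff]
      exact Commute.inv_right_iff))) (β := resA α CX (cen_iff h rfl)) (fun c => by
      have h1 := hn'.symm.trans (congrArg Subtype.val c)
      have h2 := x3
      rw [pow_succ, pow_two, ← inv_eq_iff_mul_eq_one.mp h1, mul_eq_left] at h2
      exact CMne (CA0 ▸ h2)) (Subtype.ext h)
  refine inn_of m.1⁻¹ (out4 fun g hg => ?_)
  rw [MulAut.mul_apply, show α g = _ from congrArg Subtype.val (hm ⟨g, hg⟩)]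
  simp [mul_assoc]

theorem out2 {α : MulAut Cfsg.Spor.Ly} (ht : α (CAu 18) = CAu 18) : α ∈ Inn Cfsg.Spor.Ly := by
  obtain ⟨π, hs, hk, hx⟩ := exists_piT
  obtain ⟨σ, hσ⟩ := exists_sigma hs hk ht
  obtain ⟨g, hg, e⟩ := conj3 hs hk hx (y := ⟨α (CAu 0), (cen_iff ht rfl _).mp xT⟩) (by
    rw [hσ ⟨_, xT⟩, hx, Perm.IsThreeCycle, Perm.cycleType_conj]; exact cy3) (by rw [← map_pow, x3, map_one])
  refine inn_of g (out3 ?_ e)
  rw [MulAut.mul_apply, ht, MulAut.conj_apply, mem_centralizer_singleton_iff.mp hg, mul_inv_cancel_right]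

theorem syl : ∃ S : Sylow 2 Cfsg.Spor.Ly, CAu 18 ∈ S ∧ ∀ g ∈ S, g * CAu 18 = CAu 18 * g ∧
    ((∀ u ∈ S, u * g = g * u) → g = 1 ∨ g = CAu 18) := by
  obtain ⟨φ, hφ⟩ := exists_phiS
  have hz : φ (ev (Core.El.l DS) [0, 0]) = CAu 18 := (hφ _ (by decide)).trans FSt
  have hZ : ∀ x : Core.El DS, (∀ s, s * x = x * s) → x = 1 ∨ x = ev (Core.El.l DS) [0, 0] :=
    fun x h => cenS x (h _) (h _) (h _)
  have hc : Nat.card (Core.El DS) = 2 ^ 8 := Core.El.card_El
  have hi : Function.Injective φ := by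
    rw [← MonoidHom.ker_eq_bot_iff]
    by_contra c
    obtain ⟨x, h1, h2, -, h3⟩ := FSim.exists_central (p := 2) (S := ⊤)
      ((IsPGroup.of_card hc).to_subgroup _) le_top c fun x hx g _ => φ.normal_ker.conj_mem x hx g
    obtain rfl := (hZ x fun s => h3 s trivial).resolve_left h2
    exact CAne (hz.symm.trans h1)
  have h1 : Nat.card φ.range = 2 ^ (Nat.card Cfsg.Spor.Ly).factorization 2 := by
    rw [← Nat.card_congr (MonoidHom.ofInjective hi).toEquiv, hc, card,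
      show 8835156 * 5859000000 = 2 ^ 8 * 202207730484375 by norm_num,
      Nat.factorization_mul (by norm_num) (by norm_num), Nat.prime_two.factorization_pow]
    simp [Nat.factorization_eq_zero_of_not_dvd (show ¬ 2 ∣ 202207730484375 by norm_num)]
  refine ⟨Sylow.ofCard _ h1, ⟨_, hz⟩, ?_⟩
  rintro _ ⟨x, rfl⟩
  refine ⟨by rw [← hz, ← map_mul, cenZ, map_mul], fun h => (hZ x fun u => hi ?_).imp (fun e => ?_) fun e => ?_⟩
  · rw [map_mul, map_mul]; exact h _ ⟨u, rfl⟩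
  · rw [e, map_one]
  · rw [e, hz]

theorem out : Nat.card (Out Cfsg.Spor.Ly) = 1 := by
  refine Leech.card_out_one fun α => (QuotientGroup.eq_one_iff _).mpr ?_
  obtain ⟨S, h1, h2⟩ := syl
  obtain ⟨g, hg⟩ := MulAction.exists_smul_eq Cfsg.Spor.Ly
    (S.mapSurjective (f := α.toMonoidHom) α.surjective) S
  have h3 : ∀ u, u ∈ S ↔ ∃ v ∈ S, (MulAut.conj g * α) v = u := fun u => by
    nth_rewrite 1 [← hg]
    exact ⟨fun ⟨_, ⟨v, hv, e⟩, e'⟩ => ⟨v, hv, e' ▸ e ▸ rfl⟩, fun ⟨v, hv, e⟩ => ⟨_, ⟨v, hv, rfl⟩, e⟩⟩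
  refine inn_of g (out2 (((h2 _ ((h3 _).mpr ⟨_, h1, rfl⟩)).2 fun u hu => ?_).resolve_left fun c =>
    CAne ((MulAut.conj g * α).map_eq_one_iff.mp c)))
  obtain ⟨v, hv, rfl⟩ := (h3 u).mp hu
  rw [← map_mul, (h2 v hv).1, map_mul]

end Cfsg.Agent.Comp.Ly
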