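import Cfsg.Agent.Comp.CoxG
import Cfsg.Prelude.Def_Spor_Ly

set_option autoImplicit false
set_option maxRecDepth 100000

namespace Cfsg.Agent.Comp.Ly
open Cfsg.Agent.Comp

def R : List (List Nat) :=
  [[0, 1],
   [1, 0],
   [2, 3],
   [3, 2],
   [4, 5],
   [5, 4],
   [6, 7],
   [7, 6],
   [8, 9],
   [9, 8],
   [10, 11],
   [11, 10],
   [12, 13],
   [13, 12],
   [14, 15],
   [15, 14],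
   [16, 17],
   [17, 16],
   [18, 19],
   [19, 18],
   [20, 21],
   [21, 20],
   [22, 23],
   [23, 22],
   [24, 25],
   [25, 24],
   [26, 27],
   [27, 26],
   [28, 29],
   [29, 28],
   [30, 31],
   [31, 30],
   [32, 33],
   [33, 32],
   [34, 35],
   [35, 34],
   [36, 37],
   [37, 36],
   [38, 39],
   [39, 38],
   [40, 41],
   [41, 40],
   [42, 43],
   [43, 42],
   [44, 45],
   [45, 44],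
   [46, 47],
   [47, 46],
   [48, 49],
   [49, 48],
   [50, 51],
   [51, 50],
   [52, 53],
   [53, 52],
   [54, 55],
   [55, 54],
   [56, 57],
   [57, 56],
   [58, 59],
   [59, 58],
   [60, 61],
   [61, 60],
   [62, 63],
   [63, 62],
   [64, 65],
   [65, 64],
   [66, 67],
   [67, 66],
   [68, 69],
   [69, 68],
   [70, 71],
   [71, 70],
   [72, 73],
   [73, 72],
   [74, 75],
   [75, 74],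
   [76, 77],
   [77, 76],
   [0, 0, 0, 0, 0, 0, 0, 0],
   [2, 2, 2, 2, 2],
   [0, 2, 0, 2, 0, 2, 0, 2],
   [1, 1, 3, 0, 0, 2],
   [1, 3, 0, 2, 1, 3, 0, 2, 1, 3, 0, 2],
   [10, 5],
   [12, 1, 5, 0],
   [14, 3, 5, 2],
   [16, 2, 5, 3],
   [18, 13, 11, 12, 10],
   [10, 10, 10, 10, 10],
   [18, 18, 18, 18, 18],
   [11, 19, 10, 18],
   [13, 19, 12, 18],
   [15, 19, 14, 18],
   [17, 19, 16, 18],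
   [11, 15, 10, 14, 18, 18],
   [11, 17, 10, 16, 19, 19],
   [13, 15, 12, 14, 18],
   [13, 17, 12, 16],
   [15, 17, 14, 16, 18],
   [1, 12, 0, 10, 10],
   [1, 14, 0, 17, 11, 14, 14],
   [1, 16, 0, 17, 11, 17, 14, 12, 11],
   [1, 18, 0, 19, 19],
   [3, 12, 2, 16, 10, 16, 15, 13],
   [3, 14, 2, 14, 14, 17, 11, 11],
   [3, 18, 2, 19],
   [8, 7, 11, 7, 2, 1, 3, 11, 7, 1, 11, 0, 11, 1, 10, 0, 2, 2],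
   [8, 8],
   [9, 10, 8, 10, 3, 15, 3],
   [9, 14, 8, 0, 16, 10, 13, 1, 3, 3],
   [9, 16, 8, 17, 14, 3, 3],
   [9, 18, 8, 16, 11, 14, 11],
   [8, 0, 0, 8, 16, 19, 11, 1, 2, 1, 3, 3, 1],
   [9, 2, 8, 16, 16, 14, 11],
   [8, 0, 2, 2, 0, 3, 0, 8, 16, 19, 11, 1, 1],
   [8, 12, 8, 13, 8, 12, 17, 0, 14, 0, 0, 0],
   [6, 9, 3, 12, 1, 9, 1, 9, 1, 18, 16, 10, 2, 0, 3, 3, 1],
   [6, 6, 1, 1, 1, 1],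
   [3, 7, 2, 6],
   [7, 0, 6, 1, 1, 1],
   [6, 18, 6, 18, 6, 18, 6, 18, 6, 18],
   [6, 18, 6, 19, 6, 18, 1, 1],
   [22, 1],
   [24, 2, 1, 3],
   [26, 2, 2, 1, 3, 3],
   [28, 3, 3, 1, 2, 2],
   [30, 1, 1],
   [32, 7],
   [34, 6],
   [36, 3, 5, 0, 3, 3, 4, 7, 4, 0, 5, 1, 4, 3, 3, 0, 2, 0, 3, 3],
   [38, 5, 3, 5, 7, 2, 2, 5, 7, 2, 5, 3, 5, 1, 4, 3, 3, 0, 3, 3, 0, 3, 1],
   [40, 6, 4, 3, 0, 4, 0, 6, 4],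
   [42, 7, 3],
   [44, 2, 6],
   [46, 1, 3, 4, 1, 2, 4, 3, 0, 2, 0],
   [48, 3, 5, 3, 0, 5, 1, 2, 2],
   [50, 1, 3, 1, 5, 0, 2, 0],
   [52, 3, 1, 2, 5, 3, 0, 2],
   [54, 4, 2, 2, 5, 1, 3, 5, 2, 0, 3, 3],
   [56, 0, 0, 0],
   [58, 0, 0, 2, 0, 3],
   [60, 0, 2, 2, 1, 3, 3, 1],
   [62, 2, 1, 3, 1, 2, 1, 4, 0, 2, 4, 3, 6, 4, 3, 0, 4, 2, 7, 0],
   [64, 6, 2, 5, 0, 5, 1, 5, 7, 4, 4, 0, 3, 4, 3, 5, 0, 2, 2, 1],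
   [66, 5, 3, 5, 7, 2, 2, 5, 7, 3, 5, 3, 3, 5, 2, 0, 2, 2, 0, 2, 1, 3],
   [68, 2, 0, 3, 1, 3, 3, 1, 3, 4, 2, 2, 4, 2, 6, 4, 3, 3, 6, 4, 2, 4],
   [70, 2, 2, 0, 2, 4, 2, 2, 5, 1, 4, 0, 6, 4, 1, 2, 4, 1, 6, 4, 0],
   [72, 2, 1, 2, 2, 1, 2, 4, 2, 0, 3, 6, 4, 2, 0, 3, 6, 4, 0],
   [74, 0, 3, 0, 2, 2, 0, 5, 0, 2, 1, 6, 4, 0, 5, 3, 5, 1, 6],
   [76, 3, 0, 2, 0, 2, 5, 1, 5, 0, 5, 6, 4, 3, 5, 0, 4],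
   [21, 10, 20, 47],
   [21, 12, 20, 49],
   [21, 14, 20, 51],
   [21, 16, 20, 53],
   [21, 18, 20, 55],
   [21, 22, 20, 57],
   [21, 24, 20, 59],
   [21, 26, 20, 61],
   [20, 20, 31],
   [28, 20, 28, 20, 28, 20, 30],
   [40, 20, 62, 20, 70, 20],
   [21, 34, 21, 72, 20, 32, 20, 38],
   [20, 66, 20, 64, 21, 68, 21, 74],
   [20, 42, 20, 36, 21, 44, 21, 76]]

open Cfsg.Spor.Ly in
def all : List Gen := [.a, .b, .c, .d, .e, .c1, .c2, .c3, .c4, .c5, .z, .a1, .a2, .a3, .a4, .u, .x23, .x24, .x25, .x29, .x47, .x96, .x129, .x162, .x163, .x164, .x165, .x166, .x167, .x168, .x169, .x364, .x365, .x366, .x367, .x368, .x369, .x370, .x371]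

def lt : List (Cfsg.Spor.Ly.Gen × Bool) := all.flatMap fun a => [(a, true), (a, false)]

def e (a : Cfsg.Spor.Ly.Gen) : ℕ := 2 * all.idxOf a

/-- the letters -/
noncomputable def s : ℕ → Cfsg.Spor.Ly := coxS Cfsg.Spor.Ly.edges Cfsg.Spor.Ly.extra lt

theorem presAll : IsPres s 78 R ∧ (∀ x, s (e x) = PresentedGroup.of x) ∧
    ∀ r, PresentedGroup.mk _ r = ev s (freeWordG e (· + 1) r) :=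
  isPres_coxG (all := all) (by intro x; cases x <;> decide) (by decide +kernel)

theorem pres : IsPres s 78 R := presAll.1

theorem hR : ∀ w ∈ R, ∀ x ∈ w, x < 78 := by decide +kernel

/-- the letters as words in the first 22 letters -/
def FS : List (List Nat) :=
  [[0],
   [1],
   [2],
   [3],
   [4],
   [5],
   [6],
   [7],
   [8],
   [9],
   [10],
   [11],
   [12],
   [13],
   [14],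
   [15],
   [16],
   [17],
   [18],
   [19],
   [20],
   [21],
   [0],
   [1],
   [2, 0, 3],
   [2, 1, 3],
   [2, 2, 0, 3, 3],
   [2, 2, 1, 3, 3],
   [3, 3, 0, 2, 2],
   [3, 3, 1, 2, 2],
   [0, 0],
   [1, 1],
   [6],
   [7],
   [7],
   [6],
   [2, 2, 1, 3, 1, 2, 2, 5, 0, 4, 1, 5, 6, 5, 2, 2, 1, 4, 2],
   [3, 5, 0, 3, 3, 4, 7, 4, 0, 5, 1, 4, 3, 3, 0, 2, 0, 3, 3],
   [0, 2, 1, 2, 2, 1, 2, 2, 5, 0, 4, 2, 4, 3, 6, 4, 3, 3, 6, 4, 2, 4],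
   [5, 3, 5, 7, 2, 2, 5, 7, 2, 5, 3, 5, 1, 4, 3, 3, 0, 3, 3, 0, 3, 1],
   [5, 7, 1, 5, 1, 2, 5, 7],
   [6, 4, 3, 0, 4, 0, 6, 4],
   [2, 6],
   [7, 3],
   [7, 3],
   [2, 6],
   [1, 3, 1, 2, 5, 3, 0, 5, 2, 0],
   [1, 3, 4, 1, 2, 4, 3, 0, 2, 0],
   [3, 3, 0, 4, 1, 2, 4, 2],
   [3, 5, 3, 0, 5, 1, 2, 2],
   [1, 3, 1, 4, 0, 2, 0],
   [1, 3, 1, 5, 0, 2, 0],
   [3, 1, 2, 4, 3, 0, 2],
   [3, 1, 2, 5, 3, 0, 2],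
   [2, 2, 1, 3, 4, 2, 0, 4, 3, 3, 5],
   [4, 2, 2, 5, 1, 3, 5, 2, 0, 3, 3],
   [1, 1, 1],
   [0, 0, 0],
   [2, 1, 3, 1, 1],
   [0, 0, 2, 0, 3],
   [0, 2, 2, 0, 3, 3, 1],
   [0, 2, 2, 1, 3, 3, 1],
   [1, 6, 3, 5, 1, 2, 5, 7, 2, 5, 3, 1, 5, 0, 3, 0, 2, 0, 3],
   [2, 1, 3, 1, 2, 1, 4, 0, 2, 4, 3, 6, 4, 3, 0, 4, 2, 7, 0],
   [0, 3, 3, 1, 4, 2, 5, 2, 1, 5, 5, 6, 4, 0, 4, 1, 4, 3, 7],
   [6, 2, 5, 0, 5, 1, 5, 7, 4, 4, 0, 3, 4, 3, 5, 0, 2, 2, 1],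
   [2, 0, 3, 1, 3, 3, 1, 3, 4, 2, 2, 4, 2, 6, 4, 3, 3, 6, 4, 2, 4],
   [5, 3, 5, 7, 2, 2, 5, 7, 3, 5, 3, 3, 5, 2, 0, 2, 2, 0, 2, 1, 3],
   [5, 3, 5, 7, 2, 2, 5, 7, 3, 5, 3, 3, 5, 2, 0, 2, 2, 0, 2, 1, 3],
   [2, 0, 3, 1, 3, 3, 1, 3, 4, 2, 2, 4, 2, 6, 4, 3, 3, 6, 4, 2, 4],
   [1, 5, 7, 0, 5, 3, 0, 5, 7, 1, 5, 0, 4, 3, 3, 5, 3, 1, 3, 3],
   [2, 2, 0, 2, 4, 2, 2, 5, 1, 4, 0, 6, 4, 1, 2, 4, 1, 6, 4, 0],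
   [1, 5, 7, 2, 1, 3, 5, 7, 2, 1, 3, 5, 3, 0, 3, 3, 0, 3],
   [2, 1, 2, 2, 1, 2, 4, 2, 0, 3, 6, 4, 2, 0, 3, 6, 4, 0],
   [7, 0, 4, 2, 4, 1, 5, 7, 0, 3, 1, 4, 1, 3, 3, 1, 2, 1],
   [0, 3, 0, 2, 2, 0, 5, 0, 2, 1, 6, 4, 0, 5, 3, 5, 1, 6],
   [5, 1, 4, 2, 5, 7, 4, 1, 4, 0, 4, 3, 1, 3, 1, 2],
   [3, 0, 2, 0, 2, 5, 1, 5, 0, 5, 6, 4, 3, 5, 0, 4]]

end Cfsg.Agent.Comp.Ly
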