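import Cfsg.Agent.Comp.Ly.Pres
import Cfsg.Agent.Comp.G25.Cd

set_option autoImplicit false
set_option maxRecDepth 100000

namespace Cfsg.Agent.Comp.Ly
open Cfsg.Agent.Comp

open _root_.Cfsg.Agent.Comp.G25 (El Seg o TL one val sv sv_o val_append mkD mkD_s mkD_TL divB eqS eqS_spec)

theorem exists_io : ∃ ι : G25.G →* Cfsg.Spor.Ly, (∀ x < 20, ι (G25.s x) = s x) ∧ ι.range = gen s 20 :=
  G25.pres.lift G25.hR s (pres.sat.mono (by decide +kernel))

/-- the map from the presented group `G₂(5)` -/
noncomputable def io : G25.G →* Cfsg.Spor.Ly := exists_io.choose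

theorem io_ev {w : List ℕ} (h : ltB 20 w = true) : io (ev G25.s w) = ev s w := by
  rw [map_ev]; exact ev_congr fun x hx => exists_io.choose_spec.1 x (ltB_spec h x hx)

theorem s_inv : ∀ x < 78, s x * s (x ^^^ 1) = 1 := fun x hx => by
  simpa using pres.sat [x, x ^^^ 1] ((by decide +kernel : ∀ x < 78, [x, x ^^^ 1] ∈ R) x hx)

theorem s_FS : ∀ x < 78, s x = ev s (FS.getD x []) := fun x hx => by
  obtain ⟨h1, r, hr, h⟩ := (by decide +kernel : ∀ x < 78, (∀ y ∈ FS.getD x [], y < 78) ∧
    ∃ r ∈ R, fr (r ++ FS.getD x []) = [x] ∨ fr (x :: r) = FS.getD x []) x hx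
  have h2 := hR r hr
  rcases h with h | h
  · have := ev_fr s_inv (w := r ++ FS.getD x []) (List.forall_mem_append.mpr ⟨h2, h1⟩)
    rwa [h, ev_append, pres.sat r hr, one_mul, ev_single] at this
  · have := ev_fr s_inv (w := x :: r) (List.forall_mem_cons.mpr ⟨hx, h2⟩)
    rw [← h, this, ev_cons, pres.sat r hr, mul_one]

theorem ev_FS {w : List ℕ} (h : ltB 78 w = true) : ev s (subst FS w) = ev s w := by
  rw [ev_subst]; exact ev_congr fun x hx => (s_FS x (ltB_spec h x hx)).symm

theorem code_ev {r w' : List ℕ} {h : divB r [] [(TL, w')] = true} (w : List ℕ)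
    (hw : (ltB 78 w && ltB 20 w' && subst FS w == w') = true) :
    io (mkD r [] [(TL, w')] h).g = ev s w := by
  simp only [Bool.and_eq_true, beq_iff_eq] at hw
  rw [mkD_TL hw.1.2, io_ev hw.1.2, ← hw.2, ev_FS hw.1.1]

/-- the generator `z` -/
noncomputable def z : Cfsg.Spor.Ly := s 20

theorem s_xor {x : ℕ} (h : x < 78) : s (x ^^^ 1) = (s x)⁻¹ := eq_inv_of_mul_eq_one_right (s_inv x h)

theorem kp_of {a b : ℕ} (h : a < 78 ∧ b < 78 ∧
    ([21, a, 20, b ^^^ 1] ∈ R ∨ [21, a ^^^ 1, 20, b] ∈ R)) : ev s [a] * z = z * ev s [b] := by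
  have e : s 21 = z⁻¹ := s_xor (x := 20) (by norm_num)
  obtain ⟨ha, hb, h | h⟩ := h
  · have := pres.sat _ h
    simp only [ev_cons, ev_nil, e, s_xor hb, mul_one] at this ⊢
    calc s a * z = z * (z⁻¹ * (s a * (s 20 * (s b)⁻¹))) * s b := by simp [z, mul_assoc]
      _ = _ := by rw [this, mul_one]
  · have := pres.sat _ h
    simp only [ev_cons, ev_nil, e, s_xor ha, mul_one] at this ⊢
    calc s a * z = s a * z * (z⁻¹ * ((s a)⁻¹ * (s 20 * s b))) := by rw [this, mul_one]
      _ = _ := by simp [z, mul_assoc]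

theorem zz : z * z = s 30 := by
  have := pres.sat [20, 20, 31] (by decide +kernel)
  simp only [ev_cons, ev_nil, mul_one, show s 31 = (s 30)⁻¹ from s_xor (x := 30) (by norm_num)] at this
  rw [← mul_assoc] at this
  exact mul_inv_eq_one.mp this

/-- elimination of the letter for `z⁻¹` -/
def sg (w : List ℕ) : List ℕ := w.flatMap fun x => if x = 21 then [31, 20] else [x]

theorem ev_sg (w : List ℕ) : ev s (sg w) = ev s w := by
  induction w with
  | nil => rfl
  | cons x w ih =>
    rw [sg, List.flatMap_cons, ev_append, ← sg, ih, ev_cons]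
    split_ifs with h
    · rw [h, show s 21 = z⁻¹ from s_xor (x := 20) (by norm_num)]
      simp only [ev_cons, ev_nil, mul_one,
        show s 31 = (s 30)⁻¹ from s_xor (x := 30) (by norm_num), ← zz]
      simp [z]
    · simp

theorem rot_of (r u v w : List ℕ) (h : r ∈ R ∧ sg r = u ++ 20 :: v ∧ (∀ x ∈ v ++ u, x < 78) ∧
    sg ((v ++ u).reverse.map (· ^^^ 1)) = w) : z = ev s w := by
  obtain ⟨h1, h2, h3, rfl⟩ := h
  have e : ∀ l : List ℕ, (∀ x ∈ l, x < 78) → ev s (l.reverse.map (· ^^^ 1)) = (ev s l)⁻¹ := by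
    intro l hl
    induction l with
    | nil => simp
    | cons x l ih =>
      rw [List.forall_mem_cons] at hl
      rw [List.reverse_cons, List.map_append, ev_append, ih hl.2, ev_cons s x l, mul_inv_rev]
      simp [s_xor hl.1]
  have := pres.sat r h1
  rw [← ev_sg, h2, ev_append, ev_cons] at this
  rw [ev_sg, e _ h3, ev_append]
  calc z = (ev s u)⁻¹ * (ev s u * (s 20 * ev s v)) * (ev s v)⁻¹ := by simp [z, mul_assoc]
    _ = _ := by rw [this]; simp

/-- the value of a product of words -/
noncomputable def V (A : List Seg) : Cfsg.Spor.Ly := io (val A)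

theorem V_nil : V [] = 1 := map_one _
theorem V_cons (S : Seg) (A : List Seg) : V (S :: A) = io (sv S) * V A := map_mul _ _ _
theorem V_o (c : El) : V [o c] = io c.g := by simp [V, val, sv_o]
theorem V_append (A B : List Seg) : V (A ++ B) = V A * V B := by simp [V, val_append]

abbrev Q := Qr io
/-- an edge -/
abbrev E (x : Cfsg.Spor.Ly) (u : El) (y : Cfsg.Spor.Ly) (v : El) : Prop :=
  Q (x * V [o u] * z) (y * V [o v])
/-- a coincidence -/
abbrev D (x y : Cfsg.Spor.Ly) (p : El) : Prop := Q x (y * V [o p])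
/-- elements of the stabiliser -/
def St (x : Cfsg.Spor.Ly) (l : List El) : Prop := ∀ c ∈ l, D x x c

theorem St.nil {x : Cfsg.Spor.Ly} : St x [] := nofun
theorem St.cons {x : Cfsg.Spor.Ly} {c : El} {l : List El} (h : D x x c) (hl : St x l) :
    St x (c :: l) := List.forall_mem_cons.mpr ⟨h, hl⟩

theorem St.sv {x : Cfsg.Spor.Ly} {l : List El} (h : St x l) (w : List ℕ) :
    Q x (x * io (sv (l, w))) :=
  ev_mem (K := stabQ io x) fun a _ => by
    rcases nth_mem one l a with e | e
    · rw [e]; exact (stabQ io x).one_mem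
    · have := h _ e
      rwa [D, V_o] at this

noncomputable def ka0 : El := mkD [nat_lit 4501662662658, nat_lit 4536567611780, nat_lit 13331582730752, nat_lit 17627627913348, nat_lit 1075904896, nat_lit 17696345309314, nat_lit 13262867415169] [] [(TL, [10])] (by decide +kernel)

theorem ka0_s : io ka0.g = ev s [10] := code_ev _ (by decide +kernel)

noncomputable def kb0 : El := mkD [nat_lit 1073742080, nat_lit 128, nat_lit 4398050705668, nat_lit 1075839236, nat_lit 536871297, nat_lit 8830998069248, nat_lit 8796365717504] [] [(TL, [1, 3, 1, 2, 5, 3, 0, 5, 2, 0])] (by decide +kernel)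

theorem kb0_s : io kb0.g = ev s [46] := code_ev _ (by decide +kernel)

noncomputable def ka1 : El := mkD [nat_lit 4536297062531, nat_lit 8933806702979, nat_lit 8830459117696, nat_lit 103356088450, nat_lit 17730430370305, nat_lit 103353974916, nat_lit 8830459052417] [] [(TL, [11])] (by decide +kernel)

theorem ka1_s : io ka1.g = ev s [11] := code_ev _ (by decide +kernel)

noncomputable def kb1 : El := mkD [nat_lit 268435842, nat_lit 128, nat_lit 17592192369025, nat_lit 270532993, nat_lit 260, nat_lit 13229306707968, nat_lit 1080049664] [] [(TL, [1, 3, 4, 1, 2, 4, 3, 0, 2, 0])] (by decide +kernel)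

theorem kb1_s : io kb1.g = ev s [47] := code_ev _ (by decide +kernel)

noncomputable def ka2 : El := mkD [nat_lit 4467307069827, nat_lit 4433486282880, nat_lit 4501400469764, nat_lit 8899983835648, nat_lit 103085572354, nat_lit 17729895530624, nat_lit 103085523204] [] [(TL, [12])] (by decide +kernel)

theorem ka2_s : io ka2.g = ev s [12] := code_ev _ (by decide +kernel)

noncomputable def kb2 : El := mkD [nat_lit 34900852995, nat_lit 4398856012292, nat_lit 13297222942723, nat_lit 17627621671427, nat_lit 8796638281859, nat_lit 8899178545154, nat_lit 17730170290432] [] [(TL, [3, 3, 0, 4, 1, 2, 4, 2])] (by decide +kernel)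

theorem kb2_s : io kb2.g = ev s [48] := code_ev _ (by decide +kernel)

noncomputable def ka3 : El := mkD [nat_lit 4535762288768, nat_lit 13229044564482, nat_lit 8830723293696, nat_lit 4433486348548, nat_lit 4398315012097, nat_lit 8831262310531, nat_lit 13195213307908] [] [(TL, [13])] (by decide +kernel)

theorem ka3_s : io ka3.g = ev s [13] := code_ev _ (by decide +kernel)

noncomputable def kb3 : El := mkD [nat_lit 138250584452, nat_lit 17592729207169, nat_lit 8864818823170, nat_lit 4535756030082, nat_lit 13194141630978, nat_lit 13331582746627, nat_lit 13229306724736] [] [(TL, [3, 5, 3, 0, 5, 1, 2, 2])] (by decide +kernel)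

theorem kb3_s : io kb3.g = ev s [49] := code_ev _ (by decide +kernel)

noncomputable def ka4 : El := mkD [nat_lit 16643, nat_lit 138248487300, nat_lit 69795315971, nat_lit 103353942530, nat_lit 17696343261316, nat_lit 8797166829698, nat_lit 17695273697284] [] [(TL, [14])] (by decide +kernel)

theorem ka4_s : io ka4.g = ev s [14] := code_ev _ (by decide +kernel)

noncomputable def kb4 : El := mkD [nat_lit 17730698756611, nat_lit 138512695299, nat_lit 13195221680388, nat_lit 8830729601026, nat_lit 13263395897604, nat_lit 13332388053505, nat_lit 13194682745345] [] [(TL, [1, 3, 1, 4, 0, 2, 0])] (by decide +kernel)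

theorem kb4_s : io kb4.g = ev s [50] := code_ev _ (by decide +kernel)

noncomputable def ka5 : El := mkD [nat_lit 65924, nat_lit 138252681218, nat_lit 69797478528, nat_lit 138250567682, nat_lit 4501125791875, nat_lit 13298028314752, nat_lit 13229313032580] [] [(TL, [15])] (by decide +kernel)

theorem ka5_s : io ka5.g = ev s [15] := code_ev _ (by decide +kernel)

noncomputable def kb5 : El := mkD [nat_lit 17592999788803, nat_lit 4535491805696, nat_lit 17627623751938, nat_lit 545260036, nat_lit 4398319157379, nat_lit 4398851867137, nat_lit 13263941206529] [] [(TL, [1, 3, 1, 5, 0, 2, 0])] (by decide +kernel)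

theorem kb5_s : io kb5.g = ev s [51] := code_ev _ (by decide +kernel)

noncomputable def ka6 : El := mkD [nat_lit 17626822607233, nat_lit 8933534073220, nat_lit 4433486299136, nat_lit 138521133441, nat_lit 17661444505601, nat_lit 8830727520771, nat_lit 34628190337] [] [(TL, [16])] (by decide +kernel)

theorem ka6_s : io ka6.g = ev s [16] := code_ev _ (by decide +kernel)

noncomputable def kb6 : El := mkD [nat_lit 69801607427, nat_lit 8934612041856, nat_lit 4502201598081, nat_lit 13228774031747, nat_lit 103622443396, nat_lit 8865624113284, nat_lit 17730166112516] [] [(TL, [3, 1, 2, 4, 3, 0, 2])] (by decide +kernel)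

theorem kb6_s : io kb6.g = ev s [52] := code_ev _ (by decide +kernel)

noncomputable def ka7 : El := mkD [nat_lit 17695533760896, nat_lit 17730702983300, nat_lit 4399126577665, nat_lit 8865894678656, nat_lit 270549377, nat_lit 8899180626436, nat_lit 4432410460417] [] [(TL, [17])] (by decide +kernel)

theorem ka7_s : io ka7.g = ev s [17] := code_ev _ (by decide +kernel)

noncomputable def kb7 : El := mkD [nat_lit 103349748100, nat_lit 13332121682177, nat_lit 17627623751938, nat_lit 8831264424065, nat_lit 103624540675, nat_lit 13229581435011, nat_lit 13194410131588] [] [(TL, [3, 1, 2, 5, 3, 0, 2])] (by decide +kernel)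

theorem kb7_s : io kb7.g = ev s [53] := code_ev _ (by decide +kernel)

noncomputable def ka8 : El := mkD [nat_lit 103349813378, nat_lit 13195215405569, nat_lit 17729627160833, nat_lit 8899711238528, nat_lit 4467573391361, nat_lit 4501664694273, nat_lit 35433545856] [] [(TL, [18])] (by decide +kernel)

theorem ka8_s : io ka8.g = ev s [18] := code_ev _ (by decide +kernel)

noncomputable def kb8 : El := mkD [nat_lit 34900852995, nat_lit 4398856077570, nat_lit 13297222976002, nat_lit 17627621687424, nat_lit 8933536169986, nat_lit 8797170958338, nat_lit 17661710876928] [] [(TL, [2, 2, 1, 3, 4, 2, 0, 4, 3, 3, 5])] (by decide +kernel)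

theorem kb8_s : io kb8.g = ev s [54] := code_ev _ (by decide +kernel)

noncomputable def ka9 : El := mkD [nat_lit 69801624064, nat_lit 8796369895812, nat_lit 4432414687620, nat_lit 13263666462976, nat_lit 17696347389956, nat_lit 17730438692868, nat_lit 8933800428032] [] [(TL, [19])] (by decide +kernel)

theorem ka9_s : io ka9.g = ev s [19] := code_ev _ (by decide +kernel)

noncomputable def kb9 : El := mkD [nat_lit 138250584452, nat_lit 17592729223171, nat_lit 8864818790531, nat_lit 4535756014080, nat_lit 13229042434051, nat_lit 13263133736963, nat_lit 13297755652480] [] [(TL, [4, 2, 2, 5, 1, 3, 5, 2, 0, 3, 3])] (by decide +kernel)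

theorem kb9_s : io kb9.g = ev s [55] := code_ev _ (by decide +kernel)

noncomputable def ka10 : El := mkD [nat_lit 13331851133060, nat_lit 17730170323328, nat_lit 274792704, nat_lit 8830452793603, nat_lit 8864814612736, nat_lit 4501132083330, nat_lit 137439002628] [] [(TL, [0])] (by decide +kernel)

theorem ka10_s : io ka10.g = ev s [22] := code_ev _ (by decide +kernel)

noncomputable def kb10 : El := mkD [nat_lit 34636562947, nat_lit 4398314995842, nat_lit 8865892565124, nat_lit 4467579732099, nat_lit 17626822640003, nat_lit 17627084767360, nat_lit 8934609912195] [] [(TL, [1, 1, 1])] (by decide +kernel)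

theorem kb10_s : io kb10.g = ev s [56] := code_ev _ (by decide +kernel)

noncomputable def ka11 : El := mkD [nat_lit 13228507693568, nat_lit 4535491805569, nat_lit 4501394161664, nat_lit 4502199517312, nat_lit 4433488396419, nat_lit 17696072712320, nat_lit 17592188141956] [] [(TL, [1])] (by decide +kernel)

theorem ka11_s : io ka11.g = ev s [23] := code_ev _ (by decide +kernel)

noncomputable def kb11 : El := mkD [nat_lit 137980084354, nat_lit 17592993513601, nat_lit 4536561320324, nat_lit 8797175185665, nat_lit 69258478080, nat_lit 4433486315650, nat_lit 13298294636547] [] [(TL, [0, 0, 0])] (by decide +kernel)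

theorem kb11_s : io kb11.g = ev s [57] := code_ev _ (by decide +kernel)

noncomputable def ka12 : El := mkD [nat_lit 4501132017920, nat_lit 13228771950979, nat_lit 4398856028545, nat_lit 103351910660, nat_lit 4399124447748, nat_lit 4467573424128, nat_lit 8831258116356] [] [(TL, [2, 0, 3])] (by decide +kernel)

theorem ka12_s : io ka12.g = ev s [24] := code_ev _ (by decide +kernel)

noncomputable def kb12 : El := mkD [nat_lit 13195219582976, nat_lit 17729897693184, nat_lit 13297227186436, nat_lit 13194680615042, nat_lit 103085572356, nat_lit 8830995955969, nat_lit 13229040337154] [] [(TL, [2, 1, 3, 1, 1])] (by decide +kernel)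

theorem kb12_s : io kb12.g = ev s [58] := code_ev _ (by decide +kernel)

noncomputable def ka13 : El := mkD [nat_lit 4467034440194, nat_lit 8830461149444, nat_lit 138248519939, nat_lit 17729897644288, nat_lit 68994204035, nat_lit 13297757732867, nat_lit 68994269188] [] [(TL, [2, 1, 3])] (by decide +kernel)

theorem ka13_s : io ka13.g = ev s [25] := code_ev _ (by decide +kernel)

noncomputable def kb13 : El := mkD [nat_lit 13229306675587, nat_lit 137975857284, nat_lit 17729633386882, nat_lit 17730166128769, nat_lit 4433215816064, nat_lit 811647235, nat_lit 1082196482] [] [(TL, [0, 0, 2, 0, 3])] (by decide +kernel)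

theorem kb13_s : io kb13.g = ev s [59] := code_ev _ (by decide +kernel)

noncomputable def ka14 : El := mkD [nat_lit 8797175185796, nat_lit 138248487298, nat_lit 536871043, nat_lit 13194408018306, nat_lit 69795381248, nat_lit 8796101443587, nat_lit 13332654326019] [] [(TL, [2, 2, 0, 3, 3])] (by decide +kernel)

theorem ka14_s : io ka14.g = ev s [26] := code_ev _ (by decide +kernel)

noncomputable def kb14 : El := mkD [nat_lit 8933538316420, nat_lit 4536028692481, nat_lit 17592460804483, nat_lit 13194949099778, nat_lit 69531091202, nat_lit 17695535808512, nat_lit 103620313088] [] [(TL, [0, 2, 2, 0, 3, 3, 1])] (by decide +kernel)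

theorem kb14_s : io kb14.g = ev s [60] := code_ev _ (by decide +kernel)

noncomputable def ka15 : El := mkD [nat_lit 8796095119747, nat_lit 137439002625, nat_lit 17661446651908, nat_lit 8933532025219, nat_lit 8899174400384, nat_lit 8900254367747, nat_lit 17696078954755] [] [(TL, [2, 2, 1, 3, 3])] (by decide +kernel)

theorem ka15_s : io ka15.g = ev s [27] := code_ev _ (by decide +kernel)

noncomputable def kb15 : El := mkD [nat_lit 8934607814784, nat_lit 4535485514114, nat_lit 103349797378, nat_lit 17627623784705, nat_lit 13229042450946, nat_lit 17592725061632, nat_lit 17730438725632] [] [(TL, [0, 2, 2, 1, 3, 3, 1])] (by decide +kernel)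

theorem kb15_s : io kb15.g = ev s [61] := code_ev _ (by decide +kernel)

noncomputable def TA : List El := [ka0, ka1, ka2, ka3, ka4, ka5, ka6, ka7, ka8, ka9, ka10, ka11, ka12, ka13, ka14, ka15]

noncomputable def TB : List El := [kb0, kb1, kb2, kb3, kb4, kb5, kb6, kb7, kb8, kb9, kb10, kb11, kb12, kb13, kb14, kb15]

theorem kp0 : List.Forall₂ (fun a b : El => io a.g * z = z * io b.g) TA TB :=
  .cons (by rw [ka0_s, kb0_s]; exact kp_of (by decide +kernel)) <|
  .cons (by rw [ka1_s, kb1_s]; exact kp_of (by decide +kernel)) <|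
  .cons (by rw [ka2_s, kb2_s]; exact kp_of (by decide +kernel)) <|
  .cons (by rw [ka3_s, kb3_s]; exact kp_of (by decide +kernel)) <|
  .cons (by rw [ka4_s, kb4_s]; exact kp_of (by decide +kernel)) <|
  .cons (by rw [ka5_s, kb5_s]; exact kp_of (by decide +kernel)) <|
  .cons (by rw [ka6_s, kb6_s]; exact kp_of (by decide +kernel)) <|
  .cons (by rw [ka7_s, kb7_s]; exact kp_of (by decide +kernel)) <|
  .cons (by rw [ka8_s, kb8_s]; exact kp_of (by decide +kernel)) <|
  .cons (by rw [ka9_s, kb9_s]; exact kp_of (by decide +kernel)) <|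
  .cons (by rw [ka10_s, kb10_s]; exact kp_of (by decide +kernel)) <|
  .cons (by rw [ka11_s, kb11_s]; exact kp_of (by decide +kernel)) <|
  .cons (by rw [ka12_s, kb12_s]; exact kp_of (by decide +kernel)) <|
  .cons (by rw [ka13_s, kb13_s]; exact kp_of (by decide +kernel)) <|
  .cons (by rw [ka14_s, kb14_s]; exact kp_of (by decide +kernel)) <|
  .cons (by rw [ka15_s, kb15_s]; exact kp_of (by decide +kernel)) <|
  .nil

noncomputable def cU : El := mkD [nat_lit 4467036553345, nat_lit 8899715432834, nat_lit 8796904620290, nat_lit 17627357397378, nat_lit 8933806752002, nat_lit 4501935276289, nat_lit 8934614106500] [] [(TL, [1, 1])] (by decide +kernel)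

theorem cU_s0 : io cU.g = ev s [31] := code_ev _ (by decide +kernel)

theorem cU_s : io cU.g = (s 30)⁻¹ := by
  rw [cU_s0, ev_single]; exact s_xor (x := 30) (by norm_num)

theorem kp (w : List ℕ) : io (sv (TA, w)) * z = z * io (sv (TB, w)) := by
  induction w with
  | nil => simp [sv]
  | cons a w ih =>
    have e : io (nth one TA a).g * z = z * io (nth one TB a).g := by
      rw [nth_eq, nth_eq]
      by_cases h : a < TA.length
      · exact forall₂_getD kp0 one one h
      · rw [List.getD_eq_default _ _ (not_lt.mp h),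
          List.getD_eq_default _ _ (kp0.length_eq ▸ not_lt.mp h)]
        simp [one]
    simp only [sv, ev_cons, map_mul] at ih ⊢
    rw [mul_assoc, ih, ← mul_assoc, e, mul_assoc]

noncomputable def w0 : Cfsg.Spor.Ly := 1
noncomputable def w1 : Cfsg.Spor.Ly := z
noncomputable abbrev c1d : El := one

variable {X Y x y : Cfsg.Spor.Ly} {A B : List Seg} {c e p u v : El}

theorem start (x : Cfsg.Spor.Ly) (A : List Seg) : Q (x * V A) (x * V A) := Qr.refl _

theorem cstep (h : Q X (x * V A)) (d : D x y p) : Q X (y * V (o p :: A)) := by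
  have := h.trans (d.mul _)
  rwa [mul_assoc, ← V_append] at this

theorem z0 (h : Q X (w0 * V A)) : Q (X * z) (w1 * V []) :=
  (h.mul z).trans ⟨val A, by rw [V_nil]; simp [w0, w1, V]⟩

theorem mv (l : List El) (hl : St x l) (ws wk : List ℕ)
    (h : eqS A [(l, ws), o e, (TA, wk)] = true) :
    Q (x * V A * z) (x * V [o e] * z * V [(TB, wk)]) := by
  have h1 : V A = io (sv (l, ws)) * (V [o e] * io (sv (TA, wk))) := by
    rw [V, eqS_spec h]; simp [V, val]
  have := ((hl.sv ws).mul (V [o e] * io (sv (TA, wk)) * z)).symm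
  rw [h1, V_cons (TB, wk), V_nil, mul_one, mul_assoc _ z, ← kp]
  simpa only [mul_assoc] using this

theorem zstep (h : Q X (x * V A)) (he : E x e y v) (l : List El) (hl : St x l) (ws wk : List ℕ)
    (hc : eqS A [(l, ws), o e, (TA, wk)] = true) : Q (X * z) (y * V [o v, (TB, wk)]) := by
  have := (h.mul z).trans ((mv l hl ws wk hc).trans (he.mul _))
  rwa [mul_assoc y, ← V_append] at this

theorem hstep (h : Q X (x * V A)) (r : El) : Q (X * V [o r]) (x * V (A ++ [o r])) := by
  rw [V_append, ← mul_assoc]; exact h.mul _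

theorem unmove (h : Q (x * V A * z) (y * V B)) (l : List El) (hl : St x l) (ws wk : List ℕ)
    (hv : c.g * val [(TB, wk)] = val B) (hc : eqS A [(l, ws), o u, (TA, wk)] = true) :
    E x u y c := by
  have := (mv l hl ws wk hc).symm.trans h
  rw [show V B = V [o c] * V [(TB, wk)] by rw [V, ← hv, map_mul, V_o]; rfl, ← mul_assoc] at this
  exact this.cancel

theorem einv (h : E x u y v) : Q (y * V [o v, o cU] * z) (x * V [o u]) := by
  have := (h.mul z⁻¹).symm
  rw [mul_inv_cancel_right] at this
  rw [show V [o v, o cU] = V [o v] * V [o cU] from V_append [o v] [o cU], V_o cU, cU_s, ← zz]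
  simpa [mul_assoc] using this

theorem src (d : D x y p) (h : Q (x * V A * z) Y) : Q (y * V (o p :: A) * z) Y := by
  have := ((d.mul (V A)).mul z).symm.trans h
  rwa [mul_assoc y, ← V_append] at this

theorem strans (h : D x x c) (d : D x y p) : Q x (y * V [o p, o c]) := cstep h d

theorem coin (h : Q X (x * V A)) (h' : Q X (y * V B)) (hp : p.g * val A = val B) : D x y p := by
  have := h.symm.trans h'
  rw [show V B = V [o p] * V A by rw [V, ← hp, map_mul, V_o]; rfl, ← mul_assoc] at this
  exact this.cancel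

theorem edef (x : Cfsg.Spor.Ly) (u : El) : E x u (x * V [o u] * z) c1d := by
  rw [E, V_o c1d]; simpa [one] using Qr.refl _

theorem e10 : Q (w1 * V [o cU] * z) (w0 * V []) := by
  rw [V_o, cU_s, ← zz, V_nil, w0, w1]
  generalize z = a
  exact ⟨1, by simp⟩

theorem st_of {l l' : List El}
    (h : List.Forall₂ (fun a b : El => io a.g * z = z * io b.g) l l') : St w1 l' := by
  induction h with
  | nil => exact St.nil
  | @cons a b _ _ e _ ih => exact St.cons ⟨a.g⁻¹, by rw [V_o, w1, ← e, map_inv, inv_mul_cancel_left]⟩ ih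

theorem st1 : St w1 TB := st_of kp0

theorem rel3 {a b c : El} (hz : z = io a.g * (z * (io b.g * (z * io c.g))))
    (h : Q (X * V [o a] * z * V [o b] * z * V [o c]) Y) : Q (X * z) Y := by
  rw [hz]; simpa only [V_o, mul_assoc] using h

theorem rel4 {a b c d : El} (hz : z = io a.g * (z * (io b.g * (z * (io c.g * (z * io d.g))))))
    (h : Q (X * V [o a] * z * V [o b] * z * V [o c] * z * V [o d]) Y) : Q (X * z) Y := by
  rw [hz]; simpa only [V_o, mul_assoc] using h

noncomputable def r0_0 : El := mkD [nat_lit 69529026562, nat_lit 13194682712580, nat_lit 8830995955969, nat_lit 8796904686083, nat_lit 103353974912, nat_lit 13297227186436, nat_lit 17627351105793] [] [(TL, [3, 3, 1, 2, 2, 1, 1, 1, 1])] (by decide +kernel)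

theorem r0_0_s : io r0_0.g = ev s [29, 31, 31] := code_ev _ (by decide +kernel)

noncomputable def r0_1 : El := mkD [nat_lit 69264736516, nat_lit 13195213308292, nat_lit 13297757732867, nat_lit 4433486348672, nat_lit 13332121682177, nat_lit 138248519939, nat_lit 8830723293313] [] [(TL, [3, 3, 1, 2, 2, 1, 1])] (by decide +kernel)

theorem r0_1_s : io r0_1.g = ev s [29, 31] := code_ev _ (by decide +kernel)

noncomputable def r0_2 : El := mkD [nat_lit 17729629241474, nat_lit 4501132034561, nat_lit 4467573424128, nat_lit 69799526785, nat_lit 4398856044547, nat_lit 4398856028545, nat_lit 138250584448] [] [(TL, [3, 3, 1, 2, 2])] (by decide +kernel)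

theorem r0_2_s : io r0_2.g = ev s [29] := code_ev _ (by decide +kernel)

theorem rz0 : z = io r0_0.g * (z * (io r0_1.g * (z * (io r0_2.g)))) := by
  rw [r0_0_s, r0_1_s, r0_2_s]
  refine (rot_of [28, 20, 28, 20, 28, 20, 30] [28] [28, 20, 28, 20, 30] [29, 31, 31, 20, 29, 31, 20, 29] (by decide +kernel)).trans ?_
  simp only [ev_cons, ev_nil, mul_one, mul_assoc, z]

noncomputable def r1_0 : El := mkD [nat_lit 69264736516, nat_lit 13195213308292, nat_lit 13297757732867, nat_lit 4433486348672, nat_lit 13332121682177, nat_lit 138248519939, nat_lit 8830723293313] [] [(TL, [3, 3, 1, 2, 2, 1, 1])] (by decide +kernel)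

theorem r1_0_s : io r1_0.g = ev s [29, 31] := code_ev _ (by decide +kernel)

noncomputable def r1_1 : El := mkD [nat_lit 69529026562, nat_lit 13194682712580, nat_lit 8830995955969, nat_lit 8796904686083, nat_lit 103353974912, nat_lit 13297227186436, nat_lit 17627351105793] [] [(TL, [3, 3, 1, 2, 2, 1, 1, 1, 1])] (by decide +kernel)

theorem r1_1_s : io r1_1.g = ev s [29, 31, 31] := code_ev _ (by decide +kernel)

noncomputable def r1_2 : El := mkD [nat_lit 17729629241474, nat_lit 4501132034561, nat_lit 4467573424128, nat_lit 69799526785, nat_lit 4398856044547, nat_lit 4398856028545, nat_lit 138250584448] [] [(TL, [3, 3, 1, 2, 2])] (by decide +kernel)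

theorem r1_2_s : io r1_2.g = ev s [29] := code_ev _ (by decide +kernel)

theorem rz1 : z = io r1_0.g * (z * (io r1_1.g * (z * (io r1_2.g)))) := by
  rw [r1_0_s, r1_1_s, r1_2_s]
  refine (rot_of [28, 20, 28, 20, 28, 20, 30] [28, 20, 28] [28, 20, 30] [29, 31, 20, 29, 31, 31, 20, 29] (by decide +kernel)).trans ?_
  simp only [ev_cons, ev_nil, mul_one, mul_assoc, z]

noncomputable def r2_0 : El := mkD [nat_lit 69264736516, nat_lit 13195213308292, nat_lit 13297757732867, nat_lit 4433486348672, nat_lit 13332121682177, nat_lit 138248519939, nat_lit 8830723293313] [] [(TL, [3, 3, 1, 2, 2, 1, 1])] (by decide +kernel)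

theorem r2_0_s : io r2_0.g = ev s [29, 31] := code_ev _ (by decide +kernel)

noncomputable def r2_1 : El := mkD [nat_lit 69264736516, nat_lit 13195213308292, nat_lit 13297757732867, nat_lit 4433486348672, nat_lit 13332121682177, nat_lit 138248519939, nat_lit 8830723293313] [] [(TL, [3, 3, 1, 2, 2, 1, 1])] (by decide +kernel)

theorem r2_1_s : io r2_1.g = ev s [29, 31] := code_ev _ (by decide +kernel)

noncomputable def r2_2 : El := mkD [nat_lit 69264736516, nat_lit 13195213308292, nat_lit 13297757732867, nat_lit 4433486348672, nat_lit 13332121682177, nat_lit 138248519939, nat_lit 8830723293313] [] [(TL, [3, 3, 1, 2, 2, 1, 1])] (by decide +kernel)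

theorem r2_2_s : io r2_2.g = ev s [29, 31] := code_ev _ (by decide +kernel)

theorem rz2 : z = io r2_0.g * (z * (io r2_1.g * (z * (io r2_2.g)))) := by
  rw [r2_0_s, r2_1_s, r2_2_s]
  refine (rot_of [28, 20, 28, 20, 28, 20, 30] [28, 20, 28, 20, 28] [30] [29, 31, 20, 29, 31, 20, 29, 31] (by decide +kernel)).trans ?_
  simp only [ev_cons, ev_nil, mul_one, mul_assoc, z]

noncomputable def r3_0 : El := mkD [nat_lit 539017346, nat_lit 4501129920899, nat_lit 13332119601410, nat_lit 13331582697987, nat_lit 68994204034, nat_lit 17695273713923, nat_lit 4433488429571] [] [(TL, [6, 4, 3, 0, 4, 0, 6, 4, 1, 1])] (by decide +kernel)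

theorem r3_0_s : io r3_0.g = ev s [41, 31] := code_ev _ (by decide +kernel)

noncomputable def r3_1 : El := mkD [nat_lit 13297489297795, nat_lit 13297218748803, nat_lit 68992155908, nat_lit 8830725439745, nat_lit 8934073073924, nat_lit 8899709173888, nat_lit 17592729206785] [] [(TL, [2, 2, 0, 2, 4, 2, 2, 5, 1, 4, 0, 6, 4, 1, 2, 4, 1, 6, 4, 0, 1, 1])] (by decide +kernel)

theorem r3_1_s : io r3_1.g = ev s [71, 31] := code_ev _ (by decide +kernel)

noncomputable def r3_2 : El := mkD [nat_lit 4501396275457, nat_lit 13332654358912, nat_lit 8865626226688, nat_lit 34905047171, nat_lit 17627084784000, nat_lit 34902917508, nat_lit 8865626259969] [] [(TL, [2, 1, 3, 1, 2, 1, 4, 0, 2, 4, 3, 6, 4, 3, 0, 4, 2, 7, 0])] (by decide +kernel)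

theorem r3_2_s : io r3_2.g = ev s [63] := code_ev _ (by decide +kernel)

theorem rz3 : z = io r3_0.g * (z * (io r3_1.g * (z * (io r3_2.g)))) := by
  rw [r3_0_s, r3_1_s, r3_2_s]
  refine (rot_of [40, 20, 62, 20, 70, 20] [40] [62, 20, 70, 20] [41, 31, 20, 71, 31, 20, 63] (by decide +kernel)).trans ?_
  simp only [ev_cons, ev_nil, mul_one, mul_assoc, z]

noncomputable def r4_0 : El := mkD [nat_lit 17661442441731, nat_lit 8934077252096, nat_lit 17730434564099, nat_lit 13194951164420, nat_lit 8865089323140, nat_lit 8865357758720, nat_lit 13194412196228] [] [(TL, [2, 1, 3, 1, 2, 1, 4, 0, 2, 4, 3, 6, 4, 3, 0, 4, 2, 7, 0, 1, 1])] (by decide +kernel)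

theorem r4_0_s : io r4_0.g = ev s [63, 31] := code_ev _ (by decide +kernel)

noncomputable def r4_1 : El := mkD [nat_lit 539017346, nat_lit 4501129920899, nat_lit 13332119601410, nat_lit 13331582697987, nat_lit 68994204034, nat_lit 17695273713923, nat_lit 4433488429571] [] [(TL, [6, 4, 3, 0, 4, 0, 6, 4, 1, 1])] (by decide +kernel)

theorem r4_1_s : io r4_1.g = ev s [41, 31] := code_ev _ (by decide +kernel)

noncomputable def r4_2 : El := mkD [nat_lit 13263941189635, nat_lit 4432949412226, nat_lit 4466770231425, nat_lit 4501132017793, nat_lit 17695267389954, nat_lit 13298300895236, nat_lit 4536028676480] [] [(TL, [2, 2, 0, 2, 4, 2, 2, 5, 1, 4, 0, 6, 4, 1, 2, 4, 1, 6, 4, 0])] (by decide +kernel)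

theorem r4_2_s : io r4_2.g = ev s [71] := code_ev _ (by decide +kernel)

theorem rz4 : z = io r4_0.g * (z * (io r4_1.g * (z * (io r4_2.g)))) := by
  rw [r4_0_s, r4_1_s, r4_2_s]
  refine (rot_of [40, 20, 62, 20, 70, 20] [40, 20, 62] [70, 20] [63, 31, 20, 41, 31, 20, 71] (by decide +kernel)).trans ?_
  simp only [ev_cons, ev_nil, mul_one, mul_assoc, z]

noncomputable def r5_0 : El := mkD [nat_lit 13297489297795, nat_lit 13297218748803, nat_lit 68992155908, nat_lit 8830725439745, nat_lit 8934073073924, nat_lit 8899709173888, nat_lit 17592729206785] [] [(TL, [2, 2, 0, 2, 4, 2, 2, 5, 1, 4, 0, 6, 4, 1, 2, 4, 1, 6, 4, 0, 1, 1])] (by decide +kernel)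

theorem r5_0_s : io r5_0.g = ev s [71, 31] := code_ev _ (by decide +kernel)

noncomputable def r5_1 : El := mkD [nat_lit 17661442441731, nat_lit 8934077252096, nat_lit 17730434564099, nat_lit 13194951164420, nat_lit 8865089323140, nat_lit 8865357758720, nat_lit 13194412196228] [] [(TL, [2, 1, 3, 1, 2, 1, 4, 0, 2, 4, 3, 6, 4, 3, 0, 4, 2, 7, 0, 1, 1])] (by decide +kernel)

theorem r5_1_s : io r5_1.g = ev s [63, 31] := code_ev _ (by decide +kernel)

noncomputable def r5_2 : El := mkD [nat_lit 8831530696832, nat_lit 68996301056, nat_lit 4398587592706, nat_lit 8934341541891, nat_lit 4467848184323, nat_lit 17696343244928, nat_lit 807436546] [] [(TL, [6, 4, 3, 0, 4, 0, 6, 4])] (by decide +kernel)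

theorem r5_2_s : io r5_2.g = ev s [41] := code_ev _ (by decide +kernel)

theorem rz5 : z = io r5_0.g * (z * (io r5_1.g * (z * (io r5_2.g)))) := by
  rw [r5_0_s, r5_1_s, r5_2_s]
  refine (rot_of [40, 20, 62, 20, 70, 20] [40, 20, 62, 20, 70] [] [71, 31, 20, 63, 31, 20, 41] (by decide +kernel)).trans ?_
  simp only [ev_cons, ev_nil, mul_one, mul_assoc, z]

noncomputable def r7_0 : El := mkD [nat_lit 4467038650880, nat_lit 8899447030273, nat_lit 8934339428738, nat_lit 4433486348672, nat_lit 8831262310788, nat_lit 17661983523075, nat_lit 13298298830852] [] [(TL, [0, 0, 6, 1, 1])] (by decide +kernel)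

theorem r7_0_s : io r7_0.g = ev s [30, 35, 31] := code_ev _ (by decide +kernel)

noncomputable def r7_1 : El := mkD [nat_lit 13297487184001, nat_lit 8831530729858, nat_lit 8899711221889, nat_lit 4467036520708, nat_lit 4535491772420, nat_lit 13331855360001, nat_lit 4433211605122] [] [(TL, [0, 0, 5, 3, 5, 7, 2, 2, 5, 7, 2, 5, 3, 5, 1, 4, 3, 3, 0, 3, 3, 0, 3, 1, 1, 1])] (by decide +kernel)

theorem r7_1_s : io r7_1.g = ev s [30, 39, 31] := code_ev _ (by decide +kernel)

noncomputable def r7_2 : El := mkD [nat_lit 4467311247876, nat_lit 8900246028546, nat_lit 4467573457410, nat_lit 69799526785, nat_lit 17592729255938, nat_lit 17729629208835, nat_lit 17730700836868] [] [(TL, [7, 1, 1])] (by decide +kernel)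

theorem r7_2_s : io r7_2.g = ev s [33, 31] := code_ev _ (by decide +kernel)

noncomputable def r7_3 : El := mkD [nat_lit 13332117504514, nat_lit 8899979706883, nat_lit 13332392215042, nat_lit 17696343212418, nat_lit 137713680896, nat_lit 8934339445123, nat_lit 4501127823744] [] [(TL, [2, 1, 2, 2, 1, 2, 4, 2, 0, 3, 6, 4, 2, 0, 3, 6, 4, 0])] (by decide +kernel)

theorem r7_3_s : io r7_3.g = ev s [73] := code_ev _ (by decide +kernel)

theorem rz7 : z = io r7_0.g * (z * (io r7_1.g * (z * (io r7_2.g * (z * (io r7_3.g)))))) := by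
  rw [r7_0_s, r7_1_s, r7_2_s, r7_3_s]
  refine (rot_of [21, 34, 21, 72, 20, 32, 20, 38] [31, 20, 34, 31] [72, 20, 32, 20, 38] [30, 35, 31, 20, 30, 39, 31, 20, 33, 31, 20, 73] (by decide +kernel)).trans ?_
  simp only [ev_cons, ev_nil, mul_one, mul_assoc, z]

noncomputable def r8_0 : El := mkD [nat_lit 103622377730, nat_lit 13194676436994, nat_lit 17626547913089, nat_lit 13298300911620, nat_lit 4433482154500, nat_lit 4398587593218, nat_lit 17593266143746] [] [(TL, [2, 1, 2, 2, 1, 2, 4, 2, 0, 3, 6, 4, 2, 0, 3, 6, 4, 0, 1, 1])] (by decide +kernel)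

theorem r8_0_s : io r8_0.g = ev s [73, 31] := code_ev _ (by decide +kernel)

noncomputable def r8_1 : El := mkD [nat_lit 4467038650880, nat_lit 8899447030273, nat_lit 8934339428738, nat_lit 4433486348672, nat_lit 8831262310788, nat_lit 17661983523075, nat_lit 13298298830852] [] [(TL, [0, 0, 6, 1, 1])] (by decide +kernel)

theorem r8_1_s : io r8_1.g = ev s [30, 35, 31] := code_ev _ (by decide +kernel)

noncomputable def r8_2 : El := mkD [nat_lit 13297487184001, nat_lit 8831530729858, nat_lit 8899711221889, nat_lit 4467036520708, nat_lit 4535491772420, nat_lit 13331855360001, nat_lit 4433211605122] [] [(TL, [0, 0, 5, 3, 5, 7, 2, 2, 5, 7, 2, 5, 3, 5, 1, 4, 3, 3, 0, 3, 3, 0, 3, 1, 1, 1])] (by decide +kernel)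

theorem r8_2_s : io r8_2.g = ev s [30, 39, 31] := code_ev _ (by decide +kernel)

noncomputable def r8_3 : El := mkD [nat_lit 4467038650880, nat_lit 8899447030273, nat_lit 8934339428738, nat_lit 4433486348672, nat_lit 8831262310788, nat_lit 17661983523075, nat_lit 13298298830852] [] [(TL, [7])] (by decide +kernel)

theorem r8_3_s : io r8_3.g = ev s [33] := code_ev _ (by decide +kernel)

theorem rz8 : z = io r8_0.g * (z * (io r8_1.g * (z * (io r8_2.g * (z * (io r8_3.g)))))) := by
  rw [r8_0_s, r8_1_s, r8_2_s, r8_3_s]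
  refine (rot_of [21, 34, 21, 72, 20, 32, 20, 38] [31, 20, 34, 31, 20, 72] [32, 20, 38] [73, 31, 20, 30, 35, 31, 20, 30, 39, 31, 20, 33] (by decide +kernel)).trans ?_
  simp only [ev_cons, ev_nil, mul_one, mul_assoc, z]

noncomputable def r9_0 : El := mkD [nat_lit 4467311247876, nat_lit 8900246028546, nat_lit 4467573457410, nat_lit 69799526785, nat_lit 17592729255938, nat_lit 17729629208835, nat_lit 17730700836868] [] [(TL, [7, 1, 1])] (by decide +kernel)

theorem r9_0_s : io r9_0.g = ev s [33, 31] := code_ev _ (by decide +kernel)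

noncomputable def r9_1 : El := mkD [nat_lit 103622377730, nat_lit 13194676436994, nat_lit 17626547913089, nat_lit 13298300911620, nat_lit 4433482154500, nat_lit 4398587593218, nat_lit 17593266143746] [] [(TL, [2, 1, 2, 2, 1, 2, 4, 2, 0, 3, 6, 4, 2, 0, 3, 6, 4, 0, 1, 1])] (by decide +kernel)

theorem r9_1_s : io r9_1.g = ev s [73, 31] := code_ev _ (by decide +kernel)

noncomputable def r9_2 : El := mkD [nat_lit 4467038650880, nat_lit 8899447030273, nat_lit 8934339428738, nat_lit 4433486348672, nat_lit 8831262310788, nat_lit 17661983523075, nat_lit 13298298830852] [] [(TL, [0, 0, 6, 1, 1])] (by decide +kernel)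

theorem r9_2_s : io r9_2.g = ev s [30, 35, 31] := code_ev _ (by decide +kernel)

noncomputable def r9_3 : El := mkD [nat_lit 13297489346946, nat_lit 4398050705412, nat_lit 8933804605952, nat_lit 35435626756, nat_lit 13331580616706, nat_lit 4501129937283, nat_lit 35437740291] [] [(TL, [0, 0, 5, 3, 5, 7, 2, 2, 5, 7, 2, 5, 3, 5, 1, 4, 3, 3, 0, 3, 3, 0, 3, 1])] (by decide +kernel)

theorem r9_3_s : io r9_3.g = ev s [30, 39] := code_ev _ (by decide +kernel)

theorem rz9 : z = io r9_0.g * (z * (io r9_1.g * (z * (io r9_2.g * (z * (io r9_3.g)))))) := by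
  rw [r9_0_s, r9_1_s, r9_2_s, r9_3_s]
  refine (rot_of [21, 34, 21, 72, 20, 32, 20, 38] [31, 20, 34, 31, 20, 72, 20, 32] [38] [33, 31, 20, 73, 31, 20, 30, 35, 31, 20, 30, 39] (by decide +kernel)).trans ?_
  simp only [ev_cons, ev_nil, mul_one, mul_assoc, z]

noncomputable def r10_0 : El := mkD [nat_lit 13195221713283, nat_lit 8796632023553, nat_lit 13298292555908, nat_lit 4535753965568, nat_lit 17695810519169, nat_lit 13332385890820, nat_lit 4501937373184] [] [(TL, [0, 3, 0, 2, 2, 0, 5, 0, 2, 1, 6, 4, 0, 5, 3, 5, 1, 6, 1, 1])] (by decide +kernel)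

theorem r10_0_s : io r10_0.g = ev s [75, 31] := code_ev _ (by decide +kernel)

noncomputable def r10_1 : El := mkD [nat_lit 137980051457, nat_lit 4536567595268, nat_lit 4501396275714, nat_lit 13229573014017, nat_lit 8899717562626, nat_lit 4536292868356, nat_lit 8934075187329] [] [(TL, [0, 0, 2, 0, 3, 1, 3, 3, 1, 3, 4, 2, 2, 4, 2, 6, 4, 3, 3, 6, 4, 2, 4, 1, 1])] (by decide +kernel)

theorem r10_1_s : io r10_1.g = ev s [30, 69, 31] := code_ev _ (by decide +kernel)

noncomputable def r10_2 : El := mkD [nat_lit 8796095185411, nat_lit 68987977986, nat_lit 8797168926976, nat_lit 17627353186817, nat_lit 104152956931, nat_lit 4501129969668, nat_lit 8934068895876] [] [(TL, [0, 0, 6, 2, 5, 0, 5, 1, 5, 7, 4, 4, 0, 3, 4, 3, 5, 0, 2, 2, 1, 1, 1])] (by decide +kernel)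

theorem r10_2_s : io r10_2.g = ev s [30, 65, 31] := code_ev _ (by decide +kernel)

noncomputable def r10_3 : El := mkD [nat_lit 17729625014272, nat_lit 4398858141699, nat_lit 17592456609793, nat_lit 13297757749250, nat_lit 34632401284, nat_lit 17695273648257, nat_lit 138519019652] [] [(TL, [5, 3, 5, 7, 2, 2, 5, 7, 3, 5, 3, 3, 5, 2, 0, 2, 2, 0, 2, 1, 3])] (by decide +kernel)

theorem r10_3_s : io r10_3.g = ev s [67] := code_ev _ (by decide +kernel)

theorem rz10 : z = io r10_0.g * (z * (io r10_1.g * (z * (io r10_2.g * (z * (io r10_3.g)))))) := by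
  rw [r10_0_s, r10_1_s, r10_2_s, r10_3_s]
  refine (rot_of [20, 66, 20, 64, 21, 68, 21, 74] [] [66, 20, 64, 31, 20, 68, 31, 20, 74] [75, 31, 20, 30, 69, 31, 20, 30, 65, 31, 20, 67] (by decide +kernel)).trans ?_
  simp only [ev_cons, ev_nil, mul_one, mul_assoc, z]

noncomputable def r11_0 : El := mkD [nat_lit 17695810568322, nat_lit 34898722945, nat_lit 17696072695938, nat_lit 13331578487296, nat_lit 8900248142337, nat_lit 4432410493314, nat_lit 8865892532608] [] [(TL, [5, 3, 5, 7, 2, 2, 5, 7, 3, 5, 3, 3, 5, 2, 0, 2, 2, 0, 2, 1, 3, 1, 1])] (by decide +kernel)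

theorem r11_0_s : io r11_0.g = ev s [67, 31] := code_ev _ (by decide +kernel)

noncomputable def r11_1 : El := mkD [nat_lit 13195221713283, nat_lit 8796632023553, nat_lit 13298292555908, nat_lit 4535753965568, nat_lit 17695810519169, nat_lit 13332385890820, nat_lit 4501937373184] [] [(TL, [0, 3, 0, 2, 2, 0, 5, 0, 2, 1, 6, 4, 0, 5, 3, 5, 1, 6, 1, 1])] (by decide +kernel)

theorem r11_1_s : io r11_1.g = ev s [75, 31] := code_ev _ (by decide +kernel)

noncomputable def r11_2 : El := mkD [nat_lit 137980051457, nat_lit 4536567595268, nat_lit 4501396275714, nat_lit 13229573014017, nat_lit 8899717562626, nat_lit 4536292868356, nat_lit 8934075187329] [] [(TL, [0, 0, 2, 0, 3, 1, 3, 3, 1, 3, 4, 2, 2, 4, 2, 6, 4, 3, 3, 6, 4, 2, 4, 1, 1])] (by decide +kernel)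

theorem r11_2_s : io r11_2.g = ev s [30, 69, 31] := code_ev _ (by decide +kernel)

noncomputable def r11_3 : El := mkD [nat_lit 274792836, nat_lit 539017473, nat_lit 17661715022082, nat_lit 4501396292096, nat_lit 4502201565185, nat_lit 8865081000321, nat_lit 13229575143425] [] [(TL, [0, 0, 6, 2, 5, 0, 5, 1, 5, 7, 4, 4, 0, 3, 4, 3, 5, 0, 2, 2, 1])] (by decide +kernel)

theorem r11_3_s : io r11_3.g = ev s [30, 65] := code_ev _ (by decide +kernel)

theorem rz11 : z = io r11_0.g * (z * (io r11_1.g * (z * (io r11_2.g * (z * (io r11_3.g)))))) := by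
  rw [r11_0_s, r11_1_s, r11_2_s, r11_3_s]
  refine (rot_of [20, 66, 20, 64, 21, 68, 21, 74] [20, 66] [64, 31, 20, 68, 31, 20, 74] [67, 31, 20, 75, 31, 20, 30, 69, 31, 20, 30, 65] (by decide +kernel)).trans ?_
  simp only [ev_cons, ev_nil, mul_one, mul_assoc, z]

noncomputable def r12_0 : El := mkD [nat_lit 8796095185411, nat_lit 68987977986, nat_lit 8797168926976, nat_lit 17627353186817, nat_lit 104152956931, nat_lit 4501129969668, nat_lit 8934068895876] [] [(TL, [0, 0, 6, 2, 5, 0, 5, 1, 5, 7, 4, 4, 0, 3, 4, 3, 5, 0, 2, 2, 1, 1, 1])] (by decide +kernel)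

theorem r12_0_s : io r12_0.g = ev s [30, 65, 31] := code_ev _ (by decide +kernel)

noncomputable def r12_1 : El := mkD [nat_lit 17695810568322, nat_lit 34898722945, nat_lit 17696072695938, nat_lit 13331578487296, nat_lit 8900248142337, nat_lit 4432410493314, nat_lit 8865892532608] [] [(TL, [5, 3, 5, 7, 2, 2, 5, 7, 3, 5, 3, 3, 5, 2, 0, 2, 2, 0, 2, 1, 3, 1, 1])] (by decide +kernel)

theorem r12_1_s : io r12_1.g = ev s [67, 31] := code_ev _ (by decide +kernel)

noncomputable def r12_2 : El := mkD [nat_lit 13195221713283, nat_lit 8796632023553, nat_lit 13298292555908, nat_lit 4535753965568, nat_lit 17695810519169, nat_lit 13332385890820, nat_lit 4501937373184] [] [(TL, [0, 3, 0, 2, 2, 0, 5, 0, 2, 1, 6, 4, 0, 5, 3, 5, 1, 6, 1, 1])] (by decide +kernel)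

theorem r12_2_s : io r12_2.g = ev s [75, 31] := code_ev _ (by decide +kernel)

noncomputable def r12_3 : El := mkD [nat_lit 17593261916674, nat_lit 8830993858691, nat_lit 8899977609220, nat_lit 8865617854980, nat_lit 13332115423488, nat_lit 17627623735682, nat_lit 8934068863360] [] [(TL, [0, 0, 2, 0, 3, 1, 3, 3, 1, 3, 4, 2, 2, 4, 2, 6, 4, 3, 3, 6, 4, 2, 4])] (by decide +kernel)

theorem r12_3_s : io r12_3.g = ev s [30, 69] := code_ev _ (by decide +kernel)

theorem rz12 : z = io r12_0.g * (z * (io r12_1.g * (z * (io r12_2.g * (z * (io r12_3.g)))))) := by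
  rw [r12_0_s, r12_1_s, r12_2_s, r12_3_s]
  refine (rot_of [20, 66, 20, 64, 21, 68, 21, 74] [20, 66, 20, 64, 31] [68, 31, 20, 74] [30, 65, 31, 20, 67, 31, 20, 75, 31, 20, 30, 69] (by decide +kernel)).trans ?_
  simp only [ev_cons, ev_nil, mul_one, mul_assoc, z]

noncomputable def r13_0 : El := mkD [nat_lit 137980051457, nat_lit 4536567595268, nat_lit 4501396275714, nat_lit 13229573014017, nat_lit 8899717562626, nat_lit 4536292868356, nat_lit 8934075187329] [] [(TL, [0, 0, 2, 0, 3, 1, 3, 3, 1, 3, 4, 2, 2, 4, 2, 6, 4, 3, 3, 6, 4, 2, 4, 1, 1])] (by decide +kernel)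

theorem r13_0_s : io r13_0.g = ev s [30, 69, 31] := code_ev _ (by decide +kernel)

noncomputable def r13_1 : El := mkD [nat_lit 8796095185411, nat_lit 68987977986, nat_lit 8797168926976, nat_lit 17627353186817, nat_lit 104152956931, nat_lit 4501129969668, nat_lit 8934068895876] [] [(TL, [0, 0, 6, 2, 5, 0, 5, 1, 5, 7, 4, 4, 0, 3, 4, 3, 5, 0, 2, 2, 1, 1, 1])] (by decide +kernel)

theorem r13_1_s : io r13_1.g = ev s [30, 65, 31] := code_ev _ (by decide +kernel)

noncomputable def r13_2 : El := mkD [nat_lit 17695810568322, nat_lit 34898722945, nat_lit 17696072695938, nat_lit 13331578487296, nat_lit 8900248142337, nat_lit 4432410493314, nat_lit 8865892532608] [] [(TL, [5, 3, 5, 7, 2, 2, 5, 7, 3, 5, 3, 3, 5, 2, 0, 2, 2, 0, 2, 1, 3, 1, 1])] (by decide +kernel)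

theorem r13_2_s : io r13_2.g = ev s [67, 31] := code_ev _ (by decide +kernel)

noncomputable def r13_3 : El := mkD [nat_lit 4536292901250, nat_lit 8830461215106, nat_lit 8831260196995, nat_lit 4535491772932, nat_lit 4398853915009, nat_lit 13297222942976, nat_lit 13297764041219] [] [(TL, [0, 3, 0, 2, 2, 0, 5, 0, 2, 1, 6, 4, 0, 5, 3, 5, 1, 6])] (by decide +kernel)

theorem r13_3_s : io r13_3.g = ev s [75] := code_ev _ (by decide +kernel)

theorem rz13 : z = io r13_0.g * (z * (io r13_1.g * (z * (io r13_2.g * (z * (io r13_3.g)))))) := by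
  rw [r13_0_s, r13_1_s, r13_2_s, r13_3_s]
  refine (rot_of [20, 66, 20, 64, 21, 68, 21, 74] [20, 66, 20, 64, 31, 20, 68, 31] [74] [30, 69, 31, 20, 30, 65, 31, 20, 67, 31, 20, 75] (by decide +kernel)).trans ?_
  simp only [ev_cons, ev_nil, mul_one, mul_assoc, z]

noncomputable def r14_0 : El := mkD [nat_lit 34628206852, nat_lit 4398052835460, nat_lit 4536565514240, nat_lit 8899981738369, nat_lit 4502205809156, nat_lit 137447407746, nat_lit 137447342211] [] [(TL, [3, 0, 2, 0, 2, 5, 1, 5, 0, 5, 6, 4, 3, 5, 0, 4, 1, 1])] (by decide +kernel)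

theorem r14_0_s : io r14_0.g = ev s [77, 31] := code_ev _ (by decide +kernel)

noncomputable def r14_1 : El := mkD [nat_lit 35437674624, nat_lit 8934075171076, nat_lit 8899979641216, nat_lit 17592725062017, nat_lit 13332119568640, nat_lit 4467575521668, nat_lit 4433484251268] [] [(TL, [0, 0, 2, 6, 1, 1])] (by decide +kernel)

theorem r14_1_s : io r14_1.g = ev s [30, 45, 31] := code_ev _ (by decide +kernel)

noncomputable def r14_2 : El := mkD [nat_lit 69797429252, nat_lit 4399124480513, nat_lit 13298032476289, nat_lit 8865353564288, nat_lit 8934612025604, nat_lit 1082196225, nat_lit 8864820903939] [] [(TL, [0, 0, 3, 5, 0, 3, 3, 4, 7, 4, 0, 5, 1, 4, 3, 3, 0, 2, 0, 3, 3, 1, 1])] (by decide +kernel)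

theorem r14_2_s : io r14_2.g = ev s [30, 37, 31] := code_ev _ (by decide +kernel)

noncomputable def r14_3 : El := mkD [nat_lit 103890829698, nat_lit 8864818806915, nat_lit 8796900442500, nat_lit 4467036553729, nat_lit 13298294636929, nat_lit 4466766021123, nat_lit 8797173055874] [] [(TL, [7, 3])] (by decide +kernel)

theorem r14_3_s : io r14_3.g = ev s [43] := code_ev _ (by decide +kernel)

theorem rz14 : z = io r14_0.g * (z * (io r14_1.g * (z * (io r14_2.g * (z * (io r14_3.g)))))) := by
  rw [r14_0_s, r14_1_s, r14_2_s, r14_3_s]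
  refine (rot_of [20, 42, 20, 36, 21, 44, 21, 76] [] [42, 20, 36, 31, 20, 44, 31, 20, 76] [77, 31, 20, 30, 45, 31, 20, 30, 37, 31, 20, 43] (by decide +kernel)).trans ?_
  simp only [ev_cons, ev_nil, mul_one, mul_assoc, z]

noncomputable def r15_0 : El := mkD [nat_lit 17730436645251, nat_lit 4398321238148, nat_lit 1082195968, nat_lit 17729633436164, nat_lit 17660905587202, nat_lit 4432406249601, nat_lit 34359738369] [] [(TL, [7, 3, 1, 1])] (by decide +kernel)

theorem r15_0_s : io r15_0.g = ev s [43, 31] := code_ev _ (by decide +kernel)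

noncomputable def r15_1 : El := mkD [nat_lit 34628206852, nat_lit 4398052835460, nat_lit 4536565514240, nat_lit 8899981738369, nat_lit 4502205809156, nat_lit 137447407746, nat_lit 137447342211] [] [(TL, [3, 0, 2, 0, 2, 5, 1, 5, 0, 5, 6, 4, 3, 5, 0, 4, 1, 1])] (by decide +kernel)

theorem r15_1_s : io r15_1.g = ev s [77, 31] := code_ev _ (by decide +kernel)

noncomputable def r15_2 : El := mkD [nat_lit 35437674624, nat_lit 8934075171076, nat_lit 8899979641216, nat_lit 17592725062017, nat_lit 13332119568640, nat_lit 4467575521668, nat_lit 4433484251268] [] [(TL, [0, 0, 2, 6, 1, 1])] (by decide +kernel)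

theorem r15_2_s : io r15_2.g = ev s [30, 45, 31] := code_ev _ (by decide +kernel)

noncomputable def r15_3 : El := mkD [nat_lit 8830727553155, nat_lit 13263400141056, nat_lit 69531091202, nat_lit 4536026595714, nat_lit 17661710893572, nat_lit 13229036159232, nat_lit 17661182361857] [] [(TL, [0, 0, 3, 5, 0, 3, 3, 4, 7, 4, 0, 5, 1, 4, 3, 3, 0, 2, 0, 3, 3])] (by decide +kernel)

theorem r15_3_s : io r15_3.g = ev s [30, 37] := code_ev _ (by decide +kernel)

theorem rz15 : z = io r15_0.g * (z * (io r15_1.g * (z * (io r15_2.g * (z * (io r15_3.g)))))) := by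
  rw [r15_0_s, r15_1_s, r15_2_s, r15_3_s]
  refine (rot_of [20, 42, 20, 36, 21, 44, 21, 76] [20, 42] [36, 31, 20, 44, 31, 20, 76] [43, 31, 20, 77, 31, 20, 30, 45, 31, 20, 30, 37] (by decide +kernel)).trans ?_
  simp only [ev_cons, ev_nil, mul_one, mul_assoc, z]



end Cfsg.Agent.Comp.Ly
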